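import Mathlib
import Groth.Prelude.Def_GrLC

/-! Basic constructions in the category of graded modules: components of homogeneous maps, graded
submodules, quotients and shifts. -/

set_option autoImplicit false
set_option linter.style.haveILetI false
set_option linter.unusedSectionVars false
universe u

namespace GrInjLib

open DirectSum

section Decomp

variable {ι : Type} [DecidableEq ι] {X : Type u} [AddCommGroup X] (𝒳 : ι → AddSubgroup X)

/-- An internal direct sum criterion: projections and generation. -/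
theorem isInternal_of_proj (π : ι → X →+ X) (hsame : ∀ g, ∀ x ∈ 𝒳 g, π g x = x)
    (hne : ∀ g h, h ≠ g → ∀ x ∈ 𝒳 h, π g x = 0) (hspan : ∀ x : X, x ∈ ⨆ g, 𝒳 g) :
    DirectSum.IsInternal 𝒳 := by
  classical
  constructor
  · intro a b hab
    have key : ∀ (d : ⨁ i, 𝒳 i) g, π g (DirectSum.coeAddMonoidHom 𝒳 d) = (d g : X) := by
      intro d g
      induction d using DirectSum.induction_on with
      | zero => simp
      | of i a =>
        rw [coeAddMonoidHom_of]
        by_cases h : i = g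
        · subst h; rw [DirectSum.of_eq_same, hsame _ _ a.2]
        · rw [DirectSum.of_eq_of_ne _ _ _ (Ne.symm h), hne g i h _ a.2]; rfl
      | add x y hx hy => rw [map_add, map_add, hx, hy]; rfl
    refine DFinsupp.ext fun g => Subtype.ext ?_
    rw [← key, ← key]
    exact congrArg _ hab
  · intro x
    induction hspan x using AddSubgroup.iSup_induction' with
    | hp i x hx => exact ⟨DirectSum.of _ i ⟨x, hx⟩, DirectSum.coeAddMonoidHom_of _ _ _⟩
    | h1 => exact ⟨0, map_zero _⟩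
    | hadd x y _ _ hx hy =>
      obtain ⟨a, rfl⟩ := hx; obtain ⟨b, rfl⟩ := hy
      exact ⟨a + b, map_add _ _ _⟩

variable [Decomposition 𝒳]

/-- The component as an endomorphism. -/
def proj (g : ι) : X →+ X where
  toFun x := (decompose 𝒳 x g : X)
  map_zero' := by simp
  map_add' x y := by simp

@[simp] theorem proj_apply (g : ι) (x : X) : proj 𝒳 g x = (decompose 𝒳 x g : X) := rfl

theorem proj_mem (g : ι) (x : X) : proj 𝒳 g x ∈ 𝒳 g := SetLike.coe_mem _

theorem proj_of_mem {g : ι} {x : X} (hx : x ∈ 𝒳 g) : proj 𝒳 g x = x := decompose_of_mem_same 𝒳 hx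

theorem proj_of_mem_ne {g h : ι} {x : X} (hx : x ∈ 𝒳 h) (hne : h ≠ g) : proj 𝒳 g x = 0 :=
  decompose_of_mem_ne 𝒳 hx hne

theorem mem_iSup_self (x : X) : x ∈ ⨆ g, 𝒳 g := by
  induction x using DirectSum.Decomposition.inductionOn 𝒳 with
  | zero => exact zero_mem _
  | @homogeneous i m => exact AddSubgroup.mem_iSup_of_mem i m.2
  | add a b ha hb => exact add_mem ha hb

theorem eq_zero_of_proj (x : X) (h : ∀ g, proj 𝒳 g x = 0) : x = 0 := by
  apply (decompose 𝒳).injective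
  rw [decompose_zero]
  exact DFinsupp.ext fun g => Subtype.ext (h g)

theorem exists_proj_ne (x : X) (hx : x ≠ 0) : ∃ g, proj 𝒳 g x ≠ 0 := by
  by_contra h
  push Not at h
  exact hx (eq_zero_of_proj 𝒳 x h)

end Decomp

variable {ι : Type} [AddCommGroup ι] [DecidableEq ι] {R : Type u} [CommRing R]
  {σ : Type u} [SetLike σ R] [AddSubgroupClass σ R] (𝒜 : ι → σ) [GradedRing 𝒜]
  {M : Type u} [AddCommGroup M] [Module R M] (ℳ : ι → AddSubgroup M)
  [Decomposition ℳ] [SetLike.GradedSMul 𝒜 ℳ]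
  {N : Type u} [AddCommGroup N] [Module R N] (𝒩 : ι → AddSubgroup N)
  [Decomposition 𝒩] [SetLike.GradedSMul 𝒜 𝒩]

theorem smul_mem {a b : ι} {r : R} {m : M} (hr : r ∈ 𝒜 a) (hm : m ∈ ℳ b) : r • m ∈ ℳ (a + b) :=
  SetLike.GradedSMul.smul_mem (A := 𝒜) (B := ℳ) hr hm

/-- Components of the product with a homogeneous scalar. -/
theorem proj_smul {a : ι} {r : R} (hr : r ∈ 𝒜 a) (m : M) (g : ι) :
    proj ℳ (a + g) (r • m) = r • proj ℳ g m := by
  induction m using DirectSum.Decomposition.inductionOn ℳ with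
  | zero => simp only [smul_zero, map_zero]
  | @homogeneous i x =>
    have h := smul_mem 𝒜 ℳ hr x.2
    by_cases hi : i = g
    · subst hi; rw [proj_of_mem ℳ h, proj_of_mem ℳ x.2]
    · rw [proj_of_mem_ne ℳ h (fun e => hi (add_left_cancel e)), proj_of_mem_ne ℳ x.2 hi, smul_zero]
  | add x y hx hy => rw [smul_add, map_add, map_add, smul_add, hx, hy]

/-- To be compatible with scalars it is enough to be so with homogeneous scalars. -/
theorem smul_induction {P : R → Prop} (h0 : P 0) (hadd : ∀ r s, P r → P s → P (r + s))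
    (hhom : ∀ a, ∀ r ∈ 𝒜 a, P r) (r : R) : P r := by
  induction r using DirectSum.Decomposition.inductionOn 𝒜 with
  | zero => exact h0
  | @homogeneous i m => exact hhom i _ m.2
  | add a b ha hb => exact hadd _ _ ha hb

section Maps

omit [SetLike.GradedSMul 𝒜 ℳ] [SetLike.GradedSMul 𝒜 𝒩] in
/-- Components of the image under a homogeneous map. -/
theorem proj_map {f : M →ₗ[R] N} {d : ι} (hf : GrLC.IsGrHomDeg ℳ 𝒩 f d) (m : M) (g : ι) :
    proj 𝒩 (g + d) (f m) = f (proj ℳ g m) := by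
  induction m using DirectSum.Decomposition.inductionOn ℳ with
  | zero => simp only [map_zero]
  | @homogeneous i x =>
    by_cases hi : i = g
    · subst hi; rw [proj_of_mem 𝒩 (hf i _ x.2), proj_of_mem ℳ x.2]
    · rw [proj_of_mem_ne 𝒩 (hf i _ x.2) (fun e => hi (add_right_cancel e)),
        proj_of_mem_ne ℳ x.2 hi, map_zero]
  | add x y hx hy => simp only [map_add, hx, hy]

omit [Decomposition ℳ] [SetLike.GradedSMul 𝒜 ℳ] [Decomposition 𝒩] [SetLike.GradedSMul 𝒜 𝒩] in
theorem isGrHom_iff {f : M →ₗ[R] N} : GrLC.IsGrHom ℳ 𝒩 f ↔ GrLC.IsGrHomDeg ℳ 𝒩 f 0 := by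
  simp [GrLC.IsGrHom, GrLC.IsGrHomDeg]

omit [SetLike.GradedSMul 𝒜 ℳ] [SetLike.GradedSMul 𝒜 𝒩] in
theorem proj_map₀ {f : M →ₗ[R] N} (hf : GrLC.IsGrHom ℳ 𝒩 f) (m : M) (g : ι) :
    proj 𝒩 g (f m) = f (proj ℳ g m) := by
  have := proj_map ℳ 𝒩 ((isGrHom_iff ℳ 𝒩).1 hf) m g
  rwa [add_zero] at this

omit [Decomposition 𝒩] [SetLike.GradedSMul 𝒜 𝒩] [SetLike.GradedSMul 𝒜 ℳ] in
theorem ext_homogeneous {f f' : M →ₗ[R] N} (h : ∀ g, ∀ m ∈ ℳ g, f m = f' m) : f = f' := by
  refine LinearMap.ext fun m => ?_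
  induction m using DirectSum.Decomposition.inductionOn ℳ with
  | zero => simp only [map_zero]
  | @homogeneous i x => exact h i _ x.2
  | add x y hx hy => rw [map_add, map_add, hx, hy]

omit [SetLike.GradedSMul 𝒜 ℳ] in
theorem mem_homogeneous {P : Submodule R M} (hP : P.IsHomogeneous ℳ) {x : M} (hx : x ∈ P) (g : ι) :
    proj ℳ g x ∈ P := hP g hx

omit [SetLike.GradedSMul 𝒜 ℳ] in
theorem mem_of_proj_mem {P : Submodule R M} {x : M} (h : ∀ g, proj ℳ g x ∈ P) : x ∈ P := by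
  classical
  rw [← DirectSum.sum_support_decompose ℳ x]
  exact Submodule.sum_mem _ fun g _ => h g

omit [SetLike.GradedSMul 𝒜 ℳ] [SetLike.GradedSMul 𝒜 𝒩] in
theorem ker_homogeneous {f : M →ₗ[R] N} {d : ι} (hf : GrLC.IsGrHomDeg ℳ 𝒩 f d) :
    (LinearMap.ker f).IsHomogeneous ℳ := fun g x hx => by
  show f (proj ℳ g x) = 0
  rw [← proj_map ℳ 𝒩 hf, LinearMap.mem_ker.1 hx, map_zero]

omit [SetLike.GradedSMul 𝒜 ℳ] [SetLike.GradedSMul 𝒜 𝒩] in
theorem range_homogeneous {f : M →ₗ[R] N} {d : ι} (hf : GrLC.IsGrHomDeg ℳ 𝒩 f d) :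
    (LinearMap.range f).IsHomogeneous 𝒩 := fun g x hx => by
  obtain ⟨m, rfl⟩ := hx
  refine ⟨proj ℳ (g - d) m, ?_⟩
  rw [← proj_map ℳ 𝒩 hf, sub_add_cancel]
  rfl

omit [SetLike.GradedSMul 𝒜 ℳ] [SetLike.GradedSMul 𝒜 𝒩] in
theorem map_homogeneous {f : M →ₗ[R] N} {d : ι} (hf : GrLC.IsGrHomDeg ℳ 𝒩 f d) {P : Submodule R M}
    (hP : P.IsHomogeneous ℳ) : (P.map f).IsHomogeneous 𝒩 := fun g x hx => by
  obtain ⟨m, hm, rfl⟩ := hx
  refine ⟨proj ℳ (g - d) m, mem_homogeneous ℳ hP hm _, ?_⟩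
  rw [← proj_map ℳ 𝒩 hf, sub_add_cancel]
  rfl

omit [SetLike.GradedSMul 𝒜 ℳ] [SetLike.GradedSMul 𝒜 𝒩] in
theorem comap_homogeneous {f : M →ₗ[R] N} {d : ι} (hf : GrLC.IsGrHomDeg ℳ 𝒩 f d) {P : Submodule R N}
    (hP : P.IsHomogeneous 𝒩) : (P.comap f).IsHomogeneous ℳ := fun g x hx => by
  show f (proj ℳ g x) ∈ P
  rw [← proj_map ℳ 𝒩 hf]
  exact mem_homogeneous 𝒩 hP hx _

omit [SetLike.GradedSMul 𝒜 ℳ] in
theorem inf_homogeneous {P Q : Submodule R M} (hP : P.IsHomogeneous ℳ) (hQ : Q.IsHomogeneous ℳ) :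
    (P ⊓ Q).IsHomogeneous ℳ := fun g _ hx => ⟨hP g hx.1, hQ g hx.2⟩

omit [SetLike.GradedSMul 𝒜 ℳ] in
theorem sup_homogeneous {P Q : Submodule R M} (hP : P.IsHomogeneous ℳ) (hQ : Q.IsHomogeneous ℳ) :
    (P ⊔ Q).IsHomogeneous ℳ := fun g x hx => by
  obtain ⟨p, hp, q, hq, rfl⟩ := Submodule.mem_sup.1 hx
  show proj ℳ g (p + q) ∈ P ⊔ Q
  rw [map_add]
  exact add_mem (Submodule.mem_sup_left (hP g hp)) (Submodule.mem_sup_right (hQ g hq))

omit [SetLike.GradedSMul 𝒜 ℳ] in
theorem iSup_homogeneous {κ : Sort*} {P : κ → Submodule R M} (hP : ∀ k, (P k).IsHomogeneous ℳ) :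
    (⨆ k, P k).IsHomogeneous ℳ := fun g x hx => by
  show proj ℳ g x ∈ ⨆ k, P k
  induction hx using Submodule.iSup_induction' with
  | mem k x hx => exact Submodule.mem_iSup_of_mem k (hP k g hx)
  | zero => rw [map_zero]; exact zero_mem _
  | add a b _ _ ha hb => rw [map_add]; exact add_mem ha hb

omit [SetLike.GradedSMul 𝒜 ℳ] in
theorem top_homogeneous : (⊤ : Submodule R M).IsHomogeneous ℳ := fun _ _ _ => trivial

omit [SetLike.GradedSMul 𝒜 ℳ] in
theorem bot_homogeneous : (⊥ : Submodule R M).IsHomogeneous ℳ := fun g x hx => by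
  show proj ℳ g x = 0
  rw [(Submodule.mem_bot R).1 hx, map_zero]

include 𝒜 in
/-- The span of a set of homogeneous elements is homogeneous. -/
theorem span_homogeneous {S : Set M} (hS : ∀ x ∈ S, ∃ g, x ∈ ℳ g) :
    (Submodule.span R S).IsHomogeneous ℳ := by
  intro g x hx
  show proj ℳ g x ∈ Submodule.span R S
  induction hx using Submodule.span_induction generalizing g with
  | mem x hx =>
    obtain ⟨h, hh⟩ := hS x hx
    by_cases e : h = g
    · subst e; rw [proj_of_mem ℳ hh]; exact Submodule.subset_span hx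
    · rw [proj_of_mem_ne ℳ hh e]; exact zero_mem _
  | zero => rw [map_zero]; exact zero_mem _
  | add a b _ _ ha hb => rw [map_add]; exact add_mem (ha g) (hb g)
  | smul c x _ hx =>
    induction c using smul_induction 𝒜 with
    | h0 => rw [zero_smul, map_zero]; exact zero_mem _
    | hadd r s hr hs => rw [add_smul, map_add]; exact add_mem hr hs
    | hhom a r hr =>
      rw [show g = a + (g - a) by abel, proj_smul 𝒜 ℳ hr]
      exact Submodule.smul_mem _ _ (hx _)

include 𝒜 in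
theorem span_singleton_homogeneous {g : ι} {m : M} (hm : m ∈ ℳ g) :
    (R ∙ m).IsHomogeneous ℳ :=
  span_homogeneous 𝒜 ℳ (fun _ hx => ⟨g, by rw [Set.mem_singleton_iff.1 hx]; exact hm⟩)

end Maps

section Sub

variable (P : Submodule R M)

/-- The pieces of a submodule. -/
def subPieces : ι → AddSubgroup P := fun g => (ℳ g).comap P.subtype.toAddMonoidHom

omit [Decomposition ℳ] in
instance subGradedSMul : SetLike.GradedSMul 𝒜 (subPieces ℳ P) :=
  ⟨fun {a b r m} hr hm => smul_mem 𝒜 ℳ hr hm⟩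

variable {P} (hP : P.IsHomogeneous ℳ)

omit [SetLike.GradedSMul 𝒜 ℳ] in
include hP in
theorem sub_isInternal : DirectSum.IsInternal (subPieces ℳ P) := by
  classical
  refine isInternal_of_proj _ (fun g => ((proj ℳ g).comp P.subtype.toAddMonoidHom).codRestrict P
    (fun x => mem_homogeneous ℳ hP x.2 g)) (fun g x hx => Subtype.ext (proj_of_mem ℳ hx))
    (fun g h hne x hx => Subtype.ext (proj_of_mem_ne ℳ hx hne)) (fun x => ?_)
  have : x = ∑ g ∈ DFinsupp.support (decompose ℳ (x : M)),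
      (⟨proj ℳ g x, mem_homogeneous ℳ hP x.2 g⟩ : P) :=
    Subtype.ext (by
      rw [AddSubmonoidClass.coe_finsetSum]
      exact (DirectSum.sum_support_decompose ℳ (x : M)).symm)
  rw [this]
  exact sum_mem fun g _ => AddSubgroup.mem_iSup_of_mem g (proj_mem ℳ g (x : M))

/-- A homogeneous submodule as a graded module. -/
noncomputable def subG : GrLC.GMod.{u} 𝒜 :=
  { carrier := P, gr := subPieces ℳ P, dec := (sub_isInternal ℳ hP).chooseDecomposition }

/-- The inclusion of a homogeneous submodule. -/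
noncomputable def subIncl : (subG 𝒜 ℳ hP).carrier →ₗ[R] M := P.subtype

theorem subIncl_injective : Function.Injective (subIncl 𝒜 ℳ hP) := Subtype.val_injective

theorem subIncl_mem (x : (subG 𝒜 ℳ hP).carrier) : subIncl 𝒜 ℳ hP x ∈ P :=
  Subtype.property (p := (· ∈ P)) x

theorem range_subIncl : LinearMap.range (subIncl 𝒜 ℳ hP) = P := Submodule.range_subtype P

/-- Factor a map through a homogeneous submodule. -/
noncomputable def toSubG {L : Type u} [AddCommGroup L] [Module R L] (f : L →ₗ[R] M)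
    (hf : ∀ x, f x ∈ P) : L →ₗ[R] (subG 𝒜 ℳ hP).carrier := f.codRestrict P hf

@[simp] theorem subIncl_toSubG {L : Type u} [AddCommGroup L] [Module R L] (f : L →ₗ[R] M)
    (hf : ∀ x, f x ∈ P) (x : L) : subIncl 𝒜 ℳ hP (toSubG 𝒜 ℳ hP f hf x) = f x := rfl

theorem subIncl_grHom : GrLC.IsGrHom (subG 𝒜 ℳ hP).gr ℳ (subIncl 𝒜 ℳ hP) :=
  fun _ _ hm => hm

theorem toSubG_grHom {L : Type u} [AddCommGroup L] [Module R L] (𝓛 : ι → AddSubgroup L)
    {f : L →ₗ[R] M} (hfg : GrLC.IsGrHom 𝓛 ℳ f) (hf : ∀ x, f x ∈ P) :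
    GrLC.IsGrHom 𝓛 (subG 𝒜 ℳ hP).gr (toSubG 𝒜 ℳ hP f hf) :=
  fun g m hm => hfg g m hm

end Sub

section Quot

variable (P : Submodule R M)

/-- The pieces of a quotient module. -/
def quotPieces : ι → AddSubgroup (M ⧸ P) := fun g => (ℳ g).map P.mkQ.toAddMonoidHom

omit [Decomposition ℳ] in
instance quotGradedSMul : SetLike.GradedSMul 𝒜 (quotPieces ℳ P) :=
  ⟨fun {a b r m} hr hm => by
    obtain ⟨x, hx, rfl⟩ := hm
    exact ⟨r • x, smul_mem 𝒜 ℳ hr hx, map_smul P.mkQ r x⟩⟩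

variable {P} (hP : P.IsHomogeneous ℳ)

omit [SetLike.GradedSMul 𝒜 ℳ] in
include hP in
theorem quot_isInternal : DirectSum.IsInternal (quotPieces ℳ P) := by
  classical
  refine isInternal_of_proj _ (fun g => QuotientAddGroup.lift P.toAddSubgroup
    (P.mkQ.toAddMonoidHom.comp (proj ℳ g))
    (fun x hx => (Submodule.Quotient.mk_eq_zero P).2 (mem_homogeneous ℳ hP hx g))) ?_ ?_ ?_
  · rintro g _ ⟨x, hx, rfl⟩
    show P.mkQ (proj ℳ g x) = P.mkQ x
    rw [proj_of_mem ℳ hx]
  · rintro g h hne _ ⟨x, hx, rfl⟩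
    show P.mkQ (proj ℳ g x) = 0
    rw [proj_of_mem_ne ℳ hx hne, map_zero]
  · intro y
    obtain ⟨x, rfl⟩ := P.mkQ_surjective y
    have : P.mkQ x ∈ (⨆ g, ℳ g).map P.mkQ.toAddMonoidHom := ⟨x, mem_iSup_self ℳ x, rfl⟩
    rwa [AddSubgroup.map_iSup] at this

/-- The quotient by a homogeneous submodule as a graded module. -/
noncomputable def quotG : GrLC.GMod.{u} 𝒜 :=
  { carrier := M ⧸ P, gr := quotPieces ℳ P, dec := (quot_isInternal ℳ hP).chooseDecomposition }

/-- The projection to the quotient. -/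
noncomputable def quotMk : M →ₗ[R] (quotG 𝒜 ℳ hP).carrier := P.mkQ

theorem quotMk_surjective : Function.Surjective (quotMk 𝒜 ℳ hP) := P.mkQ_surjective

theorem ker_quotMk : LinearMap.ker (quotMk 𝒜 ℳ hP) = P := P.ker_mkQ

theorem quotMk_grHom : GrLC.IsGrHom ℳ (quotG 𝒜 ℳ hP).gr (quotMk 𝒜 ℳ hP) :=
  fun _ m hm => ⟨m, hm, rfl⟩

end Quot

section Shift

/-- The pieces of the shifted module `M(d)`. -/
def shiftPieces (d : ι) : ι → AddSubgroup M := fun g => ℳ (g + d)

omit [Decomposition ℳ] in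
instance shiftGradedSMul (d : ι) : SetLike.GradedSMul 𝒜 (shiftPieces ℳ d) :=
  ⟨fun {a b r m} hr hm => by
    have := smul_mem 𝒜 ℳ hr hm
    show r • m ∈ ℳ ((a + b) + d)
    rwa [add_assoc]⟩

omit [SetLike.GradedSMul 𝒜 ℳ] in
theorem shift_isInternal (d : ι) : DirectSum.IsInternal (shiftPieces ℳ d) := by
  refine isInternal_of_proj _ (fun g => proj ℳ (g + d)) (fun g x hx => proj_of_mem ℳ hx)
    (fun g h hne x hx => proj_of_mem_ne ℳ hx (fun e => hne (add_right_cancel e))) (fun x => ?_)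
  have := mem_iSup_self ℳ x
  refine (iSup_le fun g => ?_ : (⨆ g, ℳ g) ≤ _) this
  exact le_iSup_of_le (g - d) (by rw [shiftPieces, sub_add_cancel])

/-- The shifted graded module. -/
noncomputable def shiftG (d : ι) : GrLC.GMod.{u} 𝒜 :=
  { carrier := M, gr := shiftPieces ℳ d, dec := (shift_isInternal ℳ d).chooseDecomposition }

end Shift

/-- The graded ring as a graded module over itself, with pieces as additive subgroups. -/
def ringPieces : ι → AddSubgroup R := fun g => AddSubgroup.ofClass (𝒜 g)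

instance ringGradedSMul : SetLike.GradedSMul 𝒜 (ringPieces 𝒜) :=
  ⟨fun {a b r m} hr hm => (SetLike.GradedMul.mul_mem (A := 𝒜) hr hm : r * m ∈ 𝒜 (a + b))⟩

theorem ring_isInternal : DirectSum.IsInternal (ringPieces 𝒜) := by
  classical
  refine isInternal_of_proj _ (fun g => GradedRing.proj 𝒜 g) ?_ ?_ ?_
  · intro g x hx
    exact decompose_of_mem_same 𝒜 hx
  · intro g h hne x hx
    exact decompose_of_mem_ne 𝒜 hx hne
  · intro x
    rw [← DirectSum.sum_support_decompose 𝒜 x]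
    exact sum_mem fun g _ => AddSubgroup.mem_iSup_of_mem g (SetLike.coe_mem (decompose 𝒜 x g))

noncomputable instance ringDecomposition : Decomposition (ringPieces 𝒜) :=
  (ring_isInternal 𝒜).chooseDecomposition

end GrInjLib
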