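import Mathlib
import Groth.Agent.GrInjLib.Basic

/-! The category of graded modules has enough *injective objects. -/

set_option autoImplicit false
set_option linter.style.haveILetI false
set_option linter.unusedSectionVars false
universe u

namespace GrInjLib

open DirectSum CategoryTheory

/-- Additive maps out of a ring, as a module over it by `(r • φ) s = φ (r * s)`. -/
@[nolint unusedArguments]
def Co (R : Type u) [CommRing R] (D : Type u) [AddCommGroup D] : Type u := R →+ D

namespace Co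

variable {R : Type u} [CommRing R] {D : Type u} [AddCommGroup D]

instance : AddCommGroup (Co R D) := inferInstanceAs (AddCommGroup (R →+ D))

/-- Make an element. -/
def mk (φ : R →+ D) : Co R D := φ

/-- Evaluate. -/
def ev (φ : Co R D) : R →+ D := φ

@[simp] theorem ev_mk (φ : R →+ D) : ev (mk φ) = φ := rfl
@[simp] theorem ev_add (φ ψ : Co R D) (s : R) : ev (φ + ψ) s = ev φ s + ev ψ s := rfl
@[simp] theorem ev_zero (s : R) : ev (0 : Co R D) s = 0 := rfl

theorem ext {φ ψ : Co R D} (h : ∀ s, ev φ s = ev ψ s) : φ = ψ := AddMonoidHom.ext h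

instance : SMul R (Co R D) := ⟨fun r φ => mk ((ev φ).comp (AddMonoidHom.mulLeft r))⟩

@[simp] theorem ev_smul (r : R) (φ : Co R D) (s : R) : ev (r • φ) s = ev φ (r * s) := rfl

instance : Module R (Co R D) where
  one_smul φ := ext fun s => by simp
  mul_smul a b φ := ext fun s => by simp [mul_assoc, mul_left_comm]
  smul_zero r := ext fun s => by simp
  smul_add r φ ψ := ext fun s => by simp
  add_smul a b φ := ext fun s => by simp [add_mul]
  zero_smul φ := ext fun s => by simp

end Co

variable {ι : Type} [AddCommGroup ι] [DecidableEq ι] {R : Type u} [CommRing R]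
  {σ : Type u} [SetLike σ R] [AddSubgroupClass σ R] (𝒜 : ι → σ) [GradedRing 𝒜]
  (D : ι → AddCommGrpCat.{u})

/-- The ambient module. -/
abbrev Big : Type u := ∀ g : ι, Co R (D g)

/-- The maps of degree `h`. -/
def bigPieces (h : ι) : AddSubgroup (Big (R := R) D) where
  carrier := {φ | ∀ g k, k + h ≠ g → ∀ s ∈ 𝒜 k, Co.ev (φ g) s = 0}
  zero_mem' := fun g k _ s _ => rfl
  add_mem' := fun {a b} ha hb g k hk s hs => by
    show Co.ev (a g + b g) s = 0
    rw [Co.ev_add, ha g k hk s hs, hb g k hk s hs, add_zero]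
  neg_mem' := fun {a} ha g k hk s hs => by
    show -(Co.ev (a g) s) = 0
    rw [ha g k hk s hs, neg_zero]

theorem bigPieces_smul {a b : ι} {r : R} {φ : Big (R := R) D} (hr : r ∈ 𝒜 a)
    (hφ : φ ∈ bigPieces 𝒜 D b) : r • φ ∈ bigPieces 𝒜 D (a + b) := by
  intro g k hk s hs
  show Co.ev (φ g) (r * s) = 0
  exact hφ g (a + k) (fun e => hk (by rw [← e]; abel)) _ (SetLike.mul_mem_graded hr hs)

/-- The cofree graded module, as a submodule of the ambient module. -/
def cofree : Submodule R (Big (R := R) D) where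
  carrier := ((⨆ h, bigPieces 𝒜 D h : AddSubgroup _) : Set _)
  zero_mem' := zero_mem _
  add_mem' := add_mem
  smul_mem' := fun c x hx => by
    show c • x ∈ (⨆ h, bigPieces 𝒜 D h : AddSubgroup _)
    induction c using smul_induction 𝒜 with
    | h0 => rw [zero_smul]; exact zero_mem _
    | hadd r s hr hs => rw [add_smul]; exact add_mem hr hs
    | hhom a r hr =>
      induction hx using AddSubgroup.iSup_induction' with
      | hp i y hy => exact AddSubgroup.mem_iSup_of_mem _ (bigPieces_smul 𝒜 D hr hy)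
      | h1 => rw [smul_zero]; exact zero_mem _
      | hadd y z _ _ hy hz => rw [smul_add]; exact add_mem hy hz

theorem mem_cofree {h : ι} {φ : Big (R := R) D} (hφ : φ ∈ bigPieces 𝒜 D h) : φ ∈ cofree 𝒜 D :=
  AddSubgroup.mem_iSup_of_mem h hφ

/-- The pieces of the cofree module. -/
def cofreePieces : ι → AddSubgroup (cofree 𝒜 D) :=
  fun h => (bigPieces 𝒜 D h).comap (cofree 𝒜 D).subtype.toAddMonoidHom

instance cofreeGradedSMul : SetLike.GradedSMul 𝒜 (cofreePieces 𝒜 D) :=
  ⟨fun {a b r φ} hr hφ => bigPieces_smul 𝒜 D hr hφ⟩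

/-- Projection to degree `h`. -/
noncomputable def bigProj (h : ι) : Big (R := R) D →+ Big (R := R) D where
  toFun φ := fun g => Co.mk ((Co.ev (φ g)).comp (GradedRing.proj 𝒜 (g - h)))
  map_zero' := by funext g; exact Co.ext fun s => rfl
  map_add' x y := by funext g; exact Co.ext fun s => rfl

theorem bigProj_mem (h : ι) (φ : Big (R := R) D) : bigProj 𝒜 D h φ ∈ bigPieces 𝒜 D h := by
  intro g k hk s hs
  show Co.ev (φ g) (GradedRing.proj 𝒜 (g - h) s) = 0
  rw [GradedRing.proj_apply, decompose_of_mem_ne 𝒜 hs (fun e => hk (by rw [e]; abel)), map_zero]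

theorem cofree_isInternal : DirectSum.IsInternal (cofreePieces 𝒜 D) := by
  refine isInternal_of_proj _ (fun h => ((bigProj 𝒜 D h).comp
    (cofree 𝒜 D).subtype.toAddMonoidHom).codRestrict (cofree 𝒜 D)
    (fun x => mem_cofree 𝒜 D (bigProj_mem 𝒜 D h _))) ?_ ?_ ?_
  · intro h x hx
    refine Subtype.ext (funext fun g => Co.ext fun s => ?_)
    show Co.ev (x.1 g) (GradedRing.proj 𝒜 (g - h) s) = Co.ev (x.1 g) s
    induction s using smul_induction 𝒜 with
    | h0 => rw [map_zero]
    | hadd r s hr hs => rw [map_add, map_add, map_add, hr, hs]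
    | hhom k s hs =>
      by_cases e : k = g - h
      · subst e; rw [GradedRing.proj_apply, decompose_of_mem_same 𝒜 hs]
      · rw [GradedRing.proj_apply, decompose_of_mem_ne 𝒜 hs e, map_zero]
        exact (hx g k (fun e' => e (by rw [← e']; abel)) s hs).symm
  · intro h h' hne x hx
    refine Subtype.ext (funext fun g => Co.ext fun s => ?_)
    show Co.ev (x.1 g) (GradedRing.proj 𝒜 (g - h) s) = 0
    rw [GradedRing.proj_apply]
    exact hx g (g - h) (fun e => hne (by
      have e' : g - h + h' = g - h + h := e.trans (sub_add_cancel g h).symm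
      exact add_left_cancel e')) _ (SetLike.coe_mem _)
  · rintro ⟨x, hx⟩
    have hx' : x ∈ (⨆ h, bigPieces 𝒜 D h : AddSubgroup _) := hx
    induction hx' using AddSubgroup.iSup_induction' with
    | hp i y hy =>
      exact (AddSubgroup.mem_iSup_of_mem i (show (⟨y, hx⟩ : cofree 𝒜 D) ∈ cofreePieces 𝒜 D i from hy))
    | h1 => exact zero_mem _
    | hadd y z hy' hz' ihy ihz => exact add_mem (ihy hy') (ihz hz')

/-- The cofree graded module. -/
noncomputable def cofreeG : GrLC.GMod.{u} 𝒜 :=
  { carrier := cofree 𝒜 D, gr := cofreePieces 𝒜 D, dec := (cofree_isInternal 𝒜 D).chooseDecomposition }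

section ToCo

variable {D} {M : Type u} [AddCommGroup M] [Module R M] (ℳ : ι → AddSubgroup M)
  [Decomposition ℳ] [SetLike.GradedSMul 𝒜 ℳ]

/-- The map into the cofree module attached to additive maps on the pieces. -/
noncomputable def toBig (η : ∀ g, ℳ g →+ D g) : M →ₗ[R] Big (R := R) D where
  toFun m := fun g => Co.mk
    { toFun := fun s => η g ⟨proj ℳ g (s • m), proj_mem ℳ g _⟩
      map_zero' := by
        rw [← map_zero (η g)]
        exact congrArg (η g) (Subtype.ext (by simp))
      map_add' := fun s t => by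
        rw [← map_add]
        exact congrArg (η g) (Subtype.ext (by
          show proj ℳ g ((s + t) • m) = proj ℳ g (s • m) + proj ℳ g (t • m)
          rw [add_smul, map_add])) }
  map_add' x y := by
    funext g
    refine Co.ext fun s => ?_
    show η g _ = η g _ + η g _
    rw [← map_add]
    exact congrArg (η g) (Subtype.ext (by
      show proj ℳ g (s • (x + y)) = proj ℳ g (s • x) + proj ℳ g (s • y)
      rw [smul_add, map_add]))
  map_smul' r x := by
    funext g
    refine Co.ext fun s => ?_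
    show η g _ = η g _
    exact congrArg (η g) (Subtype.ext (by
      show proj ℳ g (s • r • x) = proj ℳ g ((r * s) • x)
      rw [smul_smul, mul_comm]))

theorem toBig_mem_pieces (η : ∀ g, ℳ g →+ D g) {h : ι} {m : M} (hm : m ∈ ℳ h) :
    toBig ℳ η m ∈ bigPieces 𝒜 D h := by
  intro g k hk s hs
  show η g _ = 0
  rw [← map_zero (η g)]
  exact congrArg (η g) (Subtype.ext (proj_of_mem_ne ℳ (smul_mem 𝒜 ℳ hs hm) hk))

theorem toBig_mem (η : ∀ g, ℳ g →+ D g) (m : M) : toBig ℳ η m ∈ cofree 𝒜 D := by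
  induction m using DirectSum.Decomposition.inductionOn ℳ with
  | zero => rw [map_zero]; exact zero_mem _
  | @homogeneous i x => exact mem_cofree 𝒜 D (toBig_mem_pieces 𝒜 ℳ η x.2)
  | add x y hx hy => rw [map_add]; exact add_mem hx hy

/-- The same, into the cofree module. -/
noncomputable def toCofree (η : ∀ g, ℳ g →+ D g) : M →ₗ[R] cofree 𝒜 D :=
  (toBig ℳ η).codRestrict _ (toBig_mem 𝒜 ℳ η)

theorem toCofree_grHom (η : ∀ g, ℳ g →+ D g) :
    GrLC.IsGrHom ℳ (cofreeG 𝒜 D).gr (toCofree 𝒜 ℳ η) :=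
  fun _ _ hm => toBig_mem_pieces 𝒜 ℳ η hm

theorem toCofree_injective (η : ∀ g, ℳ g →+ D g) (hη : ∀ g, Function.Injective (η g)) :
    Function.Injective (toCofree 𝒜 ℳ η) := by
  rw [injective_iff_map_eq_zero]
  intro m hm
  refine eq_zero_of_proj ℳ m fun g => ?_
  have h1 : η g ⟨proj ℳ g ((1 : R) • m), proj_mem ℳ g _⟩ = 0 :=
    congrArg (fun φ : cofree 𝒜 D => Co.ev (φ.1 g) 1) hm
  have h2 := congrArg Subtype.val ((hη g) (h1.trans (map_zero (η g)).symm))
  simpa using h2

end ToCo

/-- The cofree module on injective abelian groups is *injective. -/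
theorem cofree_starInj [∀ g, Injective (D g)] : GrLC.IsStarInj 𝒜 (cofreeG 𝒜 D).gr := by
  intro A B f hf hinj ψ hψ
  have hi : ∀ g, ∀ a : A.gr g, f (a : A.carrier) ∈ B.gr g := fun g a => hf g _ a.2
  let i : ∀ g, A.gr g →+ B.gr g := fun g =>
    (f.toAddMonoidHom.comp (A.gr g).subtype).codRestrict _ (hi g)
  let η : ∀ g, A.gr g →+ D g := fun g =>
    { toFun := fun a => Co.ev (((ψ (a : A.carrier) : (cofreeG 𝒜 D).carrier) : cofree 𝒜 D).1 g) 1
      map_zero' := by
        show Co.ev (((ψ (0 : A.carrier)) : cofree 𝒜 D).1 g) 1 = 0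
        rw [map_zero]
        rfl
      map_add' := fun a b => by
        show Co.ev (((ψ ((a : A.carrier) + (b : A.carrier))) : cofree 𝒜 D).1 g) 1 = _
        rw [map_add]
        rfl }
  have hext : ∀ g, ∃ η' : B.gr g →+ D g, ∀ a, η' (i g a) = η g a := fun g => by
    haveI : Mono (AddCommGrpCat.ofHom (i g)) := (AddCommGrpCat.mono_iff_injective _).2
      (fun a b h => Subtype.ext (hinj (congrArg Subtype.val h)))
    exact ⟨(Injective.factorThru (AddCommGrpCat.ofHom (η g)) (AddCommGrpCat.ofHom (i g))).hom,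
      fun a => DFunLike.congr_fun
        (congrArg AddCommGrpCat.Hom.hom
          (Injective.comp_factorThru (AddCommGrpCat.ofHom (η g)) (AddCommGrpCat.ofHom (i g)))) a⟩
  choose η' hη' using hext
  refine ⟨toCofree 𝒜 B.gr η', toCofree_grHom 𝒜 B.gr η', ext_homogeneous A.gr fun h a ha => ?_⟩
  refine Subtype.ext (funext fun g => Co.ext fun s => ?_)
  show η' g ⟨proj B.gr g (s • f a), proj_mem _ _ _⟩ = Co.ev (((ψ a) : cofree 𝒜 D).1 g) s
  have e1 : (⟨proj B.gr g (s • f a), proj_mem _ _ _⟩ : B.gr g) = i g ⟨proj A.gr g (s • a), proj_mem _ _ _⟩ :=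
    Subtype.ext (by
      show proj B.gr g (s • f a) = f (proj A.gr g (s • a))
      rw [← map_smul, proj_map₀ A.gr B.gr hf])
  rw [e1, hη']
  show Co.ev (((ψ (proj A.gr g (s • a))) : cofree 𝒜 D).1 g) 1 = _
  clear e1
  induction s using smul_induction 𝒜 with
  | h0 =>
    rw [zero_smul, map_zero, map_zero, map_zero]
    rfl
  | hadd r t hr ht =>
    rw [add_smul, map_add, map_add, map_add, ← hr, ← ht]
    rfl
  | hhom k t htk =>
    have hb : ((ψ a : (cofreeG 𝒜 D).carrier) : cofree 𝒜 D).1 ∈ bigPieces 𝒜 D h := hψ h a ha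
    by_cases e : k + h = g
    · subst e
      rw [proj_of_mem A.gr (smul_mem 𝒜 A.gr htk ha), map_smul]
      show Co.ev (((ψ a) : cofree 𝒜 D).1 (k + h)) (t * 1) = _
      rw [mul_one]
    · rw [proj_of_mem_ne A.gr (smul_mem 𝒜 A.gr htk ha) e, map_zero, hb g k e t htk]
      rfl

/-- Every graded module embeds homogeneously in a *injective one. -/
theorem exists_starInj_embedding {M : Type u} [AddCommGroup M] [Module R M] (ℳ : ι → AddSubgroup M)
    [Decomposition ℳ] [SetLike.GradedSMul 𝒜 ℳ] :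
    ∃ (X : GrLC.GMod.{u} 𝒜) (e : M →ₗ[R] X.carrier),
      GrLC.IsGrHom ℳ X.gr e ∧ Function.Injective e ∧ GrLC.IsStarInj 𝒜 X.gr := by
  let D : ι → AddCommGrpCat.{u} := fun g => Injective.under (AddCommGrpCat.of (ℳ g))
  let η : ∀ g, ℳ g →+ D g := fun g => (Injective.ι (AddCommGrpCat.of (ℳ g))).hom
  exact ⟨cofreeG 𝒜 D, toCofree 𝒜 ℳ η, toCofree_grHom 𝒜 ℳ η,
    toCofree_injective 𝒜 ℳ η (fun g => (AddCommGrpCat.mono_iff_injective _).1 inferInstance),
    cofree_starInj 𝒜 D⟩

end GrInjLib
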