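import Mathlib
import Groth.Prelude.Def_Wider
import Groth.Agent.GrInjLib.Cofree

/-! *Essential extensions and *injective envelopes. -/

set_option autoImplicit false
set_option linter.style.haveILetI false
set_option linter.unusedSectionVars false
universe u

namespace GrInjLib

open DirectSum

variable {ι : Type} [AddCommGroup ι] [DecidableEq ι] {R : Type u} [CommRing R]
  {σ : Type u} [SetLike σ R] [AddSubgroupClass σ R] (𝒜 : ι → σ) [GradedRing 𝒜]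
  {M : Type u} [AddCommGroup M] [Module R M] (ℳ : ι → AddSubgroup M)
  [Decomposition ℳ] [SetLike.GradedSMul 𝒜 ℳ]
  {N : Type u} [AddCommGroup N] [Module R N] (𝒩 : ι → AddSubgroup N)
  [Decomposition 𝒩] [SetLike.GradedSMul 𝒜 𝒩]

omit [SetLike.GradedSMul 𝒜 ℳ] in
/-- A nonzero homogeneous submodule has a nonzero homogeneous element. -/
theorem exists_homogeneous_ne {P : Submodule R M} (hP : P.IsHomogeneous ℳ) (h : P ≠ ⊥) :
    ∃ g, ∃ x ∈ ℳ g, x ∈ P ∧ x ≠ 0 := by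
  obtain ⟨x, hx, hx0⟩ := Submodule.exists_mem_ne_zero_of_ne_bot h
  obtain ⟨g, hg⟩ := exists_proj_ne ℳ x hx0
  exact ⟨g, _, proj_mem ℳ g x, mem_homogeneous ℳ hP hx g, hg⟩

/-- A nonzero scalar multiple of a homogeneous element lying in a homogeneous submodule may be taken
by a homogeneous scalar. -/
theorem exists_homogeneous_smul {P : Submodule R N} (hP : P.IsHomogeneous 𝒩) {g : ι} {x : N}
    (hx : x ∈ 𝒩 g) {c : R} (hc : c • x ∈ P) (hc0 : c • x ≠ 0) :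
    ∃ a, ∃ r ∈ 𝒜 a, r • x ∈ P ∧ r • x ≠ 0 := by
  classical
  have key : ∀ d : R, ∀ a, proj 𝒩 (a + g) (d • x) = (decompose 𝒜 d a : R) • x := by
    intro d a
    induction d using smul_induction 𝒜 with
    | h0 => simp
    | hadd r s hr hs =>
      rw [add_smul, map_add, hr, hs, decompose_add, DirectSum.add_apply]
      push_cast
      rw [add_smul]
    | hhom b r hr =>
      by_cases e : b = a
      · subst e; rw [proj_of_mem 𝒩 (smul_mem 𝒜 𝒩 hr hx), decompose_of_mem_same 𝒜 hr]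
      · rw [proj_of_mem_ne 𝒩 (smul_mem 𝒜 𝒩 hr hx) (fun h => e (add_right_cancel h)),
          decompose_of_mem_ne 𝒜 hr e, zero_smul]
  obtain ⟨k, hk⟩ := exists_proj_ne 𝒩 (c • x) hc0
  refine ⟨k - g, (decompose 𝒜 c (k - g) : R), SetLike.coe_mem _, ?_, ?_⟩
  · rw [← key, sub_add_cancel]; exact mem_homogeneous 𝒩 hP hc k
  · rw [← key, sub_add_cancel]; exact hk

/-- Elementwise form of *essentiality. -/
theorem exists_smul_mem_range {f : M →ₗ[R] N} (hess : ∀ P : Submodule R N, P.IsHomogeneous 𝒩 → P ≠ ⊥ →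
      P ⊓ LinearMap.range f ≠ ⊥)
    (hr : (LinearMap.range f).IsHomogeneous 𝒩) {g : ι} {x : N} (hx : x ∈ 𝒩 g) (hx0 : x ≠ 0) :
    ∃ a, ∃ r ∈ 𝒜 a, r • x ∈ LinearMap.range f ∧ r • x ≠ 0 := by
  obtain ⟨y, ⟨hy1, hy2⟩, hy0⟩ := Submodule.exists_mem_ne_zero_of_ne_bot
    (hess _ (span_singleton_homogeneous 𝒜 𝒩 hx) (by simpa using hx0))
  obtain ⟨c, rfl⟩ := Submodule.mem_span_singleton.1 hy1
  exact exists_homogeneous_smul 𝒜 𝒩 hr hx hy2 hy0

include 𝒜 in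
/-- A *essential extension is an essential extension. -/
theorem isEssentialInj_of_starEss {f : M →ₗ[R] N} (hf : GrLC.IsStarEss ℳ 𝒩 f) :
    InjHull.IsEssentialInj f := by
  classical
  have hr : (LinearMap.range f).IsHomogeneous 𝒩 :=
    range_homogeneous ℳ 𝒩 ((isGrHom_iff ℳ 𝒩).1 hf.grHom)
  refine ⟨hf.injective, fun P hP => ?_⟩
  obtain ⟨x, hxP, hx0⟩ := Submodule.exists_mem_ne_zero_of_ne_bot hP
  suffices h : ∀ (n : ℕ) (S : Finset ι) (x : N), S.card ≤ n → x ≠ 0 →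
      (∀ g ∉ S, proj 𝒩 g x ∈ LinearMap.range f) → ∃ c : R, c • x ≠ 0 ∧ c • x ∈ LinearMap.range f by
    obtain ⟨c, hc0, hc⟩ := h _ (DFinsupp.support (decompose 𝒩 x)) x le_rfl hx0 (fun g hg => by
      rw [show proj 𝒩 g x = 0 by
        rw [proj_apply, DFinsupp.notMem_support_iff.1 hg]; rfl]
      exact zero_mem _)
    exact fun hbot => hc0 ((Submodule.mem_bot R).1 (hbot ▸ ⟨P.smul_mem c hxP, hc⟩))
  intro n
  induction n with
  | zero =>
    intro S x hS hx h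
    refine ⟨1, by rwa [one_smul], ?_⟩
    rw [one_smul]
    exact mem_of_proj_mem 𝒩 (fun g => h g (by rw [Finset.card_eq_zero.1 (Nat.le_zero.1 hS)]; simp))
  | succ n ih =>
    intro S x hS hx h
    by_cases hall : ∀ g ∈ S, proj 𝒩 g x ∈ LinearMap.range f
    · refine ⟨1, by rwa [one_smul], ?_⟩
      rw [one_smul]
      exact mem_of_proj_mem 𝒩 (fun g => if hg : g ∈ S then hall g hg else h g hg)
    push Not at hall
    obtain ⟨g, hgS, hg⟩ := hall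
    have hg0 : proj 𝒩 g x ≠ 0 := fun e => hg (by rw [e]; exact zero_mem _)
    obtain ⟨a, r, hra, hr1, hr2⟩ := exists_smul_mem_range 𝒜 𝒩 hf.essential hr (proj_mem 𝒩 g x) hg0
    obtain ⟨c, hc0, hc⟩ := ih ((S.erase g).image (fun k => a + k)) (r • x)
      (Finset.card_image_le.trans (by rw [Finset.card_erase_of_mem hgS]; omega))
      (fun e => hr2 (by rw [← proj_smul 𝒜 𝒩 hra, e, map_zero]))
      (fun k hk => by
        have hk' : proj 𝒩 k (r • x) = r • proj 𝒩 (k - a) x := by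
          rw [← proj_smul 𝒜 𝒩 hra, add_sub_cancel]
        rw [hk']
        by_cases e : k - a = g
        · rw [e]; exact hr1
        · refine Submodule.smul_mem _ _ (h _ (fun hmem => hk ?_))
          exact Finset.mem_image.2 ⟨k - a, Finset.mem_erase.2 ⟨e, hmem⟩, by abel⟩)
    exact ⟨c * r, by rwa [mul_smul], by rwa [mul_smul]⟩

omit [SetLike.GradedSMul 𝒜 ℳ] [SetLike.GradedSMul 𝒜 𝒩] in
/-- Homogeneous maps injective on a *essential submodule are injective. -/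
theorem injective_of_ess {L : Type u} [AddCommGroup L] [Module R L] (𝓛 : ι → AddSubgroup L)
    [Decomposition 𝓛] {f : M →ₗ[R] N}
    (hess : ∀ P : Submodule R N, P.IsHomogeneous 𝒩 → P ≠ ⊥ → P ⊓ LinearMap.range f ≠ ⊥)
    {h : N →ₗ[R] L} {d : ι} (hh : GrLC.IsGrHomDeg 𝒩 𝓛 h d) (hinj : Function.Injective (h ∘ₗ f)) :
    Function.Injective h := by
  rw [← LinearMap.ker_eq_bot]
  by_contra hne
  refine hess _ (ker_homogeneous 𝒩 𝓛 hh) hne ?_
  rw [eq_bot_iff]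
  rintro _ ⟨h1, ⟨m, rfl⟩⟩
  have : m = 0 := hinj (by
    rw [map_zero, LinearMap.comp_apply]
    exact LinearMap.mem_ker.1 h1)
  simp [this]

/-- The extension property against unbundled graded modules. -/
theorem starInj_extend {L : Type u} [AddCommGroup L] [Module R L] {𝓛 : ι → AddSubgroup L}
    [Decomposition 𝓛] [SetLike.GradedSMul 𝒜 𝓛] (hL : GrLC.IsStarInj 𝒜 𝓛) {f : M →ₗ[R] N}
    (hf : GrLC.IsGrHom ℳ 𝒩 f) (hinj : Function.Injective f) {g : M →ₗ[R] L}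
    (hg : GrLC.IsGrHom ℳ 𝓛 g) : ∃ h : N →ₗ[R] L, GrLC.IsGrHom 𝒩 𝓛 h ∧ h ∘ₗ f = g :=
  hL (GrLC.GMod.of 𝒜 M ℳ) (GrLC.GMod.of 𝒜 N 𝒩) f hf hinj g hg

omit [SetLike.GradedSMul 𝒜 𝒩] [Decomposition 𝒩] in
/-- A retract of a *injective module is *injective. -/
theorem starInj_of_retract {X : Type u} [AddCommGroup X] [Module R X] {𝒳 : ι → AddSubgroup X}
    [Decomposition 𝒳] [SetLike.GradedSMul 𝒜 𝒳] (hX : GrLC.IsStarInj 𝒜 𝒳)
    {s : M →ₗ[R] X} {p : X →ₗ[R] M} (hs : GrLC.IsGrHom ℳ 𝒳 s) (hp : GrLC.IsGrHom 𝒳 ℳ p)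
    (hps : p ∘ₗ s = LinearMap.id) : GrLC.IsStarInj 𝒜 ℳ := by
  intro A B f hf hinj ψ hψ
  obtain ⟨h, hh, hhf⟩ := hX A B f hf hinj (s ∘ₗ ψ) (fun g m hm => hs g _ (hψ g m hm))
  exact ⟨p ∘ₗ h, fun g m hm => hp g _ (hh g m hm),
    by rw [LinearMap.comp_assoc, hhf, ← LinearMap.comp_assoc, hps, LinearMap.id_comp]⟩

omit [SetLike.GradedSMul 𝒜 ℳ] [SetLike.GradedSMul 𝒜 𝒩] in
/-- The inverse of a homogeneous bijection is homogeneous. -/
theorem grHomDeg_symm (e : M ≃ₗ[R] N) {d : ι} (he : GrLC.IsGrHomDeg ℳ 𝒩 e.toLinearMap d) :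
    GrLC.IsGrHomDeg 𝒩 ℳ e.symm.toLinearMap (-d) := by
  intro g y hy
  have h1 := proj_map ℳ 𝒩 he (e.symm y) (g + -d)
  simp only [LinearEquiv.coe_coe, LinearEquiv.apply_symm_apply, neg_add_cancel_right] at h1
  rw [proj_of_mem 𝒩 hy] at h1
  show e.symm y ∈ ℳ (g + -d)
  rw [show e.symm y = proj ℳ (g + -d) (e.symm y) from
    e.injective (by rw [LinearEquiv.apply_symm_apply]; exact h1)]
  exact proj_mem ℳ _ _

section InStarInj

variable {X : Type u} [AddCommGroup X] [Module R X] (𝒳 : ι → AddSubgroup X)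
  [Decomposition 𝒳] [SetLike.GradedSMul 𝒜 𝒳]

/-- The condition of being a *essential extension of `L` inside `X`. -/
def EssOver (L E : Submodule R X) : Prop :=
  E.IsHomogeneous 𝒳 ∧ L ≤ E ∧ ∀ P : Submodule R X, P.IsHomogeneous 𝒳 → P ≤ E → P ≠ ⊥ → P ⊓ L ≠ ⊥

/-- The maximal homogeneous submodules meeting a given one trivially. -/
theorem exists_max_disjoint (E : Submodule R X) :
    ∃ Q : Submodule R X, Q.IsHomogeneous 𝒳 ∧ Q ⊓ E = ⊥ ∧
      ∀ Q' : Submodule R X, Q'.IsHomogeneous 𝒳 → Q' ⊓ E = ⊥ → Q ≤ Q' → Q' = Q := by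
  have hz := zorn_le₀ {Q : Submodule R X | Q.IsHomogeneous 𝒳 ∧ Q ⊓ E = ⊥} (fun c hc hchain => by
    rcases c.eq_empty_or_nonempty with rfl | hne
    · exact ⟨⊥, ⟨bot_homogeneous 𝒳, bot_inf_eq _⟩, by simp⟩
    refine ⟨⨆ q : c, (q : Submodule R X), ⟨iSup_homogeneous 𝒳 (fun q => (hc q.2).1), ?_⟩,
      fun q hq => le_iSup (fun q : c => (q : Submodule R X)) ⟨q, hq⟩⟩
    haveI : Nonempty c := hne.to_subtype
    rw [eq_bot_iff]
    rintro x ⟨hx, hxE⟩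
    obtain ⟨q, hq⟩ := (Submodule.mem_iSup_of_directed _ hchain.directed).1 hx
    rw [← (hc q.2).2]
    exact ⟨hq, hxE⟩)
  obtain ⟨Q, ⟨hQ1, hQ2⟩, hmax⟩ := hz
  exact ⟨Q, hQ1, hQ2, fun Q' h1 h2 h3 => le_antisymm (hmax ⟨h1, h2⟩ h3) h3⟩

include 𝒜 in
/-- Inside a *injective module every homogeneous submodule has a *injective envelope, which is a
direct summand with homogeneous complement. -/
theorem exists_hull_in (hX : GrLC.IsStarInj 𝒜 𝒳) (L : Submodule R X) (hL : L.IsHomogeneous 𝒳) :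
    ∃ E Q : Submodule R X, EssOver 𝒳 L E ∧ Q.IsHomogeneous 𝒳 ∧ IsCompl E Q ∧
      ∃ p : X →ₗ[R] X, GrLC.IsGrHom 𝒳 𝒳 p ∧ (∀ x, p x ∈ E) ∧ ∀ x ∈ E, p x = x := by
  have hz := zorn_le_nonempty₀ {E : Submodule R X | EssOver 𝒳 L E} (fun c hc hchain E₀ hE₀ => by
    haveI : Nonempty c := ⟨⟨E₀, hE₀⟩⟩
    refine ⟨⨆ q : c, (q : Submodule R X), ⟨iSup_homogeneous 𝒳 (fun q => (hc q.2).1),
      le_trans (hc hE₀).2.1 (le_iSup (fun q : c => (q : Submodule R X)) ⟨E₀, hE₀⟩), ?_⟩,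
      fun q hq => le_iSup (fun q : c => (q : Submodule R X)) ⟨q, hq⟩⟩
    intro P hP hPle hP0
    obtain ⟨g, x, hxg, hxP, hx0⟩ := exists_homogeneous_ne 𝒳 hP hP0
    obtain ⟨q, hq⟩ := (Submodule.mem_iSup_of_directed _ hchain.directed).1 (hPle hxP)
    intro hbot
    refine (hc q.2).2.2 (R ∙ x) (span_singleton_homogeneous 𝒜 𝒳 hxg)
      ((Submodule.span_singleton_le_iff_mem _ _).2 hq) (by simpa using hx0) ?_
    rw [eq_bot_iff, ← hbot]
    exact inf_le_inf_right _ ((Submodule.span_singleton_le_iff_mem _ _).2 hxP))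
    L ⟨hL, le_rfl, fun P _ hle hne => by rwa [inf_eq_left.2 hle]⟩
  obtain ⟨E, -, hE, hmax⟩ := hz
  obtain ⟨Q, hQ, hQE, hQmax⟩ := exists_max_disjoint 𝒳 E
  let A := subG 𝒜 𝒳 hE.1
  let B := quotG 𝒜 𝒳 hQ
  let q := quotMk 𝒜 𝒳 hQ
  let i := subIncl 𝒜 𝒳 hE.1
  let ιE : A.carrier →ₗ[R] B.carrier := q ∘ₗ i
  have hq0 : ∀ x, q x = 0 → x ∈ Q := fun x hx => (ker_quotMk 𝒜 𝒳 hQ).le hx
  have hιinj : Function.Injective ιE := by
    rw [injective_iff_map_eq_zero]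
    intro x hx
    have : i x ∈ Q ⊓ E := ⟨hq0 _ hx, subIncl_mem 𝒜 𝒳 hE.1 x⟩
    rw [hQE, Submodule.mem_bot] at this
    exact subIncl_injective 𝒜 𝒳 hE.1 (this.trans (map_zero i).symm)
  obtain ⟨h, hh, hhι⟩ := hX A B ιE
    (fun g m hm => quotMk_grHom 𝒜 𝒳 hQ g _ (subIncl_grHom 𝒜 𝒳 hE.1 g m hm)) hιinj
    i (subIncl_grHom 𝒜 𝒳 hE.1)
  have hι : ∀ x, h (ιE x) = i x := LinearMap.congr_fun hhι
  have hlift : ∀ x ∈ E, h (q x) = x := fun x hx => by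
    obtain ⟨y, rfl⟩ := (range_subIncl 𝒜 𝒳 hE.1).ge hx
    exact hι y
  have hessB : ∀ P : Submodule R B.carrier, P.IsHomogeneous B.gr → P ≠ ⊥ →
      P ⊓ LinearMap.range ιE ≠ ⊥ := by
    intro P hP hP0 hbot
    let P' : Submodule R X := Submodule.comap q P
    have hP' : P'.IsHomogeneous 𝒳 :=
      comap_homogeneous (ℳ := 𝒳) (𝒩 := B.gr) ((isGrHom_iff _ _).1 (quotMk_grHom 𝒜 𝒳 hQ)) hP
    have hQP : Q ≤ P' := fun x hx => by
      show q x ∈ P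
      rw [LinearMap.mem_ker.1 ((ker_quotMk 𝒜 𝒳 hQ).ge hx : x ∈ LinearMap.ker q)]
      exact Submodule.zero_mem P
    have hd : P' ⊓ E = ⊥ := by
      rw [eq_bot_iff]
      rintro x ⟨hx1, hx2⟩
      obtain ⟨y, rfl⟩ := (range_subIncl 𝒜 𝒳 hE.1).ge hx2
      have : ιE y ∈ P ⊓ LinearMap.range ιE := ⟨hx1, y, rfl⟩
      rw [hbot, Submodule.mem_bot] at this
      rw [Submodule.mem_bot, hιinj (this.trans (map_zero ιE).symm), map_zero]
    apply hP0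
    rw [eq_bot_iff]
    intro y hy
    obtain ⟨x, rfl⟩ := quotMk_surjective 𝒜 𝒳 hQ y
    have hx : x ∈ P' := hy
    rw [hQmax P' hP' hd hQP] at hx
    exact (Submodule.mem_bot R).2 (LinearMap.mem_ker.1 ((ker_quotMk 𝒜 𝒳 hQ).ge hx))
  have hhinj : Function.Injective h :=
    injective_of_ess B.gr 𝒳 hessB ((isGrHom_iff _ _).1 hh)
      (by rw [hhι]; exact subIncl_injective 𝒜 𝒳 hE.1)
  have hrange : EssOver 𝒳 L (LinearMap.range h) := by
    refine ⟨range_homogeneous B.gr 𝒳 ((isGrHom_iff _ _).1 hh),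
      fun x hx => ⟨q x, hlift x (hE.2.1 hx)⟩, fun P hP hPle hP0 hbot => ?_⟩
    refine hessB (P.comap h) (comap_homogeneous (ℳ := B.gr) (𝒩 := 𝒳) ((isGrHom_iff _ _).1 hh) hP) ?_ ?_
    · intro h0
      apply hP0
      rw [eq_bot_iff]
      intro x hx
      obtain ⟨y, rfl⟩ := hPle hx
      have : y ∈ P.comap h := hx
      rw [h0, Submodule.mem_bot] at this
      simp [this]
    · rw [eq_bot_iff]
      rintro _ ⟨hy, x, rfl⟩
      have hxP : i x ∈ P := by rw [← hι x]; exact hy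
      by_contra hne
      have hx0 : P ⊓ E ≠ ⊥ := fun e => hne (by
        have : i x ∈ P ⊓ E := ⟨hxP, subIncl_mem 𝒜 𝒳 hE.1 x⟩
        rw [e, Submodule.mem_bot] at this
        rw [Submodule.mem_bot, subIncl_injective 𝒜 𝒳 hE.1 (this.trans (map_zero i).symm), map_zero])
      refine hE.2.2 (P ⊓ E) (inf_homogeneous 𝒳 hP hE.1) inf_le_right hx0 ?_
      rw [eq_bot_iff, ← hbot]
      exact inf_le_inf_right _ inf_le_left
  have hEh : E ≤ LinearMap.range h := fun x hx => ⟨q x, hlift x hx⟩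
  have heq : LinearMap.range h = E := le_antisymm (hmax hrange hEh) hEh
  have hp : ∀ x, h (q x) ∈ E := fun x => heq ▸ LinearMap.mem_range_self h _
  refine ⟨E, Q, hE, hQ, ⟨disjoint_iff.2 (by rw [inf_comm, hQE]), codisjoint_iff.2 ?_⟩,
    h ∘ₗ q, fun g m hm => hh g _ (quotMk_grHom 𝒜 𝒳 hQ g m hm), hp, hlift⟩
  rw [eq_top_iff]
  intro x _
  have h1 : q (h (q x)) = q x := hhinj (hlift _ (hp x))
  refine Submodule.mem_sup.2 ⟨_, hp x, x - h (q x), hq0 _ (by rw [map_sub, h1, sub_self]), by abel⟩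

include 𝒜 in
/-- The envelope inside a *injective module, as an envelope. -/
theorem exists_hull_map (hX : GrLC.IsStarInj 𝒜 𝒳) (e : M →ₗ[R] X) (he : GrLC.IsGrHom ℳ 𝒳 e)
    (hinj : Function.Injective e) :
    ∃ (E : GrLC.GMod.{u} 𝒜) (f : M →ₗ[R] E.carrier) (ψ : E.carrier →ₗ[R] X) (Q : Submodule R X),
      GrLC.IsStarInjHull 𝒜 ℳ E.gr f ∧ Function.Injective ψ ∧ GrLC.IsGrHom E.gr 𝒳 ψ ∧
      ψ ∘ₗ f = e ∧ Q.IsHomogeneous 𝒳 ∧ IsCompl (LinearMap.range ψ) Q := by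
  obtain ⟨E, Q, ⟨hEh, hLE, hess⟩, hQ, hc, p, hp, hpE, hpid⟩ := exists_hull_in 𝒜 𝒳 hX
    (LinearMap.range e) (range_homogeneous ℳ 𝒳 ((isGrHom_iff ℳ 𝒳).1 he))
  let i := subIncl 𝒜 𝒳 hEh
  let f := toSubG 𝒜 𝒳 hEh e (fun m => hLE ⟨m, rfl⟩)
  have hif : i ∘ₗ f = e := LinearMap.ext fun m => subIncl_toSubG 𝒜 𝒳 hEh e (fun m => hLE ⟨m, rfl⟩) m
  refine ⟨subG 𝒜 𝒳 hEh, f, i, Q, ⟨⟨fun a b h => hinj ?_, toSubG_grHom 𝒜 𝒳 hEh ℳ he (fun m => hLE ⟨m, rfl⟩), ?_⟩, ?_⟩,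
    subIncl_injective 𝒜 𝒳 hEh, subIncl_grHom 𝒜 𝒳 hEh, hif, hQ,
    by rw [range_subIncl]; exact hc⟩
  · rw [← hif, LinearMap.comp_apply, LinearMap.comp_apply, h]
  · intro P hP hP0 hbot
    refine hess (P.map i) (map_homogeneous (subG 𝒜 𝒳 hEh).gr 𝒳
      ((isGrHom_iff _ _).1 (subIncl_grHom 𝒜 𝒳 hEh)) hP) ?_ ?_ ?_
    · rintro _ ⟨x, -, rfl⟩; exact subIncl_mem 𝒜 𝒳 hEh x
    · intro h0
      apply hP0
      rw [eq_bot_iff]
      intro x hx
      have : i x ∈ P.map i := ⟨x, hx, rfl⟩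
      rw [h0, Submodule.mem_bot] at this
      exact (Submodule.mem_bot R).2 (subIncl_injective 𝒜 𝒳 hEh (this.trans (map_zero i).symm))
    · rw [eq_bot_iff]
      rintro _ ⟨⟨x, hx, rfl⟩, m, hm⟩
      have h1 : f m ∈ P ⊓ LinearMap.range f := by
        refine ⟨?_, m, rfl⟩
        have hfx : f m = x := subIncl_injective 𝒜 𝒳 hEh ((LinearMap.congr_fun hif m).trans hm)
        rw [hfx]; exact hx
      rw [hbot, Submodule.mem_bot] at h1
      rw [Submodule.mem_bot, ← hm, ← hif, LinearMap.comp_apply, h1, map_zero]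
  · exact starInj_of_retract 𝒜 (subG 𝒜 𝒳 hEh).gr hX (s := i)
      (p := toSubG 𝒜 𝒳 hEh p hpE) (subIncl_grHom 𝒜 𝒳 hEh) (toSubG_grHom 𝒜 𝒳 hEh 𝒳 hp hpE)
      (LinearMap.ext fun x => subIncl_injective 𝒜 𝒳 hEh
        ((subIncl_toSubG 𝒜 𝒳 hEh p hpE _).trans (hpid _ (subIncl_mem 𝒜 𝒳 hEh x))))

end InStarInj

/-- Every graded module has a *injective envelope. -/
theorem exists_starInjHull :
    ∃ (E : GrLC.GMod.{u} 𝒜) (f : M →ₗ[R] E.carrier), GrLC.IsStarInjHull 𝒜 ℳ E.gr f := by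
  obtain ⟨X, e, he, hinj, hX⟩ := exists_starInj_embedding 𝒜 ℳ
  obtain ⟨E, f, -, -, hf, -⟩ := exists_hull_map 𝒜 ℳ X.gr hX e he hinj
  exact ⟨E, f, hf⟩

/-- A *injective module has no proper *essential extension. -/
theorem surjective_of_starEss (hM : GrLC.IsStarInj 𝒜 ℳ) {f : M →ₗ[R] N}
    (hf : GrLC.IsStarEss ℳ 𝒩 f) : Function.Surjective f := by
  obtain ⟨p, hp, hpf⟩ := starInj_extend 𝒜 ℳ 𝒩 hM hf.grHom hf.injective (g := LinearMap.id)
    (fun _ _ hm => hm)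
  have hinj : Function.Injective p := injective_of_ess 𝒩 ℳ hf.essential
    ((isGrHom_iff 𝒩 ℳ).1 hp) (by
      intro a b h
      have ha := LinearMap.congr_fun hpf a
      have hb := LinearMap.congr_fun hpf b
      simp only [LinearMap.comp_apply, LinearMap.id_apply] at ha hb h
      rw [← ha, ← hb]; exact h)
  exact fun y => ⟨p y, hinj (LinearMap.congr_fun hpf (p y))⟩

/-- Characterisation of *injectives by *essential extensions. -/
theorem starInj_iff_no_ess : GrLC.IsStarInj 𝒜 ℳ ↔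
    ∀ (N : GrLC.GMod.{u} 𝒜) (f : M →ₗ[R] N.carrier), GrLC.IsStarEss ℳ N.gr f → Function.Surjective f := by
  refine ⟨fun h N f hf => surjective_of_starEss 𝒜 ℳ N.gr h hf, fun h => ?_⟩
  obtain ⟨E, f, hf⟩ := exists_starInjHull 𝒜 ℳ
  let e := LinearEquiv.ofBijective f ⟨hf.injective, h E f hf.toIsStarEss⟩
  have he : GrLC.IsGrHom ℳ E.gr e.toLinearMap := hf.grHom
  refine starInj_of_retract 𝒜 ℳ hf.starInj (s := f) (p := e.symm.toLinearMap) hf.grHom ?_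
    (LinearMap.ext fun x => e.symm_apply_apply x)
  have := grHomDeg_symm ℳ E.gr e ((isGrHom_iff _ _).1 he)
  rw [neg_zero] at this
  exact (isGrHom_iff _ _).2 this

/-- Uniqueness of *injective envelopes. -/
theorem hull_unique {E₁ E₂ : Type u} [AddCommGroup E₁] [Module R E₁] [AddCommGroup E₂] [Module R E₂]
    (𝓔₁ : ι → AddSubgroup E₁) [Decomposition 𝓔₁] [SetLike.GradedSMul 𝒜 𝓔₁]
    (𝓔₂ : ι → AddSubgroup E₂) [Decomposition 𝓔₂] [SetLike.GradedSMul 𝒜 𝓔₂]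
    {f₁ : M →ₗ[R] E₁} {f₂ : M →ₗ[R] E₂} (h₁ : GrLC.IsStarInjHull 𝒜 ℳ 𝓔₁ f₁)
    (h₂ : GrLC.IsStarInjHull 𝒜 ℳ 𝓔₂ f₂) :
    ∃ β : E₁ ≃ₗ[R] E₂, GrLC.IsGrHom 𝓔₁ 𝓔₂ β.toLinearMap ∧ β.toLinearMap ∘ₗ f₁ = f₂ := by
  obtain ⟨b, hb, hbf⟩ := starInj_extend 𝒜 ℳ 𝓔₁ h₂.starInj h₁.grHom h₁.injective h₂.grHom
  have hbinj : Function.Injective b := injective_of_ess 𝓔₁ 𝓔₂ h₁.essential
    ((isGrHom_iff _ _).1 hb) (by rw [hbf]; exact h₂.injective)
  have hbess : GrLC.IsStarEss 𝓔₁ 𝓔₂ b := by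
    refine ⟨hbinj, hb, fun P hP hP0 hbot => h₂.essential P hP hP0 ?_⟩
    rw [eq_bot_iff, ← hbot]
    refine inf_le_inf_left _ ?_
    rw [← hbf]
    exact LinearMap.range_comp_le_range _ _
  exact ⟨LinearEquiv.ofBijective b ⟨hbinj, surjective_of_starEss 𝒜 𝓔₁ 𝓔₂ h₁.starInj hbess⟩, hb, hbf⟩

end GrInjLib
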