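import Mathlib
import Groth.Agent.GrInjLib.Hull

/-! *Injective resolutions: existence, comparison, and the graded pieces of their cohomology. -/

set_option autoImplicit false
set_option linter.style.haveILetI false
set_option linter.unusedSectionVars false
universe u

namespace GrInjLib

open DirectSum

variable {ι : Type} [AddCommGroup ι] [DecidableEq ι] {R : Type u} [CommRing R]
  {σ : Type u} [SetLike σ R] [AddSubgroupClass σ R] (𝒜 : ι → σ) [GradedRing 𝒜]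

section Extend

variable {M : Type u} [AddCommGroup M] [Module R M] (ℳ : ι → AddSubgroup M)
  [Decomposition ℳ] [SetLike.GradedSMul 𝒜 ℳ]
  {N : Type u} [AddCommGroup N] [Module R N] (𝒩 : ι → AddSubgroup N)
  [Decomposition 𝒩] [SetLike.GradedSMul 𝒜 𝒩]
  {L : Type u} [AddCommGroup L] [Module R L] {𝓛 : ι → AddSubgroup L}
  [Decomposition 𝓛] [SetLike.GradedSMul 𝒜 𝓛]

/-- Extension of homogeneous maps of any degree into a *injective module. -/
theorem extend_deg (hL : GrLC.IsStarInj 𝒜 𝓛) {f : M →ₗ[R] N} (hf : GrLC.IsGrHom ℳ 𝒩 f)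
    (hinj : Function.Injective f) {g : M →ₗ[R] L} {δ : ι} (hg : GrLC.IsGrHomDeg ℳ 𝓛 g δ) :
    ∃ h : N →ₗ[R] L, GrLC.IsGrHomDeg 𝒩 𝓛 h δ ∧ h ∘ₗ f = g := by
  letI := (shift_isInternal ℳ (-δ)).chooseDecomposition
  letI := (shift_isInternal 𝒩 (-δ)).chooseDecomposition
  obtain ⟨h, hh, hhf⟩ := starInj_extend 𝒜 (shiftPieces ℳ (-δ)) (shiftPieces 𝒩 (-δ)) hL
    (f := f) (fun j m hm => hf _ m hm) hinj (g := g) (fun j m hm => by
      have := hg _ m (hm : m ∈ ℳ (j + -δ))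
      rwa [neg_add_cancel_right] at this)
  refine ⟨h, fun j m hm => hh (j + δ) m ?_, hhf⟩
  show m ∈ 𝒩 (j + δ + -δ)
  rwa [add_neg_cancel_right]

/-- Homogeneous maps vanishing on the kernel factor, up to extension. -/
theorem factor_deg (hL : GrLC.IsStarInj 𝒜 𝓛) {f : M →ₗ[R] N} (hf : GrLC.IsGrHom ℳ 𝒩 f)
    {g : M →ₗ[R] L} {δ : ι} (hg : GrLC.IsGrHomDeg ℳ 𝓛 g δ)
    (hker : ∀ x, f x = 0 → g x = 0) :
    ∃ h : N →ₗ[R] L, GrLC.IsGrHomDeg 𝒩 𝓛 h δ ∧ h ∘ₗ f = g := by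
  have hK : (LinearMap.ker f).IsHomogeneous ℳ := ker_homogeneous ℳ 𝒩 ((isGrHom_iff ℳ 𝒩).1 hf)
  letI := (quot_isInternal ℳ hK).chooseDecomposition
  obtain ⟨h, hh, hhf⟩ := extend_deg 𝒜 (quotPieces ℳ (LinearMap.ker f)) 𝒩 hL
    (f := (LinearMap.ker f).liftQ f le_rfl)
    (by rintro j _ ⟨m, hm, rfl⟩; exact hf j m hm)
    (LinearMap.ker_eq_bot.1 (Submodule.ker_liftQ_eq_bot _ _ _ le_rfl))
    (g := (LinearMap.ker f).liftQ g (fun x hx => hker x hx)) (δ := δ)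
    (by rintro j _ ⟨m, hm, rfl⟩; exact hg j m hm)
  exact ⟨h, hh, LinearMap.ext fun x => LinearMap.congr_fun hhf (Submodule.Quotient.mk x)⟩

end Extend

section Exists

/-- One step of the resolution. -/
theorem exists_step (X : GrLC.GMod.{u} 𝒜) (K : Submodule R X.carrier) (hK : K.IsHomogeneous X.gr) :
    ∃ (Y : GrLC.GMod.{u} 𝒜) (d : X.carrier →ₗ[R] Y.carrier),
      GrLC.IsGrHom X.gr Y.gr d ∧ LinearMap.ker d = K ∧ GrLC.IsStarInj 𝒜 Y.gr := by
  obtain ⟨Y, e, he, hinj, hY⟩ := exists_starInj_embedding 𝒜 (quotG 𝒜 X.gr hK).gr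
  refine ⟨Y, e ∘ₗ quotMk 𝒜 X.gr hK, fun g m hm => he g _ (quotMk_grHom 𝒜 X.gr hK g m hm), ?_, hY⟩
  rw [LinearMap.ker_comp, LinearMap.ker_eq_bot.2 hinj, Submodule.comap_bot, ker_quotMk]

/-- The state of the construction of a resolution. -/
structure Stage where
  /-- the current term -/
  X : GrLC.GMod.{u} 𝒜
  /-- the image of the previous map -/
  K : Submodule R X.carrier
  hK : K.IsHomogeneous X.gr
  inj : GrLC.IsStarInj 𝒜 X.gr

variable {𝒜}

/-- The next term. -/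
noncomputable def Stage.nextX (s : Stage 𝒜) : GrLC.GMod.{u} 𝒜 := (exists_step 𝒜 s.X s.K s.hK).choose

/-- The next differential. -/
noncomputable def Stage.nextD (s : Stage 𝒜) : s.X.carrier →ₗ[R] s.nextX.carrier :=
  (exists_step 𝒜 s.X s.K s.hK).choose_spec.choose

theorem Stage.nextD_spec (s : Stage 𝒜) : GrLC.IsGrHom s.X.gr s.nextX.gr s.nextD ∧
    LinearMap.ker s.nextD = s.K ∧ GrLC.IsStarInj 𝒜 s.nextX.gr :=
  (exists_step 𝒜 s.X s.K s.hK).choose_spec.choose_spec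

/-- The next stage. -/
noncomputable def Stage.next (s : Stage 𝒜) : Stage 𝒜 :=
  ⟨s.nextX, LinearMap.range s.nextD,
    range_homogeneous s.X.gr s.nextX.gr ((isGrHom_iff _ _).1 s.nextD_spec.1), s.nextD_spec.2.2⟩

/-- All stages. -/
noncomputable def Stage.iter (s : Stage 𝒜) : ℕ → Stage 𝒜
  | 0 => s
  | n + 1 => (s.iter n).next

variable (𝒜)

/-- Existence of *injective resolutions. -/
theorem exists_starInjRes {M : Type u} [AddCommGroup M] [Module R M] (ℳ : ι → AddSubgroup M)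
    [Decomposition ℳ] [SetLike.GradedSMul 𝒜 ℳ] : Nonempty (GrLC.StarInjRes 𝒜 ℳ) := by
  obtain ⟨X, e, he, hinj, hX⟩ := exists_starInj_embedding 𝒜 ℳ
  let s : Stage 𝒜 := ⟨X, LinearMap.range e, range_homogeneous ℳ X.gr ((isGrHom_iff _ _).1 he), hX⟩
  exact ⟨{
    X := fun n => (s.iter n).X
    d := fun n => (s.iter n).nextD
    ε := e
    d_grHom := fun n => (s.iter n).nextD_spec.1
    ε_grHom := he
    ε_injective := hinj
    exact_zero := (s.iter 0).nextD_spec.2.1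
    exact_succ := fun n => (s.iter (n + 1)).nextD_spec.2.1
    starInj := fun n => (s.iter n).inj }⟩

end Exists

section Compare

variable {𝒜}
variable {M : Type u} [AddCommGroup M] [Module R M] {ℳ : ι → AddSubgroup M}
  [Decomposition ℳ] [SetLike.GradedSMul 𝒜 ℳ]
  {M' : Type u} [AddCommGroup M'] [Module R M'] {ℳ' : ι → AddSubgroup M'}
  [Decomposition ℳ'] [SetLike.GradedSMul 𝒜 ℳ']
  (E : GrLC.StarInjRes 𝒜 ℳ) (E' : GrLC.StarInjRes 𝒜 ℳ') (a : HomogeneousIdeal 𝒜)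

/-- A lift of `φ` to the resolutions. -/
structure Lift (φ : M →ₗ[R] M') (δ : ι) where
  /-- the components -/
  ψ : ∀ n, (E.X n).carrier →ₗ[R] (E'.X n).carrier
  deg : ∀ n, GrLC.IsGrHomDeg (E.X n).gr (E'.X n).gr (ψ n) δ
  comm0 : ψ 0 ∘ₗ E.ε = E'.ε ∘ₗ φ
  comm : ∀ n, ψ (n + 1) ∘ₗ E.d n = E'.d n ∘ₗ ψ n

omit [Decomposition ℳ] [SetLike.GradedSMul 𝒜 ℳ] in
theorem d_comp_d [Decomposition ℳ] [SetLike.GradedSMul 𝒜 ℳ] (E : GrLC.StarInjRes 𝒜 ℳ) (n : ℕ)
    (x : (E.X n).carrier) : E.d (n + 1) (E.d n x) = 0 := by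
  rw [← LinearMap.mem_ker, E.exact_succ]
  exact ⟨x, rfl⟩

/-- The condition on a partial lift. -/
def LiftOK {n : ℕ} {δ : ι} (f : (E.X n).carrier →ₗ[R] (E'.X n).carrier) : Prop :=
  GrLC.IsGrHomDeg (E.X n).gr (E'.X n).gr f δ ∧ ∀ x, E.d n x = 0 → E'.d n (f x) = 0

theorem exists_next {n : ℕ} {δ : ι} (f : {f // LiftOK E E' (n := n) (δ := δ) f}) :
    ∃ g : {g // LiftOK E E' (n := n + 1) (δ := δ) g}, g.1 ∘ₗ E.d n = E'.d n ∘ₗ f.1 := by
  obtain ⟨h, hh, hhf⟩ := factor_deg 𝒜 (E.X n).gr (E.X (n + 1)).gr (E'.starInj (n + 1))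
    (E.d_grHom n) (g := E'.d n ∘ₗ f.1) (δ := δ)
    (fun j m hm => E'.d_grHom n _ _ (f.2.1 j m hm)) f.2.2
  refine ⟨⟨h, hh, fun x hx => ?_⟩, hhf⟩
  rw [← LinearMap.mem_ker, E.exact_succ] at hx
  obtain ⟨y, rfl⟩ := hx
  rw [show h (E.d n y) = E'.d n (f.1 y) from LinearMap.congr_fun hhf y]
  exact d_comp_d E' n _

/-- Lifts exist. -/
theorem exists_lift {φ : M →ₗ[R] M'} {δ : ι} (hφ : GrLC.IsGrHomDeg ℳ ℳ' φ δ) :
    Nonempty (Lift E E' φ δ) := by
  obtain ⟨f0, hf0, hf0e⟩ := extend_deg 𝒜 ℳ (E.X 0).gr (E'.starInj 0) E.ε_grHom E.ε_injective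
    (g := E'.ε ∘ₗ φ) (δ := δ) (fun j m hm => E'.ε_grHom _ _ (hφ j m hm))
  have h0 : ∀ x, E.d 0 x = 0 → E'.d 0 (f0 x) = 0 := fun x hx => by
    rw [← LinearMap.mem_ker, E.exact_zero] at hx
    obtain ⟨y, rfl⟩ := hx
    rw [show f0 (E.ε y) = E'.ε (φ y) from LinearMap.congr_fun hf0e y, ← LinearMap.mem_ker,
      E'.exact_zero]
    exact ⟨_, rfl⟩
  let c : ∀ n, {f // LiftOK E E' (n := n) (δ := δ) f} := fun n => Nat.rec
    ⟨f0, hf0, h0⟩ (fun m f => (exists_next E E' f).choose) n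
  exact ⟨⟨fun n => (c n).1, fun n => (c n).2.1, hf0e, fun n => (exists_next E E' (c n)).choose_spec⟩⟩

variable {E E'}

theorem map_gam {N N' : Type u} [AddCommGroup N] [Module R N] [AddCommGroup N'] [Module R N']
    (f : N →ₗ[R] N') (I : Ideal R) {x : N} (hx : x ∈ GrLC.gam I N) : f x ∈ GrLC.gam I N' := by
  obtain ⟨k, hk⟩ := hx
  exact ⟨k, fun r hr => by rw [← map_smul, hk r hr, map_zero]⟩

/-- The map on cocycles. -/
noncomputable def Lift.mapZ {φ : M →ₗ[R] M'} {δ : ι} (L : Lift E E' φ δ) (i : ℕ) :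
    ↥(E.cocyc a i) →ₗ[R] ↥(E'.cocyc a i) :=
  (L.ψ i ∘ₗ (E.cocyc a i).subtype).codRestrict _ (fun x => ⟨map_gam (L.ψ i) a.toIdeal x.2.1, by
    show E'.d i (L.ψ i x) = 0
    rw [← LinearMap.comp_apply, ← L.comm, LinearMap.comp_apply, LinearMap.mem_ker.1 x.2.2, map_zero]⟩)

/-- The map on graded local cohomology. -/
noncomputable def Lift.mapH {φ : M →ₗ[R] M'} {δ : ι} (L : Lift E E' φ δ) (i : ℕ) :
    E.H a i →ₗ[R] E'.H a i :=
  Submodule.mapQ _ _ (L.mapZ a i) (fun x hx => by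
    show L.ψ i x ∈ E'.cobdy a i
    have hx' : (x : (E.X i).carrier) ∈ E.cobdy a i := hx
    cases i with
    | zero =>
      rw [show (x : (E.X 0).carrier) = 0 from hx', map_zero]
      exact zero_mem _
    | succ k =>
      obtain ⟨y, hy, hyx⟩ := hx'
      exact ⟨L.ψ k y, map_gam _ _ hy, by
        rw [← hyx, ← LinearMap.comp_apply, ← L.comm, LinearMap.comp_apply]⟩)

theorem Lift.mapH_mk {φ : M →ₗ[R] M'} {δ : ι} (L : Lift E E' φ δ) (i : ℕ)
    (z : ↥(E.cocyc a i)) : L.mapH a i (E.toH a i z) = E'.toH a i (L.mapZ a i z) := rfl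

/-- Lifts of zero are null-homotopic. -/
theorem Lift.homotopy {δ : ι} (L : Lift E E' (0 : M →ₗ[R] M') δ) (i : ℕ) :
    ∃ h : (E.X (i + 1)).carrier →ₗ[R] (E'.X i).carrier,
      GrLC.IsGrHomDeg (E.X (i + 1)).gr (E'.X i).gr h δ ∧
      (∀ x, E'.d i (L.ψ i x - h (E.d i x)) = 0) ∧
      ∀ z : ↥(E.cocyc a i), L.ψ i z ∈ E'.cobdy a i := by
  induction i with
  | zero =>
    have hv : ∀ x, E.d 0 x = 0 → L.ψ 0 x = 0 := fun x hx => by
      rw [← LinearMap.mem_ker, E.exact_zero] at hx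
      obtain ⟨y, rfl⟩ := hx
      have := LinearMap.congr_fun L.comm0 y
      simpa using this
    obtain ⟨h, hh, hhf⟩ := factor_deg 𝒜 (E.X 0).gr (E.X 1).gr (E'.starInj 0) (E.d_grHom 0)
      (L.deg 0) hv
    refine ⟨h, hh, fun x => ?_, fun z => ?_⟩
    · rw [show h (E.d 0 x) = L.ψ 0 x from LinearMap.congr_fun hhf x, sub_self, map_zero]
    · rw [hv _ (LinearMap.mem_ker.1 z.2.2)]
      exact zero_mem _
  | succ k ih =>
    obtain ⟨h, hh, hd, -⟩ := ih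
    have hg : GrLC.IsGrHomDeg (E.X (k + 1)).gr (E'.X (k + 1)).gr (L.ψ (k + 1) - E'.d k ∘ₗ h) δ :=
      fun j m hm => sub_mem (L.deg (k + 1) j m hm) (E'.d_grHom k _ _ (hh j m hm))
    have hv : ∀ x, E.d (k + 1) x = 0 → (L.ψ (k + 1) - E'.d k ∘ₗ h) x = 0 := fun x hx => by
      rw [← LinearMap.mem_ker, E.exact_succ] at hx
      obtain ⟨y, rfl⟩ := hx
      rw [LinearMap.sub_apply, LinearMap.comp_apply, ← LinearMap.comp_apply (f := L.ψ (k + 1)),
        L.comm, LinearMap.comp_apply, ← map_sub, hd]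
    obtain ⟨h', hh', hhf'⟩ := factor_deg 𝒜 (E.X (k + 1)).gr (E.X (k + 2)).gr (E'.starInj (k + 1))
      (E.d_grHom (k + 1)) hg hv
    refine ⟨h', hh', fun x => ?_, fun z => ?_⟩
    · rw [show h' (E.d (k + 1) x) = _ from LinearMap.congr_fun hhf' x, LinearMap.sub_apply,
        sub_sub_cancel, LinearMap.comp_apply, d_comp_d]
    · refine ⟨h z, map_gam _ _ z.2.1, ?_⟩
      have := hv _ (LinearMap.mem_ker.1 z.2.2)
      rw [LinearMap.sub_apply, LinearMap.comp_apply, sub_eq_zero] at this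
      exact this.symm

/-- Two lifts of the same map agree on cohomology. -/
theorem Lift.mapH_eq {φ : M →ₗ[R] M'} {δ : ι} (L L' : Lift E E' φ δ) (i : ℕ) :
    L.mapH a i = L'.mapH a i := by
  let D : Lift E E' (0 : M →ₗ[R] M') δ :=
    { ψ := fun n => L.ψ n - L'.ψ n
      deg := fun n j m hm => sub_mem (L.deg n j m hm) (L'.deg n j m hm)
      comm0 := by rw [LinearMap.sub_comp, L.comm0, L'.comm0, sub_self, LinearMap.comp_zero]
      comm := fun n => by rw [LinearMap.sub_comp, L.comm, L'.comm, LinearMap.comp_sub] }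
  refine LinearMap.ext fun x => ?_
  obtain ⟨z, rfl⟩ := Submodule.mkQ_surjective _ x
  obtain ⟨-, -, -, hb⟩ := D.homotopy a i
  exact (Submodule.Quotient.eq _).2 (hb z)

/-- The identity lift. -/
def Lift.refl (E : GrLC.StarInjRes 𝒜 ℳ) : Lift E E (LinearMap.id : M →ₗ[R] M) 0 where
  ψ _ := LinearMap.id
  deg _ j m hm := by rwa [add_zero]
  comm0 := rfl
  comm _ := rfl

/-- Composition of lifts. -/
def Lift.comp {M'' : Type u} [AddCommGroup M''] [Module R M''] {ℳ'' : ι → AddSubgroup M''}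
    [Decomposition ℳ''] [SetLike.GradedSMul 𝒜 ℳ''] {E'' : GrLC.StarInjRes 𝒜 ℳ''}
    {φ : M →ₗ[R] M'} {φ' : M' →ₗ[R] M''} {δ δ' γ : ι} (L' : Lift E' E'' φ' δ') (L : Lift E E' φ δ)
    (hγ : δ + δ' = γ) : Lift E E'' (φ' ∘ₗ φ) γ where
  ψ n := L'.ψ n ∘ₗ L.ψ n
  deg n j m hm := by
    rw [← hγ, ← add_assoc]
    exact L'.deg n _ _ (L.deg n j m hm)
  comm0 := by rw [LinearMap.comp_assoc, L.comm0, ← LinearMap.comp_assoc, L'.comm0, LinearMap.comp_assoc]
  comm n := by rw [LinearMap.comp_assoc, L.comm, ← LinearMap.comp_assoc, L'.comm, LinearMap.comp_assoc]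

theorem Lift.mapH_comp {M'' : Type u} [AddCommGroup M''] [Module R M''] {ℳ'' : ι → AddSubgroup M''}
    [Decomposition ℳ''] [SetLike.GradedSMul 𝒜 ℳ''] {E'' : GrLC.StarInjRes 𝒜 ℳ''}
    {φ : M →ₗ[R] M'} {φ' : M' →ₗ[R] M''} {δ δ' γ : ι} (L' : Lift E' E'' φ' δ') (L : Lift E E' φ δ)
    (hγ : δ + δ' = γ) (i : ℕ) (x : E.H a i) :
    (L'.comp L hγ).mapH a i x = L'.mapH a i (L.mapH a i x) := by
  obtain ⟨z, rfl⟩ := Submodule.mkQ_surjective _ x
  rfl

theorem Lift.mapH_refl (i : ℕ) (x : E.H a i) : (Lift.refl E).mapH a i x = x := by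
  obtain ⟨z, rfl⟩ := Submodule.mkQ_surjective _ x
  rfl

theorem Lift.mapH_grHomDeg {φ : M →ₗ[R] M'} {δ : ι} (L : Lift E E' φ δ) (i : ℕ) :
    GrLC.IsGrHomDeg (E.Hgr a i) (E'.Hgr a i) (L.mapH a i) δ := by
  rintro j _ ⟨z, hz, rfl⟩
  exact ⟨L.mapZ a i z, L.deg i j _ hz, rfl⟩

variable (E) in
/-- Independence of the resolution. -/
theorem exists_H_equiv (E₂ : GrLC.StarInjRes 𝒜 ℳ) (i : ℕ) :
    ∃ e : E.H a i ≃ₗ[R] E₂.H a i, GrLC.IsGrHom (E.Hgr a i) (E₂.Hgr a i) e.toLinearMap ∧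
      GrLC.IsGrHom (E₂.Hgr a i) (E.Hgr a i) e.symm.toLinearMap := by
  have hid : GrLC.IsGrHomDeg ℳ ℳ (LinearMap.id : M →ₗ[R] M) 0 := fun j m hm => by rwa [add_zero]
  obtain ⟨L⟩ := exists_lift E E₂ hid
  obtain ⟨L'⟩ := exists_lift E₂ E hid
  have h1 : ∀ x, L'.mapH a i (L.mapH a i x) = x := fun x => by
    rw [← Lift.mapH_comp a L' L (add_zero 0)]
    exact (LinearMap.congr_fun (Lift.mapH_eq a (L'.comp L (add_zero 0)) (Lift.refl E) i) x).trans
      (Lift.mapH_refl a i x)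
  have h2 : ∀ x, L.mapH a i (L'.mapH a i x) = x := fun x => by
    rw [← Lift.mapH_comp a L L' (add_zero 0)]
    exact (LinearMap.congr_fun (Lift.mapH_eq a (L.comp L' (add_zero 0)) (Lift.refl E₂) i) x).trans
      (Lift.mapH_refl a i x)
  refine ⟨LinearEquiv.ofLinearMap (L.mapH a i) (L'.mapH a i) (LinearMap.ext h2) (LinearMap.ext h1), ?_, ?_⟩
  · intro j x hx
    have := L.mapH_grHomDeg a i j x hx
    rwa [add_zero] at this
  · intro j x hx
    have := L'.mapH_grHomDeg a i j x hx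
    rwa [add_zero] at this

end Compare

section Pieces

variable {𝒜}
variable {M : Type u} [AddCommGroup M] [Module R M] {ℳ : ι → AddSubgroup M}
  [Decomposition ℳ] [SetLike.GradedSMul 𝒜 ℳ]

theorem pow_isHomogeneous (a : HomogeneousIdeal 𝒜) (n : ℕ) : (a.toIdeal ^ n).IsHomogeneous 𝒜 := by
  induction n with
  | zero =>
    rw [pow_zero, Ideal.one_eq_top]
    exact fun _ _ _ => Submodule.mem_top
  | succ n ih => rw [pow_succ]; exact Ideal.IsHomogeneous.mul ih a.isHomogeneous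

variable (ℳ) in
/-- The torsion submodule with respect to a homogeneous ideal is homogeneous. -/
theorem gam_homogeneous (a : HomogeneousIdeal 𝒜) : (GrLC.gam a.toIdeal M).IsHomogeneous ℳ := by
  classical
  intro g x ⟨n, hn⟩
  refine ⟨n, fun r hr => ?_⟩
  show r • proj ℳ g x = 0
  rw [← DirectSum.sum_support_decompose 𝒜 r, Finset.sum_smul]
  refine Finset.sum_eq_zero fun b _ => ?_
  rw [← proj_smul 𝒜 ℳ (SetLike.coe_mem (decompose 𝒜 r b)), hn _ (pow_isHomogeneous a n b hr), map_zero]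

variable (E : GrLC.StarInjRes 𝒜 ℳ) (a : HomogeneousIdeal 𝒜)

theorem cocyc_homogeneous (i : ℕ) : (E.cocyc a i).IsHomogeneous (E.X i).gr :=
  inf_homogeneous _ (gam_homogeneous _ a) (ker_homogeneous _ _ ((isGrHom_iff _ _).1 (E.d_grHom i)))

theorem cobdy_homogeneous (i : ℕ) : (E.cobdy a i).IsHomogeneous (E.X i).gr := by
  cases i with
  | zero => exact bot_homogeneous _
  | succ n => exact map_homogeneous _ _ ((isGrHom_iff _ _).1 (E.d_grHom n)) (gam_homogeneous _ a)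

theorem H_isInternal (i : ℕ) : DirectSum.IsInternal (E.Hgr a i) := by
  have hZ := cocyc_homogeneous E a i
  letI := (sub_isInternal (E.X i).gr hZ).chooseDecomposition
  have hB : ((E.cobdy a i).comap (E.cocyc a i).subtype).IsHomogeneous
      (subPieces (E.X i).gr (E.cocyc a i)) :=
    comap_homogeneous (subPieces (E.X i).gr (E.cocyc a i)) (E.X i).gr (d := 0)
      (fun g m hm => by rw [add_zero]; exact hm) (cobdy_homogeneous E a i)
  have h := quot_isInternal (subPieces (E.X i).gr (E.cocyc a i)) (P := (E.cobdy a i).comap (E.cocyc a i).subtype) hB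
  have he : E.Hgr a i = quotPieces (subPieces (E.X i).gr (E.cocyc a i))
      ((E.cobdy a i).comap (E.cocyc a i).subtype) := rfl
  rw [he]
  exact h

end Pieces

end GrInjLib
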