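import Mathlib
import Groth.Agent.GrInjLib.Resolution

/-! *Injective envelopes of the graded modules `R ⧸ p`. -/

set_option autoImplicit false
set_option linter.style.haveILetI false
set_option linter.unusedSectionVars false
universe u

namespace GrInjLib

open DirectSum

variable {ι : Type} [AddCommGroup ι] [DecidableEq ι] {R : Type u} [CommRing R]
  {σ : Type u} [SetLike σ R] [AddSubgroupClass σ R] (𝒜 : ι → σ) [GradedRing 𝒜]
  {M : Type u} [AddCommGroup M] [Module R M] (ℳ : ι → AddSubgroup M)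
  [Decomposition ℳ] [SetLike.GradedSMul 𝒜 ℳ]
  {N : Type u} [AddCommGroup N] [Module R N] (𝒩 : ι → AddSubgroup N)
  [Decomposition 𝒩] [SetLike.GradedSMul 𝒜 𝒩]

theorem proj_ringPieces (g : ι) (x : R) :
    proj (ringPieces 𝒜) g x = (decompose 𝒜 x g : R) := by
  induction x using smul_induction 𝒜 with
  | h0 => rw [map_zero, decompose_zero]; rfl
  | hadd r s hr hs => rw [map_add, hr, hs, decompose_add, DirectSum.add_apply]; rfl
  | hhom a r hr =>
    by_cases e : a = g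
    · subst e
      rw [proj_of_mem (ringPieces 𝒜) hr, decompose_of_mem_same 𝒜 hr]
    · rw [proj_of_mem_ne (ringPieces 𝒜) hr e, decompose_of_mem_ne 𝒜 hr e]

theorem ideal_homogeneous {I : Ideal R} (hI : I.IsHomogeneous 𝒜) :
    Submodule.IsHomogeneous I (ringPieces 𝒜) := fun g x hx => by
  show proj (ringPieces 𝒜) g x ∈ I
  rw [proj_ringPieces]
  exact hI g hx

/-- Components of a multiple of a homogeneous element. -/
theorem proj_smul_hom {g : ι} {x : M} (hx : x ∈ ℳ g) (d : R) (a : ι) :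
    proj ℳ (a + g) (d • x) = (decompose 𝒜 d a : R) • x := by
  induction d using smul_induction 𝒜 with
  | h0 => simp
  | hadd r s hr hs =>
    rw [add_smul, map_add, hr, hs, decompose_add, DirectSum.add_apply]
    push_cast
    rw [add_smul]
  | hhom b r hr =>
    by_cases e : b = a
    · subst e; rw [proj_of_mem ℳ (smul_mem 𝒜 ℳ hr hx), decompose_of_mem_same 𝒜 hr]
    · rw [proj_of_mem_ne ℳ (smul_mem 𝒜 ℳ hr hx) (fun h => e (add_right_cancel h)),
        decompose_of_mem_ne 𝒜 hr e, zero_smul]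

/-- The annihilator of an element. -/
abbrev annH (x : M) : Ideal R := LinearMap.ker (LinearMap.toSpanSingleton R M x)

omit [Decomposition ℳ] [SetLike.GradedSMul 𝒜 ℳ] in
theorem mem_annH {x : M} {r : R} : r ∈ annH (R := R) x ↔ r • x = 0 := Iff.rfl

theorem annH_homogeneous {g : ι} {x : M} (hx : x ∈ ℳ g) : (annH (R := R) x).IsHomogeneous 𝒜 :=
  fun a r hr => by
    rw [mem_annH] at hr ⊢
    rw [← proj_smul_hom 𝒜 ℳ hx, hr, map_zero]

omit [Decomposition ℳ] [SetLike.GradedSMul 𝒜 ℳ] in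
theorem isPrime_of_homogeneous [Module.Free ℤ ι] [Module.Finite ℤ ι] {I : Ideal R}
    (hI : I.IsHomogeneous 𝒜) (hne : I ≠ ⊤)
    (h : ∀ a b, ∀ x ∈ 𝒜 a, ∀ y ∈ 𝒜 b, x * y ∈ I → x ∈ I ∨ y ∈ I) : I.IsPrime := by
  let b := Module.finBasis ℤ ι
  let e : ι → Lex (Fin (Module.finrank ℤ ι) → ℤ) := fun x => toLex (b.equivFun x)
  have he : Function.Injective e := fun x y h => b.equivFun.injective (toLex.injective h)
  let L := LinearOrder.lift' e he
  let dι : DecidableEq ι := inferInstance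
  let lo : LinearOrder ι := { L with
    toDecidableEq := dι
    compare_eq_compareOfLessAndEq := fun a b =>
      (L.compare_eq_compareOfLessAndEq a b).trans (by congr 1) }
  haveI : @IsOrderedCancelAddMonoid ι _ lo.toPartialOrder.toPreorder :=
    Function.Injective.isOrderedCancelAddMonoid e (fun x y => by simp [e]) Iff.rfl
  refine Ideal.IsHomogeneous.isPrime_of_homogeneous_mem_or_mem hI hne ?_
  rintro x y ⟨a, hx⟩ ⟨c, hy⟩ hxy
  exact h a c x hx y hy hxy

/-- A nonzero homogeneous submodule contains a homogeneous element with prime annihilator. -/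
theorem exists_prime_ann [Module.Free ℤ ι] [Module.Finite ℤ ι] [IsNoetherianRing R]
    {P : Submodule R M} (hP : P.IsHomogeneous ℳ) (hP0 : P ≠ ⊥) :
    ∃ g, ∃ x ∈ ℳ g, x ∈ P ∧ (annH (R := R) x).IsPrime ∧ (annH (R := R) x).IsHomogeneous 𝒜 := by
  obtain ⟨g₀, x₀, hx₀, hx₀P, hx₀0⟩ := exists_homogeneous_ne ℳ hP hP0
  obtain ⟨_, ⟨g, x, hx, hxP, hx0, rfl⟩, hmax⟩ := set_has_maximal_iff_noetherian.2 inferInstance
    {J : Ideal R | ∃ g, ∃ x ∈ ℳ g, x ∈ P ∧ x ≠ 0 ∧ annH (R := R) x = J}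
    ⟨_, g₀, x₀, hx₀, hx₀P, hx₀0, rfl⟩
  refine ⟨g, x, hx, hxP, ?_, annH_homogeneous 𝒜 ℳ hx⟩
  refine isPrime_of_homogeneous 𝒜 (annH_homogeneous 𝒜 ℳ hx)
    (fun h => hx0 (by simpa using mem_annH.1 (h.ge (Submodule.mem_top (x := (1 : R)))))) ?_
  intro a b r hr s hs hrs
  by_cases hsx : s • x = 0
  · exact Or.inr hsx
  refine Or.inl ?_
  have hle : annH (R := R) x ≤ annH (R := R) (s • x) := fun t ht => by
    rw [mem_annH] at ht ⊢
    rw [smul_comm, ht, smul_zero]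
  have heq : annH (R := R) x = annH (R := R) (s • x) := hle.eq_or_lt.resolve_right
    (hmax _ ⟨b + g, s • x, smul_mem 𝒜 ℳ hs hx, P.smul_mem s hxP, hsx, rfl⟩)
  rw [heq, mem_annH, ← mul_smul]
  exact hrs

section Hull

variable (p : HomogeneousIdeal 𝒜) {E : Type u} [AddCommGroup E] [Module R E]
  (𝓔 : ι → AddSubgroup E) [Decomposition 𝓔] [SetLike.GradedSMul 𝒜 𝓔]
  {e : (R ⧸ p.toIdeal) →ₗ[R] E}

omit [Decomposition 𝓔] [SetLike.GradedSMul 𝒜 𝓔] in
theorem map_mk_eq (r : R) : e (Ideal.Quotient.mk p.toIdeal r) = r • e 1 := by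
  rw [← map_smul, Algebra.smul_def, mul_one]
  rfl

omit [Decomposition 𝓔] [SetLike.GradedSMul 𝒜 𝓔] in
theorem smul_one_eq_zero (hinj : Function.Injective e) {r : R} :
    r • e 1 = 0 ↔ r ∈ p.toIdeal := by
  rw [← map_mk_eq, map_eq_zero_iff e hinj, Ideal.Quotient.eq_zero_iff_mem]

omit [Decomposition 𝓔] [SetLike.GradedSMul 𝒜 𝓔] in
theorem one_mem_piece (he : GrLC.IsGrHom (GrLC.quotGr 𝒜 p) 𝓔 e) : e 1 ∈ 𝓔 0 :=
  he 0 1 ⟨1, SetLike.one_mem_graded 𝒜, rfl⟩

omit [Decomposition 𝓔] [SetLike.GradedSMul 𝒜 𝓔] in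
theorem range_eq_span : LinearMap.range e = R ∙ e 1 := by
  ext y
  rw [Submodule.mem_span_singleton]
  constructor
  · rintro ⟨z, rfl⟩
    obtain ⟨r, rfl⟩ := Ideal.Quotient.mk_surjective z
    exact ⟨r, (map_mk_eq 𝒜 p r).symm⟩
  · rintro ⟨r, rfl⟩
    exact ⟨_, map_mk_eq 𝒜 p r⟩

theorem range_hull_homogeneous (he : GrLC.IsGrHom (GrLC.quotGr 𝒜 p) 𝓔 e) :
    (LinearMap.range e).IsHomogeneous 𝓔 := by
  rw [range_eq_span 𝒜 p]
  exact span_singleton_homogeneous 𝒜 𝓔 (one_mem_piece 𝒜 p 𝓔 he)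

/-- An indecomposability criterion. -/
theorem starIndec_of_hull [p.toIdeal.IsPrime] (he : GrLC.IsStarEss (GrLC.quotGr 𝒜 p) 𝓔 e) :
    GrLC.IsStarIndec R 𝓔 := by
  have : Nontrivial (R ⧸ p.toIdeal) :=
    Ideal.Quotient.nontrivial_iff.2 (Ideal.IsPrime.ne_top inferInstance)
  refine ⟨he.injective.nontrivial, fun P Q hP hQ hc => ?_⟩
  by_contra! h
  obtain ⟨_, ⟨hxP, x, rfl⟩, hx0⟩ := Submodule.exists_mem_ne_zero_of_ne_bot (he.essential P hP h.1)
  obtain ⟨_, ⟨hyQ, y, rfl⟩, hy0⟩ := Submodule.exists_mem_ne_zero_of_ne_bot (he.essential Q hQ h.2)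
  obtain ⟨r, rfl⟩ := Ideal.Quotient.mk_surjective x
  obtain ⟨s, rfl⟩ := Ideal.Quotient.mk_surjective y
  rw [map_mk_eq] at hxP hyQ hx0 hy0
  have h1 : (r * s) • e 1 ∈ P ⊓ Q := by
    refine ⟨?_, ?_⟩
    · rw [mul_comm, mul_smul]; exact P.smul_mem s hxP
    · rw [mul_smul]; exact Q.smul_mem r hyQ
  rw [disjoint_iff.1 hc.disjoint, Submodule.mem_bot, smul_one_eq_zero 𝒜 p he.injective] at h1
  rcases (Ideal.IsPrime.mem_or_mem inferInstance h1) with h2 | h2
  · exact hx0 ((smul_one_eq_zero 𝒜 p he.injective).2 h2)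
  · exact hy0 ((smul_one_eq_zero 𝒜 p he.injective).2 h2)

/-- Homogeneous elements outside `p` act bijectively. -/
theorem smul_bijective [p.toIdeal.IsPrime] (he : GrLC.IsStarInjHull 𝒜 (GrLC.quotGr 𝒜 p) 𝓔 e)
    {g : ι} {r : R} (hr : r ∈ 𝒜 g) (hrp : r ∉ p.toIdeal) :
    Function.Bijective (fun x : E => r • x) := by
  let f : E →ₗ[R] E := r • LinearMap.id
  have hf : GrLC.IsGrHomDeg 𝓔 𝓔 f g := fun j x hx => by
    show r • x ∈ 𝓔 (j + g)
    rw [add_comm]
    exact smul_mem 𝒜 𝓔 hr hx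
  have hcancel : ∀ c : R, (r * c) • e 1 = 0 → c • e 1 = 0 := fun c hc => by
    rw [smul_one_eq_zero 𝒜 p he.injective] at hc ⊢
    exact (Ideal.IsPrime.mem_or_mem inferInstance hc).resolve_left hrp
  have hinj : Function.Injective f := by
    rw [← LinearMap.ker_eq_bot]
    by_contra hne
    obtain ⟨_, ⟨hy, y, rfl⟩, hy0⟩ := Submodule.exists_mem_ne_zero_of_ne_bot
      (he.essential _ (ker_homogeneous 𝓔 𝓔 hf) hne)
    obtain ⟨c, rfl⟩ := Ideal.Quotient.mk_surjective y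
    rw [map_mk_eq] at hy hy0
    refine hy0 (hcancel c ?_)
    rw [mul_smul]
    exact hy
  letI := (shift_isInternal 𝓔 (-g)).chooseDecomposition
  obtain ⟨h, hh, hhf⟩ := extend_deg 𝒜 (shiftPieces 𝓔 (-g)) 𝓔 he.starInj (f := f)
    (fun j x hx => by
      have := hf _ x (hx : x ∈ 𝓔 (j + -g))
      rwa [neg_add_cancel_right] at this)
    hinj (g := LinearMap.id) (δ := -g) (fun j x hx => hx)
  have h1 : ∀ x, h (r • x) = x := LinearMap.congr_fun hhf
  have hhinj : Function.Injective h := by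
    rw [← LinearMap.ker_eq_bot]
    by_contra hne
    obtain ⟨y, ⟨hy, z, rfl⟩, hy0⟩ := Submodule.exists_mem_ne_zero_of_ne_bot
      (he.essential _ (ker_homogeneous 𝓔 𝓔 hh) hne)
    apply hy0
    rw [← h1 (e z), map_smul, LinearMap.mem_ker.1 hy, smul_zero]
  exact ⟨hinj, fun x => ⟨h x, hhinj (h1 (h x))⟩⟩

/-- The envelope is `p`-torsion. -/
theorem gam_eq_top [IsNoetherianRing R] (he : GrLC.IsStarEss (GrLC.quotGr 𝒜 p) 𝓔 e) :
    GrLC.gam p.toIdeal E = ⊤ := by
  rw [eq_top_iff]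
  intro x hx'
  clear hx'
  induction x using DirectSum.Decomposition.inductionOn 𝓔 with
  | zero => exact zero_mem _
  | add a b ha hb => exact add_mem ha hb
  | @homogeneous i m =>
    obtain ⟨x, hx⟩ := m
    show x ∈ GrLC.gam p.toIdeal E
    suffices hrad : p.toIdeal ≤ (annH (R := R) x).radical by
      obtain ⟨n, hn⟩ := Ideal.exists_pow_le_of_le_radical_of_fg hrad (IsNoetherian.noetherian _)
      exact ⟨n, fun r hr => hn hr⟩
    suffices key : ∀ a, ∀ r ∈ 𝒜 a, r ∈ p.toIdeal → r ∈ (annH (R := R) x).radical by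
      intro r hr
      classical
      rw [← DirectSum.sum_support_decompose 𝒜 r]
      exact Submodule.sum_mem _ fun a _ => key a _ (SetLike.coe_mem _) (p.isHomogeneous a hr)
    intro a r hr hrp
    obtain ⟨n, hn⟩ := monotone_stabilizes_iff_noetherian.2 (inferInstance : IsNoetherianRing R)
      ⟨fun n => annH (R := R) (r ^ n • x), monotone_nat_of_le_succ fun n t ht => by
        rw [mem_annH] at ht ⊢
        rw [pow_succ', mul_smul, smul_comm, ht, smul_zero]⟩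
    refine ⟨n, ?_⟩
    rw [mem_annH]
    by_contra hy0
    obtain ⟨b, c, -, hc, hc0⟩ := exists_smul_mem_range 𝒜 𝓔 he.essential
      (range_hull_homogeneous 𝒜 p 𝓔 he.grHom)
      (smul_mem 𝒜 𝓔 (SetLike.pow_mem_graded n hr) hx) hy0
    rw [range_eq_span 𝒜 p, Submodule.mem_span_singleton] at hc
    obtain ⟨t, ht⟩ := hc
    apply hc0
    have h2 : c ∈ annH (R := R) (r ^ (n + 1) • x) := by
      rw [mem_annH, pow_succ', mul_smul, smul_comm, ← ht, ← mul_smul,
        smul_one_eq_zero 𝒜 p he.injective]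
      exact Ideal.mul_mem_right _ _ hrp
    have h3 := hn (n + 1) n.le_succ
    simp only [OrderHom.coe_mk] at h3
    rw [← h3, mem_annH] at h2
    exact h2

/-- The prime is determined by the envelope. -/
theorem prime_le [IsNoetherianRing R] (q : HomogeneousIdeal 𝒜) [q.toIdeal.IsPrime]
    (he : GrLC.IsStarEss (GrLC.quotGr 𝒜 p) 𝓔 e) (x : E)
    (hx : ∀ r : R, r • x = 0 → r ∈ q.toIdeal) : p.toIdeal ≤ q.toIdeal := by
  obtain ⟨n, hn⟩ : x ∈ GrLC.gam p.toIdeal E := by rw [gam_eq_top 𝒜 p 𝓔 he]; trivial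
  exact fun r hr => Ideal.IsPrime.mem_of_pow_mem inferInstance n
    (hx _ (hn _ (Ideal.pow_mem_pow hr n)))

end Hull

section Shifted

variable (q : HomogeneousIdeal 𝒜)

/-- The decomposition of the shifted quotient `(R/q)(-g₀)`. -/
theorem quotGr_shift_isInternal (g₀ : ι) :
    DirectSum.IsInternal (fun j : ι => GrLC.quotGr 𝒜 q (j - g₀)) := by
  letI := (quot_isInternal (ringPieces 𝒜)
    (ideal_homogeneous 𝒜 q.isHomogeneous)).chooseDecomposition
  have h := shift_isInternal (quotPieces (ringPieces 𝒜) (q.toIdeal : Submodule R R)) (-g₀)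
  have he : (fun j : ι => GrLC.quotGr 𝒜 q (j - g₀)) =
      shiftPieces (quotPieces (ringPieces 𝒜) (q.toIdeal : Submodule R R)) (-g₀) := by
    funext j
    rw [shiftPieces, sub_eq_add_neg]
    rfl
  rw [he]
  exact h

theorem quotGr_shift_gradedSMul (g₀ : ι) :
    SetLike.GradedSMul 𝒜 (fun j : ι => GrLC.quotGr 𝒜 q (j - g₀)) :=
  ⟨fun {a b r x} hr hx => by
    obtain ⟨s, hs, rfl⟩ := hx
    refine ⟨r * s, ?_, map_mul (Ideal.Quotient.mk q.toIdeal) r s⟩
    show r * s ∈ 𝒜 ((a + b) - g₀)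
    rw [add_sub_assoc]
    exact SetLike.GradedMul.mul_mem hr hs⟩

/-- The map `R/q → M` at a homogeneous element with annihilator `q`. -/
theorem exists_hull_at {g₀ : ι} {m : M} (hM : GrLC.IsStarInj 𝒜 ℳ) (hm : m ∈ ℳ g₀)
    (hann : annH (R := R) m = q.toIdeal) :
    ∃ (X : GrLC.GMod.{u} 𝒜) (f : (R ⧸ q.toIdeal) →ₗ[R] X.carrier) (ψ : X.carrier →ₗ[R] M)
      (Q : Submodule R M),
      GrLC.IsStarInjHull 𝒜 (fun j : ι => GrLC.quotGr 𝒜 q (j - g₀)) X.gr f ∧
        Function.Injective ψ ∧ GrLC.IsGrHom X.gr ℳ ψ ∧ ψ (f 1) = m ∧ Q.IsHomogeneous ℳ ∧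
        IsCompl (LinearMap.range ψ) Q := by
  letI := (quotGr_shift_isInternal 𝒜 q g₀).chooseDecomposition
  haveI := quotGr_shift_gradedSMul 𝒜 q g₀
  let e : (R ⧸ q.toIdeal) →ₗ[R] M :=
    Submodule.liftQ (q.toIdeal : Submodule R R) (LinearMap.toSpanSingleton R M m) hann.ge
  have hinj : Function.Injective e :=
    LinearMap.ker_eq_bot.1 (Submodule.ker_liftQ_eq_bot _ _ _ hann.le)
  have he : GrLC.IsGrHom (fun j : ι => GrLC.quotGr 𝒜 q (j - g₀)) ℳ e := by
    rintro j _ ⟨s, hs, rfl⟩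
    show s • m ∈ ℳ j
    have := smul_mem 𝒜 ℳ hs hm
    rwa [sub_add_cancel] at this
  obtain ⟨X, f, ψ, Q, hf, hψ, hψg, hψf, hQ, hc⟩ :=
    exists_hull_map 𝒜 (fun j : ι => GrLC.quotGr 𝒜 q (j - g₀)) ℳ hM e he hinj
  exact ⟨X, f, ψ, Q, hf, hψ, hψg, (LinearMap.congr_fun hψf 1).trans (one_smul R m), hQ, hc⟩

end Shifted

/-- Envelopes are transported by bijections. -/
theorem starEss_comp {L : Type u} [AddCommGroup L] [Module R L] {𝓛 : ι → AddSubgroup L}
    {X : Type u} [AddCommGroup X] [Module R X] {𝒳 : ι → AddSubgroup X} [Decomposition 𝒳]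
    {f : L →ₗ[R] X} (hf : GrLC.IsStarEss 𝓛 𝒳 f) (ψ : X →ₗ[R] M) (hψ : Function.Bijective ψ)
    (hψg : GrLC.IsGrHom 𝒳 ℳ ψ) : GrLC.IsStarEss 𝓛 ℳ (ψ ∘ₗ f) := by
  refine ⟨hψ.1.comp hf.injective, fun g x hx => hψg g _ (hf.grHom g x hx), fun P hP hP0 hbot => ?_⟩
  refine hf.essential (P.comap ψ) (comap_homogeneous 𝒳 ℳ ((isGrHom_iff _ _).1 hψg) hP) ?_ ?_
  · intro h0
    apply hP0
    rw [eq_bot_iff]
    intro y hy
    obtain ⟨x, rfl⟩ := hψ.2 y
    have : x ∈ P.comap ψ := hy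
    rw [h0, Submodule.mem_bot] at this
    simp [this]
  · rw [eq_bot_iff]
    rintro _ ⟨hx, z, rfl⟩
    have : ψ (f z) ∈ P ⊓ LinearMap.range (ψ ∘ₗ f) := ⟨hx, z, rfl⟩
    rw [hbot, Submodule.mem_bot] at this
    exact (Submodule.mem_bot R).2 (hψ.1 (this.trans (map_zero ψ).symm))

section Parts

theorem sum_proj_eq (g : ι) (z : N) (S : Finset ι)
    (hS : ∀ k, proj 𝒩 k z ≠ 0 → k - g ∈ S) : ∑ d ∈ S, proj 𝒩 (g + d) z = z := by
  classical
  rw [← sub_eq_zero]
  refine eq_zero_of_proj 𝒩 _ fun k => ?_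
  rw [map_sub, map_sum, sub_eq_zero]
  rw [Finset.sum_eq_single (k - g)]
  · rw [add_sub_cancel, proj_of_mem 𝒩 (proj_mem 𝒩 k z)]
  · intro d _ hd
    refine proj_of_mem_ne 𝒩 (proj_mem 𝒩 (g + d) z) fun h => hd ?_
    rw [← h]; abel
  · intro hk
    have h0 : proj 𝒩 k z = 0 := by
      by_contra h
      exact hk (hS k h)
    rw [add_sub_cancel, proj_of_mem 𝒩 (proj_mem 𝒩 k z), h0]

omit [SetLike.GradedSMul 𝒜 ℳ] [SetLike.GradedSMul 𝒜 𝒩] in
/-- The degree `d` part of an additive map. -/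
noncomputable def degPartAdd (h : M →ₗ[R] N) (d : ι) : M →+ N :=
  (DirectSum.toAddMonoid fun g =>
    (proj 𝒩 (g + d)).comp (h.toAddMonoidHom.comp (ℳ g).subtype)).comp
      (decomposeAddEquiv ℳ).toAddMonoidHom

omit [SetLike.GradedSMul 𝒜 ℳ] [SetLike.GradedSMul 𝒜 𝒩] in
theorem degPartAdd_of_mem (h : M →ₗ[R] N) (d : ι) {g : ι} {m : M} (hm : m ∈ ℳ g) :
    degPartAdd ℳ 𝒩 h d m = proj 𝒩 (g + d) (h m) := by
  show DirectSum.toAddMonoid _ (decompose ℳ m) = _
  rw [decompose_of_mem ℳ hm, DirectSum.toAddMonoid_of]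
  rfl

/-- The degree `d` part of a linear map. -/
noncomputable def degPart (h : M →ₗ[R] N) (d : ι) : M →ₗ[R] N where
  toFun := degPartAdd ℳ 𝒩 h d
  map_add' := map_add _
  map_smul' r m := by
    rw [RingHom.id_apply]
    induction r using smul_induction 𝒜 with
    | h0 => simp
    | hadd r s hr hs => rw [add_smul, map_add, hr, hs, add_smul]
    | hhom a r hr =>
      induction m using DirectSum.Decomposition.inductionOn ℳ with
      | zero => simp
      | add x y hx hy => rw [smul_add, map_add, hx, hy, map_add, smul_add]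
      | @homogeneous g x =>
        rw [degPartAdd_of_mem ℳ 𝒩 h d (smul_mem 𝒜 ℳ hr x.2), degPartAdd_of_mem ℳ 𝒩 h d x.2,
          map_smul, add_assoc, proj_smul 𝒜 𝒩 hr]

theorem degPart_of_mem (h : M →ₗ[R] N) (d : ι) {g : ι} {m : M} (hm : m ∈ ℳ g) :
    degPart 𝒜 ℳ 𝒩 h d m = proj 𝒩 (g + d) (h m) := degPartAdd_of_mem ℳ 𝒩 h d hm

theorem degPart_deg (h : M →ₗ[R] N) (d : ι) : GrLC.IsGrHomDeg ℳ 𝒩 (degPart 𝒜 ℳ 𝒩 h d) d :=
  fun g m hm => by rw [degPart_of_mem 𝒜 ℳ 𝒩 h d hm]; exact proj_mem _ _ _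

/-- On a finitely generated graded module a map is a finite sum of homogeneous maps. -/
theorem exists_sum_parts [Module.Finite R M] (h : M →ₗ[R] N) :
    ∃ S : Finset ι, h = ∑ d ∈ S, degPart 𝒜 ℳ 𝒩 h d := by
  classical
  obtain ⟨s, hs⟩ := Module.Finite.fg_top (R := R) (M := M)
  let T : Finset (Σ _ : M, ι) := s.sigma fun x => DFinsupp.support (decompose ℳ x)
  refine ⟨T.biUnion fun t => (DFinsupp.support (decompose 𝒩 (h (proj ℳ t.2 t.1)))).image
    fun k => k - t.2, ?_⟩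
  refine LinearMap.ext_on (s := (s : Set M)) hs fun x hx => ?_
  conv_lhs => rw [← DirectSum.sum_support_decompose ℳ x]
  conv_rhs => rw [← DirectSum.sum_support_decompose ℳ x]
  rw [map_sum, map_sum]
  refine Finset.sum_congr rfl fun g hg => ?_
  rw [LinearMap.sum_apply]
  simp only [degPart_of_mem 𝒜 ℳ 𝒩 h _ (SetLike.coe_mem (decompose ℳ x g))]
  refine (sum_proj_eq 𝒩 g _ _ fun k hk => ?_).symm
  exact Finset.mem_biUnion.2 ⟨⟨x, g⟩, Finset.mem_sigma.2 ⟨hx, hg⟩, Finset.mem_image.2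
    ⟨k, DFinsupp.mem_support_iff.2 fun e => hk (congrArg Subtype.val e), rfl⟩⟩

/-- Arbitrary maps from finitely generated graded submodules extend into a *injective module. -/
theorem extend_of_fg [Module.Finite R M] {L : Type u} [AddCommGroup L] [Module R L]
    {𝓛 : ι → AddSubgroup L} [Decomposition 𝓛] [SetLike.GradedSMul 𝒜 𝓛]
    (hL : GrLC.IsStarInj 𝒜 𝓛) {f : M →ₗ[R] N} (hf : GrLC.IsGrHom ℳ 𝒩 f)
    (hinj : Function.Injective f) (g : M →ₗ[R] L) : ∃ h : N →ₗ[R] L, h ∘ₗ f = g := by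
  obtain ⟨S, hS⟩ := exists_sum_parts 𝒜 ℳ 𝓛 g
  choose k hk using fun d => extend_deg 𝒜 ℳ 𝒩 hL hf hinj (degPart_deg 𝒜 ℳ 𝓛 g d)
  refine ⟨∑ d ∈ S, k d, ?_⟩
  conv_rhs => rw [hS]
  refine LinearMap.ext fun x => ?_
  rw [LinearMap.comp_apply, LinearMap.sum_apply, LinearMap.sum_apply]
  exact Finset.sum_congr rfl fun d _ => LinearMap.congr_fun (hk d).2 x

end Parts

section Baer

variable [IsNoetherianRing R] (m : HomogeneousIdeal 𝒜) [m.toIdeal.IsMaximal]
  {E : Type u} [AddCommGroup E] [Module R E] (𝓔 : ι → AddSubgroup E) [Decomposition 𝓔]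
  [SetLike.GradedSMul 𝒜 𝓔]

/-- A torsion *injective module over a graded maximal ideal is injective. -/
theorem injective_of_torsion (hE : GrLC.IsStarInj 𝒜 𝓔) (htor : GrLC.gam m.toIdeal E = ⊤) :
    Module.Injective R E := by
  classical
  refine Module.Baer.injective fun I g => ?_
  obtain ⟨N, hN⟩ : ∃ N, ∀ x : I, ∀ r ∈ m.toIdeal ^ N, r • g x = 0 := by
    obtain ⟨s, hs⟩ : (⊤ : Submodule R I).FG := IsNoetherian.noetherian _
    have hx : ∀ x : I, ∃ n, ∀ r ∈ m.toIdeal ^ n, r • g x = 0 := fun x => by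
      have : g x ∈ GrLC.gam m.toIdeal E := by rw [htor]; trivial
      exact this
    choose n hn using hx
    refine ⟨s.sup n, fun x r hr => ?_⟩
    have hx : x ∈ Submodule.span R (s : Set I) := by rw [hs]; trivial
    induction hx using Submodule.span_induction with
    | mem y hy => exact hn y r (Ideal.pow_le_pow_right (Finset.le_sup hy) hr)
    | zero => simp
    | add y z _ _ h1 h2 => rw [map_add, smul_add, h1, h2, add_zero]
    | smul c y _ h1 => rw [map_smul, smul_comm, h1, smul_zero]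
  obtain ⟨k, hk⟩ := Ideal.exists_pow_inf_eq_pow_smul m.toIdeal (I : Submodule R R)
  have hvan : ∀ x (hx : x ∈ I), x ∈ m.toIdeal ^ (N + k) → g ⟨x, hx⟩ = 0 := by
    intro x hx hxm
    have h1 : x ∈ m.toIdeal ^ (N + k) • (⊤ : Submodule R R) ⊓ I :=
      ⟨by simpa using hxm, hx⟩
    rw [hk (N + k) (Nat.le_add_left k N), Nat.add_sub_cancel] at h1
    have key : ∀ z, z ∈ m.toIdeal ^ N •
        (m.toIdeal ^ k • (⊤ : Submodule R R) ⊓ (I : Submodule R R)) →
        ∃ hz : z ∈ I, g ⟨z, hz⟩ = 0 := by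
      intro z hz
      refine Submodule.smul_induction_on hz (fun r hr y hy => ?_) (fun y z hy hz => ?_)
      · exact ⟨I.smul_mem r hy.2, (map_smul g r ⟨y, hy.2⟩).trans (hN _ r hr)⟩
      · obtain ⟨hy, hy'⟩ := hy
        obtain ⟨hz, hz'⟩ := hz
        exact ⟨add_mem hy hz, by
          rw [show (⟨y + z, add_mem hy hz⟩ : I) = ⟨y, hy⟩ + ⟨z, hz⟩ from rfl, map_add, hy', hz',
            add_zero]⟩
    exact (key x h1).2
  let P₀ : R →ₗ.[R] E := ⟨I, g⟩
  let Z : R →ₗ.[R] E := ⟨m.toIdeal ^ (N + k), 0⟩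
  let P₁ := P₀.sup Z (fun x y hxy => hvan x x.2 (by rw [hxy]; exact y.2))
  obtain ⟨_, ⟨P, hle, rfl⟩, hmax⟩ := set_has_maximal_iff_noetherian.2 inferInstance
    {J : Ideal R | ∃ P : R →ₗ.[R] E, P₁ ≤ P ∧ P.domain = J} ⟨_, P₁, le_rfl, rfl⟩
  suffices htop : P.domain = ⊤ by
    refine ⟨P.toFun ∘ₗ (LinearMap.id.codRestrict P.domain fun x => htop.ge trivial),
      fun x hx => ?_⟩
    exact ((LinearPMap.left_le_sup _ _ _).trans hle).2 (x := ⟨x, hx⟩) rfl |>.symm
  by_contra hne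
  have hpow : m.toIdeal ^ (N + k) ≤ P.domain :=
    ((LinearPMap.right_le_sup _ _ _).trans hle).1
  have hex : ∃ i, m.toIdeal ^ i ≤ P.domain := ⟨_, hpow⟩
  have hi : Nat.find hex ≠ 0 := fun h0 => hne <| by
    have := Nat.find_spec hex
    rwa [h0, pow_zero, Ideal.one_eq_top, top_le_iff] at this
  have hnot := Nat.find_min hex (Nat.sub_one_lt hi)
  obtain ⟨a, ha, haP⟩ := SetLike.not_le_iff_exists.1 hnot
  have hmul : ∀ r ∈ m.toIdeal, r * a ∈ P.domain := fun r hr => Nat.find_spec hex (by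
    rw [show Nat.find hex = (Nat.find hex - 1) + 1 by omega, pow_succ, mul_comm r]
    exact Ideal.mul_mem_mul ha hr)
  have hunit : ∀ c : R, c * a ∈ P.domain → c ∈ m.toIdeal := fun c hc => by
    by_contra hcm
    obtain ⟨s, t, ht, hst⟩ := Ideal.IsMaximal.exists_inv inferInstance hcm
    apply haP
    rw [show a = s * (c * a) + t * a by linear_combination (-a) * hst]
    exact add_mem (Ideal.mul_mem_left _ _ hc) (hmul t ht)
  letI := (sub_isInternal (ringPieces 𝒜) (ideal_homogeneous 𝒜 m.isHomogeneous)).chooseDecomposition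
  haveI : Module.Finite R (m.toIdeal : Submodule R R) :=
    Module.Finite.iff_fg.2 (IsNoetherian.noetherian _)
  let ga : (m.toIdeal : Submodule R R) →ₗ[R] E := P.toFun ∘ₗ
    ((LinearMap.toSpanSingleton R R a).comp (m.toIdeal : Submodule R R).subtype).codRestrict
      P.domain fun r => hmul r r.2
  obtain ⟨H, hH⟩ := extend_of_fg 𝒜 (subPieces (ringPieces 𝒜) (m.toIdeal : Submodule R R))
    (ringPieces 𝒜) hE (f := (m.toIdeal : Submodule R R).subtype) (fun j x hx => hx)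
    Subtype.val_injective ga
  have hy : ∀ c (hc : c ∈ m.toIdeal), c • H 1 = P ⟨c * a, hmul c hc⟩ := fun c hc => by
    rw [← map_smul, smul_eq_mul, mul_one]
    exact LinearMap.congr_fun hH ⟨c, hc⟩
  let Q : R →ₗ.[R] E := LinearPMap.mkSpanSingleton' a (H 1) fun c hc => by
    have hca : c * a = 0 := hc
    have hcm := hunit c (by rw [hca]; exact zero_mem _)
    rw [RingHom.id_apply, hy c hcm, ← P.map_zero]
    exact congrArg _ (Subtype.ext hca)
  let P' := P.sup Q fun x z hxz => by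
    obtain ⟨z, hz⟩ := z
    obtain ⟨c, rfl⟩ := Submodule.mem_span_singleton.1 hz
    have hxc : (x : R) = c * a := hxz
    rw [LinearPMap.mkSpanSingleton'_apply, RingHom.id_apply, hy c (hunit c (hxc ▸ x.2))]
    exact congrArg _ (Subtype.ext hxc)
  refine hmax P'.domain ⟨P', hle.trans (LinearPMap.left_le_sup _ _ _), rfl⟩ ?_
  refine lt_of_le_of_ne le_sup_left fun h => haP ?_
  rw [h]
  exact Submodule.mem_sup_right (Submodule.mem_span_singleton_self a)

end Baer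

end GrInjLib
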