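import Mathlib
import Groth.Agent.GrInjLib.Primes
import Groth.Agent.LocCohLib.Acyclic
import Groth.Agent.LocCohLib.Torsion

/-! `Ext` into *injective modules; graded local cohomology is local cohomology. -/

set_option autoImplicit false
set_option linter.style.haveILetI false
set_option linter.unusedSectionVars false
universe u

open CategoryTheory DirectSum

namespace GrInjLib

variable {ι : Type} [AddCommGroup ι] [DecidableEq ι] {R : Type u} [CommRing R]
  {σ : Type u} [SetLike σ R] [AddSubgroupClass σ R] (𝒜 : ι → σ) [GradedRing 𝒜]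

section Free

variable {κ : Type*} [Fintype κ] (d : κ → ι)

/-- The pieces of the graded free module with basis in degrees `d`. -/
def freePieces : ι → AddSubgroup (κ → R) := fun g =>
  { carrier := {v | ∀ j, v j ∈ 𝒜 (g - d j)}
    add_mem' := fun hv hw j => add_mem (hv j) (hw j)
    zero_mem' := fun _ => zero_mem _
    neg_mem' := fun hv j => neg_mem (hv j) }

instance freeGradedSMul : SetLike.GradedSMul 𝒜 (freePieces 𝒜 d) :=
  ⟨fun {a b r v} hr hv j => by
    show r * v j ∈ 𝒜 ((a + b) - d j)
    rw [add_sub_assoc]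
    exact SetLike.GradedMul.mul_mem hr (hv j)⟩

theorem free_isInternal : DirectSum.IsInternal (freePieces 𝒜 d) := by
  classical
  let π : ι → (κ → R) →+ (κ → R) := fun g =>
    { toFun := fun v j => GradedRing.proj 𝒜 (g - d j) (v j)
      map_zero' := funext fun j => map_zero (GradedRing.proj 𝒜 (g - d j))
      map_add' := fun v w => funext fun j => map_add (GradedRing.proj 𝒜 (g - d j)) (v j) (w j) }
  refine isInternal_of_proj _ π (fun g v hv => funext fun j => decompose_of_mem_same 𝒜 (hv j))
    (fun g h hne v hv => funext fun j =>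
      decompose_of_mem_ne 𝒜 (hv j) (fun e => hne (sub_left_injective e))) (fun v => ?_)
  rw [← Finset.univ_sum_single v]
  refine sum_mem fun j _ => ?_
  rw [← DirectSum.sum_support_decompose 𝒜 (v j), ← AddMonoidHom.single_apply, map_sum]
  refine sum_mem fun g _ => AddSubgroup.mem_iSup_of_mem (g + d j) (fun k => ?_)
  rw [AddMonoidHom.single_apply]
  by_cases hk : k = j
  · subst hk
    rw [Pi.single_eq_same, add_sub_cancel_right]
    exact SetLike.coe_mem _
  · rw [Pi.single_eq_of_ne hk]
    exact zero_mem _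

end Free

variable {M : Type u} [AddCommGroup M] [Module R M] (ℳ : ι → AddSubgroup M)
  [Decomposition ℳ] [SetLike.GradedSMul 𝒜 ℳ]

/-- A finitely generated graded module is covered by a graded free module of finite rank. -/
theorem exists_free_cover [Module.Finite R M] :
    ∃ (κ : Type u) (_ : Fintype κ) (d : κ → ι) (π : (κ → R) →ₗ[R] M),
      GrLC.IsGrHom (freePieces 𝒜 d) ℳ π ∧ Function.Surjective π := by
  classical
  obtain ⟨s, hs⟩ := Module.Finite.fg_top (R := R) (M := M)
  let T : Finset (Σ _ : M, ι) := s.sigma fun x => DFinsupp.support (decompose ℳ x)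
  let x : T → M := fun t => proj ℳ t.1.2 t.1.1
  refine ⟨T, inferInstance, fun t => t.1.2, Fintype.linearCombination R x, fun g v hv => ?_, ?_⟩
  · rw [Fintype.linearCombination_apply]
    refine sum_mem fun j _ => ?_
    have := smul_mem 𝒜 ℳ (hv j) (proj_mem ℳ j.1.2 j.1.1)
    rwa [sub_add_cancel] at this
  · rw [← LinearMap.range_eq_top, eq_top_iff, ← hs, Submodule.span_le]
    intro y hy
    rw [SetLike.mem_coe, ← DirectSum.sum_support_decompose ℳ y]
    refine Submodule.sum_mem _ fun g hg => ⟨Pi.single ⟨⟨y, g⟩, Finset.mem_sigma.2 ⟨hy, hg⟩⟩ 1, ?_⟩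
    rw [Fintype.linearCombination_apply_single, one_smul]
    rfl

section Ext

variable [IsNoetherianRing R] {I : Type u} [AddCommGroup I] [Module R I] (ℐ : ι → AddSubgroup I)
  [Decomposition ℐ] [SetLike.GradedSMul 𝒜 ℐ]

/-- Higher `Ext` from a finitely generated graded module into a *injective one vanishes. -/
theorem subsingleton_ext_succ (hI : GrLC.IsStarInj 𝒜 ℐ) (i : ℕ) :
    ∀ (X : GrLC.GMod.{u} 𝒜) [Module.Finite R X.carrier],
      Subsingleton (Abelian.Ext.{u} (ModuleCat.of R X.carrier) (ModuleCat.of R I) (i + 1)) := by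
  induction i with
  | zero =>
    intro X _
    obtain ⟨κ, _, d, π, hπ, hsurj⟩ := exists_free_cover 𝒜 X.gr
    letI := (free_isInternal 𝒜 d).chooseDecomposition
    have hK : (LinearMap.ker π).IsHomogeneous (freePieces 𝒜 d) :=
      ker_homogeneous _ _ ((isGrHom_iff _ _).1 hπ)
    letI := (sub_isInternal (freePieces 𝒜 d) hK).chooseDecomposition
    let S : ShortComplex (ModuleCat.{u} R) := ShortComplex.mk
      (ModuleCat.ofHom (LinearMap.ker π).subtype) (ModuleCat.ofHom π)
      (by ext x; exact x.2)
    have hS : S.ShortExact :=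
      { exact := (ShortComplex.moduleCat_exact_iff _).mpr fun x hx => ⟨⟨x, hx⟩, rfl⟩
        mono_f := (ModuleCat.mono_iff_injective _).mpr Subtype.val_injective
        epi_g := (ModuleCat.epi_iff_surjective _).mpr hsurj }
    haveI : Projective S.X₂ := (IsProjective.iff_projective _).mp inferInstance
    refine subsingleton_of_forall_eq 0 fun x => ?_
    obtain ⟨x₁, rfl⟩ := Abelian.Ext.contravariant_sequence_exact₃ hS (ModuleCat.of R I) x
      (Abelian.Ext.eq_zero_of_projective _) (add_zero 1)
    obtain ⟨h, rfl⟩ := (Abelian.Ext.mk₀_bijective _ _).2 x₁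
    obtain ⟨h', hh'⟩ := extend_of_fg 𝒜 (subPieces (freePieces 𝒜 d) (LinearMap.ker π))
      (freePieces 𝒜 d) hI (f := (LinearMap.ker π).subtype) (fun j y hy => hy)
      Subtype.val_injective h.hom
    rw [show h = S.f ≫ ModuleCat.ofHom h' from ModuleCat.hom_ext hh'.symm,
      ← Abelian.Ext.mk₀_comp_mk₀, ShortComplex.ShortExact.extClass_comp_assoc]
  | succ i ih =>
    intro X _
    obtain ⟨κ, _, d, π, hπ, hsurj⟩ := exists_free_cover 𝒜 X.gr
    letI := (free_isInternal 𝒜 d).chooseDecomposition
    have hK : (LinearMap.ker π).IsHomogeneous (freePieces 𝒜 d) :=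
      ker_homogeneous _ _ ((isGrHom_iff _ _).1 hπ)
    let S : ShortComplex (ModuleCat.{u} R) := ShortComplex.mk
      (ModuleCat.ofHom (LinearMap.ker π).subtype) (ModuleCat.ofHom π)
      (by ext x; exact x.2)
    have hS : S.ShortExact :=
      { exact := (ShortComplex.moduleCat_exact_iff _).mpr fun x hx => ⟨⟨x, hx⟩, rfl⟩
        mono_f := (ModuleCat.mono_iff_injective _).mpr Subtype.val_injective
        epi_g := (ModuleCat.epi_iff_surjective _).mpr hsurj }
    haveI : Projective S.X₂ := (IsProjective.iff_projective _).mp inferInstance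
    let KG := subG 𝒜 (freePieces 𝒜 d) hK
    haveI : Module.Finite R KG.carrier :=
      inferInstanceAs (Module.Finite R (LinearMap.ker π))
    haveI : Subsingleton (Abelian.Ext.{u} S.X₁ (ModuleCat.of R I) (i + 1)) := ih KG
    refine subsingleton_of_forall_eq 0 fun x => ?_
    obtain ⟨x₁, rfl⟩ := Abelian.Ext.contravariant_sequence_exact₃ hS (ModuleCat.of R I) x
      (Abelian.Ext.eq_zero_of_projective _) (show 1 + (i + 1) = i + 1 + 1 by omega)
    rw [Subsingleton.elim x₁ 0, Abelian.Ext.comp_zero]

/-- A *injective module is acyclic for local cohomology with respect to a graded ideal. -/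
theorem subsingleton_locCoh (hI : GrLC.IsStarInj 𝒜 ℐ) (a : HomogeneousIdeal 𝒜) (i : ℕ) :
    Subsingleton ((localCohomology a.toIdeal (i + 1)).obj (ModuleCat.of R I) : Type u) := by
  refine Groth.Agent.LocCohLib.subsingleton_of_forall_ext fun n x => ⟨n, le_rfl, ?_⟩
  let Q := quotG 𝒜 (ringPieces 𝒜) (ideal_homogeneous 𝒜 (pow_isHomogeneous a n))
  haveI : Module.Finite R Q.carrier :=
    inferInstanceAs (Module.Finite R (R ⧸ (a.toIdeal ^ n : Submodule R R)))
  haveI : Subsingleton
      (Abelian.Ext.{u} (Groth.Agent.LocCohLib.quot a.toIdeal n) (ModuleCat.of R I) (i + 1)) :=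
    subsingleton_ext_succ 𝒜 ℐ hI i Q
  rw [Subsingleton.elim x 0]
  simp

end Ext

section Compare

variable [IsNoetherianRing R] {𝒜} {ℳ}
variable (E : GrLC.StarInjRes 𝒜 ℳ) (a : HomogeneousIdeal 𝒜)

/-- The resolution as a cochain complex. -/
noncomputable abbrev complex : CochainComplex (ModuleCat.{u} R) ℕ :=
  CochainComplex.of (fun n => ModuleCat.of R (E.X n).carrier) (fun n => ModuleCat.ofHom (E.d n))
    (fun n => ModuleCat.hom_ext (LinearMap.ext fun x => d_comp_d E n x))

theorem complex_d (n : ℕ) (x : (E.X n).carrier) :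
    ((complex E).d n (n + 1)).hom x = E.d n x := by
  show (CochainComplex.of.d (fun n => ModuleCat.of R (E.X n).carrier)
    (fun n => ModuleCat.ofHom (E.d n)) n (n + 1)).hom x = E.d n x
  rw [CochainComplex.of_d]
  rfl

/-- Graded local cohomology is local cohomology. -/
theorem exists_H_equiv_locCoh (i : ℕ) :
    Nonempty (E.H a i ≃ₗ[R] ((localCohomology a.toIdeal i).obj (ModuleCat.of R M) : Type u)) := by
  have h0 : ∀ x, ((complex E).d 0 1).hom x = 0 ↔ ∃ m, (ModuleCat.ofHom E.ε).hom m = x := fun x => by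
    have := SetLike.ext_iff.1 E.exact_zero x
    exact ⟨fun h => this.1 ((complex_d E 0 x).symm.trans h),
      fun h => (complex_d E 0 x).trans (this.2 h)⟩
  have hn : ∀ (n : ℕ) x, ((complex E).d (n + 1) (n + 2)).hom x = 0 →
      ∃ y, ((complex E).d n (n + 1)).hom y = x := fun n x hx => by
    obtain ⟨y, hy⟩ := (SetLike.ext_iff.1 (E.exact_succ n) x).1 ((complex_d E (n + 1) x).symm.trans hx)
    exact ⟨y, (complex_d E n y).trans hy⟩
  have hac : ∀ (n j : ℕ), Subsingleton
      ((localCohomology a.toIdeal (j + 1)).obj ((complex E).X n) : Type u) := fun n j =>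
    subsingleton_locCoh 𝒜 (E.X n).gr (E.starInj n) a j
  have h1 := Groth.Agent.LocCohLib.presents_of_acyclic (K := complex E) (I := a.toIdeal)
    (ModuleCat.ofHom E.ε) E.ε_injective h0 hn hac i
  refine Groth.Agent.LocCohLib.Presents.exists_equiv (N := E.H a i) ?_ h1
  let S : Groth.Agent.LocCohLib.ZI a.toIdeal (complex E) i →ₗ[R] E.cocyc a i :=
    { toFun := fun x => ⟨x.1, x.2.1, LinearMap.mem_ker.2
        ((complex_d E i _).symm.trans (LinearMap.mem_ker.1 x.2.2))⟩
      map_add' := fun _ _ => rfl
      map_smul' := fun _ _ => rfl }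
  have hS : Function.Surjective S := fun z =>
    ⟨⟨z.1, z.2.1, LinearMap.mem_ker.2 ((complex_d E i _).trans (LinearMap.mem_ker.1 z.2.2))⟩, rfl⟩
  refine ⟨E.toH a i ∘ₗ S, (Submodule.mkQ_surjective _).comp hS, fun x => ?_⟩
  rw [LinearMap.comp_apply, Submodule.mkQ_apply, Submodule.Quotient.mk_eq_zero,
    Submodule.mem_comap]
  cases i with
  | zero => exact Iff.rfl
  | succ p =>
    rw [Groth.Agent.LocCohLib.mem_BI_succ]
    constructor
    · rintro ⟨y, hy, hyx⟩
      exact ⟨y, hy, (complex_d E p y).trans hyx⟩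
    · rintro ⟨y, hy, hyx⟩
      exact ⟨y, hy, (complex_d E p y).symm.trans hyx⟩

end Compare

end GrInjLib
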