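import Mathlib
import Groth.Agent.GrInjLib.Resolution

/-! The long exact sequence of graded local cohomology. -/

set_option autoImplicit false
set_option linter.style.haveILetI false
set_option linter.unusedSectionVars false
universe u

open DirectSum

namespace GrInjLib

variable {ι : Type} [AddCommGroup ι] [DecidableEq ι] {R : Type u} [CommRing R]
  {σ : Type u} [SetLike σ R] [AddSubgroupClass σ R] {𝒜 : ι → σ} [GradedRing 𝒜]

section Prod

variable (X Y : GrLC.GMod.{u} 𝒜) (d : ι)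

/-- The pieces of the product `X(-d) × Y`. -/
def prodPieces : ι → AddSubgroup (X.carrier × Y.carrier) := fun g =>
  (X.gr (g - d)).prod (Y.gr g)

instance prodGradedSMul : SetLike.GradedSMul 𝒜 (prodPieces X Y d) :=
  ⟨fun {a b r v} hr hv => by
    refine ⟨?_, smul_mem 𝒜 Y.gr hr hv.2⟩
    have := smul_mem 𝒜 X.gr hr hv.1
    show r • v.1 ∈ X.gr ((a + b) - d)
    rwa [add_sub_assoc]⟩

theorem prod_isInternal : DirectSum.IsInternal (prodPieces X Y d) := by
  classical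
  refine isInternal_of_proj _
    (fun g => AddMonoidHom.prodMap (proj X.gr (g - d)) (proj Y.gr g)) ?_ ?_ ?_
  · intro g v hv
    exact Prod.ext (proj_of_mem X.gr hv.1) (proj_of_mem Y.gr hv.2)
  · intro g h hne v hv
    exact Prod.ext (proj_of_mem_ne X.gr hv.1 fun e => hne (sub_left_injective e))
      (proj_of_mem_ne Y.gr hv.2 hne)
  · intro v
    rw [show v = AddMonoidHom.inl X.carrier Y.carrier v.1 + AddMonoidHom.inr X.carrier Y.carrier v.2
      by simp]
    refine add_mem ?_ ?_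
    · rw [← DirectSum.sum_support_decompose X.gr v.1, map_sum]
      refine sum_mem fun g _ => AddSubgroup.mem_iSup_of_mem (g + d) ⟨?_, zero_mem _⟩
      show ((decompose X.gr v.1 g : X.carrier)) ∈ X.gr (g + d - d)
      rw [add_sub_cancel_right]
      exact SetLike.coe_mem _
    · rw [← DirectSum.sum_support_decompose Y.gr v.2, map_sum]
      exact sum_mem fun g _ => AddSubgroup.mem_iSup_of_mem g ⟨zero_mem _, SetLike.coe_mem _⟩

/-- The product `X(-d) × Y` as a graded module. -/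
noncomputable def prodG : GrLC.GMod.{u} 𝒜 :=
  { carrier := X.carrier × Y.carrier, gr := prodPieces X Y d
    dec := (prod_isInternal X Y d).chooseDecomposition }

/-- The first projection. -/
noncomputable def pfst : (prodG X Y d).carrier →ₗ[R] X.carrier := LinearMap.fst R _ _

/-- The second projection. -/
noncomputable def psnd : (prodG X Y d).carrier →ₗ[R] Y.carrier := LinearMap.snd R _ _

/-- The first inclusion. -/
noncomputable def pinl : X.carrier →ₗ[R] (prodG X Y d).carrier := LinearMap.inl R _ _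

/-- The second inclusion. -/
noncomputable def pinr : Y.carrier →ₗ[R] (prodG X Y d).carrier := LinearMap.inr R _ _

/-- Pairing of linear maps. -/
noncomputable def ppair {N : Type u} [AddCommGroup N] [Module R N] (f : N →ₗ[R] X.carrier)
    (g : N →ₗ[R] Y.carrier) : N →ₗ[R] (prodG X Y d).carrier := f.prod g

@[simp] theorem pfst_pinl (x : X.carrier) : pfst X Y d (pinl X Y d x) = x := rfl
@[simp] theorem psnd_pinl (x : X.carrier) : psnd X Y d (pinl X Y d x) = 0 := rfl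
@[simp] theorem pfst_pinr (y : Y.carrier) : pfst X Y d (pinr X Y d y) = 0 := rfl
@[simp] theorem psnd_pinr (y : Y.carrier) : psnd X Y d (pinr X Y d y) = y := rfl

@[simp] theorem pfst_ppair {N : Type u} [AddCommGroup N] [Module R N] (f : N →ₗ[R] X.carrier)
    (g : N →ₗ[R] Y.carrier) (x : N) : pfst X Y d (ppair X Y d f g x) = f x := rfl

@[simp] theorem psnd_ppair {N : Type u} [AddCommGroup N] [Module R N] (f : N →ₗ[R] X.carrier)
    (g : N →ₗ[R] Y.carrier) (x : N) : psnd X Y d (ppair X Y d f g x) = g x := rfl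

theorem prod_ext {a b : (prodG X Y d).carrier} (h₁ : pfst X Y d a = pfst X Y d b)
    (h₂ : psnd X Y d a = psnd X Y d b) : a = b := Prod.ext h₁ h₂

theorem mem_prodG_gr {g : ι} {v : (prodG X Y d).carrier} :
    v ∈ (prodG X Y d).gr g ↔ pfst X Y d v ∈ X.gr (g - d) ∧ psnd X Y d v ∈ Y.gr g := Iff.rfl

theorem pinl_deg : GrLC.IsGrHomDeg X.gr (prodG X Y d).gr (pinl X Y d) d := fun g x hx => by
  rw [mem_prodG_gr, pfst_pinl, psnd_pinl, add_sub_cancel_right]
  exact ⟨hx, zero_mem _⟩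

theorem psnd_grHom : GrLC.IsGrHom (prodG X Y d).gr Y.gr (psnd X Y d) := fun _ _ hv => hv.2

theorem pfst_deg : GrLC.IsGrHomDeg (prodG X Y d).gr X.gr (pfst X Y d) (-d) := fun g v hv => by
  rw [← sub_eq_add_neg]
  exact hv.1

/-- A product of *injective modules is *injective. -/
theorem prod_starInj (hX : GrLC.IsStarInj 𝒜 X.gr) (hY : GrLC.IsStarInj 𝒜 Y.gr) :
    GrLC.IsStarInj 𝒜 (prodG X Y d).gr := by
  intro A B f hf hinj ψ hψ
  obtain ⟨h₁, hh₁, he₁⟩ := extend_deg 𝒜 A.gr B.gr hX hf hinj (g := pfst X Y d ∘ₗ ψ) (δ := -d)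
    (fun g m hm => pfst_deg X Y d g _ (hψ g m hm))
  obtain ⟨h₂, hh₂, he₂⟩ := starInj_extend 𝒜 A.gr B.gr hY hf hinj (g := psnd X Y d ∘ₗ ψ)
    (fun g m hm => psnd_grHom X Y d g _ (hψ g m hm))
  refine ⟨ppair X Y d h₁ h₂, fun g m hm => ?_, LinearMap.ext fun x => prod_ext X Y d ?_ ?_⟩
  · rw [mem_prodG_gr, pfst_ppair, psnd_ppair, sub_eq_add_neg]
    exact ⟨hh₁ g m hm, hh₂ g m hm⟩
  · rw [LinearMap.comp_apply, pfst_ppair]
    exact LinearMap.congr_fun he₁ x
  · rw [LinearMap.comp_apply, psnd_ppair]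
    exact LinearMap.congr_fun he₂ x

theorem mem_gam_prodG (I : Ideal R) (v : (prodG X Y d).carrier) :
    v ∈ GrLC.gam I (prodG X Y d).carrier ↔
      pfst X Y d v ∈ GrLC.gam I X.carrier ∧ psnd X Y d v ∈ GrLC.gam I Y.carrier := by
  refine ⟨fun h => ⟨map_gam (pfst X Y d) I h, map_gam (psnd X Y d) I h⟩, fun h => ?_⟩
  rw [show v = pinl X Y d (pfst X Y d v) + pinr X Y d (psnd X Y d v) from
    prod_ext X Y d (by simp) (by simp)]
  exact add_mem (map_gam (pinl X Y d) I h.1) (map_gam (pinr X Y d) I h.2)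

end Prod

section Horseshoe

variable {A : Type u} [AddCommGroup A] [Module R A] {𝒢 : ι → AddSubgroup A}
  [Decomposition 𝒢] [SetLike.GradedSMul 𝒜 𝒢]
  {B : Type u} [AddCommGroup B] [Module R B] {ℬ : ι → AddSubgroup B}
  [Decomposition ℬ] [SetLike.GradedSMul 𝒜 ℬ]
  {C : Type u} [AddCommGroup C] [Module R C] {𝒞 : ι → AddSubgroup C}
  [Decomposition 𝒞] [SetLike.GradedSMul 𝒜 𝒞]
  (EA : GrLC.StarInjRes 𝒜 𝒢) (EC : GrLC.StarInjRes 𝒜 𝒞)
  {f : A →ₗ[R] B} {g : B →ₗ[R] C} {d : ι}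

/-- The data gluing two resolutions. -/
structure Horseshoe (ℬ : ι → AddSubgroup B) (f : A →ₗ[R] B) (g : B →ₗ[R] C) (d : ι) where
  /-- the extension of the augmentation -/
  s : B →ₗ[R] (EA.X 0).carrier
  /-- the twisting maps -/
  τ : ∀ n, (EC.X n).carrier →ₗ[R] (EA.X (n + 1)).carrier
  s_deg : GrLC.IsGrHomDeg ℬ (EA.X 0).gr s (-d)
  τ_deg : ∀ n, GrLC.IsGrHomDeg (EC.X n).gr (EA.X (n + 1)).gr (τ n) (-d)
  s_f : ∀ x, s (f x) = EA.ε x
  τ_zero : ∀ b, EA.d 0 (s b) + τ 0 (EC.ε (g b)) = 0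
  τ_succ : ∀ n z, EA.d (n + 1) (τ n z) + τ (n + 1) (EC.d n z) = 0

theorem exists_horseshoe (hf : GrLC.IsGrHomDeg 𝒢 ℬ f d) (hg : GrLC.IsGrHom ℬ 𝒞 g)
    (hinj : Function.Injective f) (hex : ∀ b, g b = 0 ↔ ∃ x, f x = b)
    (hsurj : Function.Surjective g) : Nonempty (Horseshoe EA EC ℬ f g d) := by
  letI := (shift_isInternal 𝒢 (-d)).chooseDecomposition
  obtain ⟨s, hs, hsf⟩ := extend_deg 𝒜 (shiftPieces 𝒢 (-d)) ℬ (EA.starInj 0) (f := f)
    (fun j x hx => by
      have := hf _ x (hx : x ∈ 𝒢 (j + -d))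
      rwa [neg_add_cancel_right] at this)
    hinj (g := EA.ε) (δ := -d) (fun j x hx => EA.ε_grHom _ x hx)
  have hs' : ∀ x, s (f x) = EA.ε x := LinearMap.congr_fun hsf
  obtain ⟨t₀, ht₀, ht₀e⟩ := factor_deg 𝒜 ℬ (EC.X 0).gr (EA.starInj 1) (f := EC.ε ∘ₗ g)
    (fun j b hb => EC.ε_grHom _ _ (hg j b hb)) (g := -(EA.d 0 ∘ₗ s)) (δ := -d)
    (fun j b hb => neg_mem (EA.d_grHom 0 _ _ (hs j b hb))) (fun b hb => by
      obtain ⟨x, rfl⟩ := (hex b).1 (EC.ε_injective (hb.trans (map_zero EC.ε).symm))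
      rw [LinearMap.neg_apply, LinearMap.comp_apply, hs', neg_eq_zero, ← LinearMap.mem_ker,
        EA.exact_zero]
      exact ⟨x, rfl⟩)
  have h0 : ∀ z, EC.d 0 z = 0 → EA.d 1 (t₀ z) = 0 := fun z hz => by
    rw [← LinearMap.mem_ker, EC.exact_zero] at hz
    obtain ⟨c, rfl⟩ := hz
    obtain ⟨b, rfl⟩ := hsurj c
    rw [show t₀ (EC.ε (g b)) = -(EA.d 0 (s b)) from LinearMap.congr_fun ht₀e b, map_neg,
      d_comp_d, neg_zero]
  have step : ∀ n (t : {t : (EC.X n).carrier →ₗ[R] (EA.X (n + 1)).carrier //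
      GrLC.IsGrHomDeg (EC.X n).gr (EA.X (n + 1)).gr t (-d) ∧
        ∀ z, EC.d n z = 0 → EA.d (n + 1) (t z) = 0}),
      ∃ t' : {t : (EC.X (n + 1)).carrier →ₗ[R] (EA.X (n + 1 + 1)).carrier //
        GrLC.IsGrHomDeg (EC.X (n + 1)).gr (EA.X (n + 1 + 1)).gr t (-d) ∧
          ∀ z, EC.d (n + 1) z = 0 → EA.d (n + 1 + 1) (t z) = 0},
        t'.1 ∘ₗ EC.d n = -(EA.d (n + 1) ∘ₗ t.1) := by
    intro n t
    obtain ⟨t', ht', hte⟩ := factor_deg 𝒜 (EC.X n).gr (EC.X (n + 1)).gr (EA.starInj (n + 1 + 1))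
      (EC.d_grHom n) (g := -(EA.d (n + 1) ∘ₗ t.1)) (δ := -d)
      (fun j z hz => neg_mem (EA.d_grHom (n + 1) _ _ (t.2.1 j z hz)))
      (fun z hz => by rw [LinearMap.neg_apply, LinearMap.comp_apply, t.2.2 z hz, neg_zero])
    refine ⟨⟨t', ht', fun z hz => ?_⟩, hte⟩
    rw [← LinearMap.mem_ker, EC.exact_succ] at hz
    obtain ⟨w, rfl⟩ := hz
    rw [show t' (EC.d n w) = -(EA.d (n + 1) (t.1 w)) from LinearMap.congr_fun hte w, map_neg,
      d_comp_d, neg_zero]
  let c : ∀ n, {t : (EC.X n).carrier →ₗ[R] (EA.X (n + 1)).carrier //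
      GrLC.IsGrHomDeg (EC.X n).gr (EA.X (n + 1)).gr t (-d) ∧
        ∀ z, EC.d n z = 0 → EA.d (n + 1) (t z) = 0} :=
    fun n => Nat.rec ⟨t₀, ht₀, h0⟩ (fun m t => (step m t).choose) n
  refine ⟨⟨s, fun n => (c n).1, hs, fun n => (c n).2.1, hs', fun b => ?_, fun n z => ?_⟩⟩
  · rw [show (c 0).1 (EC.ε (g b)) = -(EA.d 0 (s b)) from LinearMap.congr_fun ht₀e b, add_neg_cancel]
  · rw [show (c (n + 1)).1 (EC.d n z) = -(EA.d (n + 1) ((c n).1 z)) from
      LinearMap.congr_fun (step n (c n)).choose_spec z, add_neg_cancel]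

variable {EA EC}
variable (S : Horseshoe EA EC ℬ f g d)

/-- The differential of the glued resolution. -/
noncomputable def Horseshoe.dd (n : ℕ) :
    (prodG (EA.X n) (EC.X n) d).carrier →ₗ[R] (prodG (EA.X (n + 1)) (EC.X (n + 1)) d).carrier :=
  ppair _ _ d (EA.d n ∘ₗ pfst _ _ d + S.τ n ∘ₗ psnd _ _ d) (EC.d n ∘ₗ psnd _ _ d)

theorem Horseshoe.pfst_dd (n : ℕ) (v : (prodG (EA.X n) (EC.X n) d).carrier) :
    pfst _ _ d (S.dd n v) = EA.d n (pfst _ _ d v) + S.τ n (psnd _ _ d v) := rfl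

theorem Horseshoe.psnd_dd (n : ℕ) (v : (prodG (EA.X n) (EC.X n) d).carrier) :
    psnd _ _ d (S.dd n v) = EC.d n (psnd _ _ d v) := rfl

theorem Horseshoe.dd_dd (n : ℕ) (v : (prodG (EA.X n) (EC.X n) d).carrier) :
    S.dd (n + 1) (S.dd n v) = 0 := by
  refine prod_ext _ _ _ ?_ ?_
  · rw [S.pfst_dd, S.pfst_dd, S.psnd_dd, map_add, d_comp_d, zero_add, S.τ_succ, map_zero]
  · rw [S.psnd_dd, S.psnd_dd, d_comp_d, map_zero]

/-- The glued resolution. -/
noncomputable def Horseshoe.res (hg : GrLC.IsGrHom ℬ 𝒞 g) (hex : ∀ b, g b = 0 ↔ ∃ x, f x = b)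
    (hsurj : Function.Surjective g) : GrLC.StarInjRes 𝒜 ℬ where
  X n := prodG (EA.X n) (EC.X n) d
  d n := S.dd n
  ε := ppair _ _ d S.s (EC.ε ∘ₗ g)
  d_grHom n j v hv := by
    rw [mem_prodG_gr, S.pfst_dd, S.psnd_dd, sub_eq_add_neg]
    refine ⟨add_mem ?_ (S.τ_deg n _ _ hv.2), EC.d_grHom n _ _ hv.2⟩
    rw [← sub_eq_add_neg]
    exact EA.d_grHom n _ _ hv.1
  ε_grHom j b hb := by
    rw [mem_prodG_gr, pfst_ppair, psnd_ppair, sub_eq_add_neg]
    exact ⟨S.s_deg j b hb, EC.ε_grHom _ _ (hg j b hb)⟩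
  ε_injective := by
    rw [injective_iff_map_eq_zero]
    intro b hb
    have h2 : EC.ε (g b) = 0 := by simpa using congrArg (psnd _ _ d) hb
    obtain ⟨x, rfl⟩ := (hex b).1 (EC.ε_injective (h2.trans (map_zero EC.ε).symm))
    have h1 : EA.ε x = 0 := by
      have := congrArg (pfst _ _ d) hb
      rwa [pfst_ppair, S.s_f, map_zero] at this
    rw [EA.ε_injective (h1.trans (map_zero EA.ε).symm), map_zero]
  exact_zero := by
    refine le_antisymm (fun v hv => ?_) ?_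
    · have h2 : EC.d 0 (psnd _ _ d v) = 0 := by
        rw [← S.psnd_dd, LinearMap.mem_ker.1 hv, map_zero]
      rw [← LinearMap.mem_ker, EC.exact_zero] at h2
      obtain ⟨c, hc⟩ := h2
      obtain ⟨b, rfl⟩ := hsurj c
      have h1 : EA.d 0 (pfst _ _ d v - S.s b) = 0 := by
        have := congrArg (pfst _ _ d) (LinearMap.mem_ker.1 hv)
        rw [S.pfst_dd, map_zero, ← hc] at this
        rw [map_sub, sub_eq_zero]
        exact add_right_cancel (this.trans (S.τ_zero b).symm)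
      rw [← LinearMap.mem_ker, EA.exact_zero] at h1
      obtain ⟨x, hx⟩ := h1
      refine ⟨b + f x, prod_ext _ _ _ ?_ ?_⟩
      · rw [pfst_ppair, map_add, S.s_f, hx, add_sub_cancel]
      · rw [psnd_ppair, LinearMap.comp_apply, map_add, (hex _).2 ⟨x, rfl⟩, add_zero, hc]
    · rintro _ ⟨b, rfl⟩
      refine LinearMap.mem_ker.2 (prod_ext _ _ _ ?_ ?_)
      · rw [S.pfst_dd, pfst_ppair, psnd_ppair, LinearMap.comp_apply, S.τ_zero, map_zero]
      · rw [S.psnd_dd, psnd_ppair, LinearMap.comp_apply, map_zero, ← LinearMap.mem_ker,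
          EC.exact_zero]
        exact ⟨_, rfl⟩
  exact_succ n := by
    refine le_antisymm (fun v hv => ?_) ?_
    · have h2 : EC.d (n + 1) (psnd _ _ d v) = 0 := by
        rw [← S.psnd_dd, LinearMap.mem_ker.1 hv, map_zero]
      rw [← LinearMap.mem_ker, EC.exact_succ] at h2
      obtain ⟨w, hw⟩ := h2
      have h1 : EA.d (n + 1) (pfst _ _ d v - S.τ n w) = 0 := by
        have := congrArg (pfst _ _ d) (LinearMap.mem_ker.1 hv)
        rw [S.pfst_dd, map_zero, ← hw] at this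
        rw [map_sub, sub_eq_zero]
        exact add_right_cancel (this.trans (S.τ_succ n w).symm)
      rw [← LinearMap.mem_ker, EA.exact_succ] at h1
      obtain ⟨x, hx⟩ := h1
      refine ⟨pinl _ _ d x + pinr _ _ d w, prod_ext _ _ _ ?_ ?_⟩
      · rw [S.pfst_dd]; simp [hx]
      · rw [S.psnd_dd]; simp [hw]
    · rintro _ ⟨v, rfl⟩
      exact S.dd_dd n v
  starInj n := prod_starInj _ _ _ (EA.starInj n) (EC.starInj n)

variable (a : HomogeneousIdeal 𝒜) (hg : GrLC.IsGrHom ℬ 𝒞 g)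
  (hex : ∀ b, g b = 0 ↔ ∃ x, f x = b) (hsurj : Function.Surjective g)

/-- The inclusion as a lift of `f`. -/
noncomputable def Horseshoe.liftF : Lift EA (S.res hg hex hsurj) f d where
  ψ n := pinl (EA.X n) (EC.X n) d
  deg n := pinl_deg _ _ d
  comm0 := LinearMap.ext fun x => prod_ext _ _ _ (S.s_f x).symm (by
    show (0 : (EC.X 0).carrier) = EC.ε (g (f x))
    rw [(hex _).2 ⟨x, rfl⟩, map_zero])
  comm n := LinearMap.ext fun x => prod_ext _ _ _ (by
    show EA.d n x = EA.d n x + S.τ n 0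
    rw [map_zero, add_zero]) (by
    show (0 : (EC.X (n + 1)).carrier) = EC.d n 0
    rw [map_zero])

/-- The projection as a lift of `g`. -/
noncomputable def Horseshoe.liftG : Lift (S.res hg hex hsurj) EC g 0 where
  ψ n := psnd (EA.X n) (EC.X n) d
  deg n j v hv := by rw [add_zero]; exact hv.2
  comm0 := rfl
  comm _ := rfl

/-- The connecting map on cocycles. -/
noncomputable def Horseshoe.mapZ (i : ℕ) : ↥(EC.cocyc a i) →ₗ[R] ↥(EA.cocyc a (i + 1)) :=
  (S.τ i ∘ₗ (EC.cocyc a i).subtype).codRestrict _ fun z => ⟨map_gam (S.τ i) a.toIdeal z.2.1, by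
    show EA.d (i + 1) (S.τ i z) = 0
    have := S.τ_succ i (z : (EC.X i).carrier)
    rwa [LinearMap.mem_ker.1 z.2.2, map_zero, add_zero] at this⟩

/-- The connecting map. -/
noncomputable def Horseshoe.δ (i : ℕ) : EC.H a i →ₗ[R] EA.H a (i + 1) :=
  Submodule.mapQ _ _ (S.mapZ a i) fun z hz => by
    show S.τ i z ∈ EA.cobdy a (i + 1)
    have hz' : (z : (EC.X i).carrier) ∈ EC.cobdy a i := hz
    cases i with
    | zero =>
      rw [show (z : (EC.X 0).carrier) = 0 from hz', map_zero]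
      exact zero_mem _
    | succ k =>
      obtain ⟨w, hw, hwz⟩ := hz'
      refine ⟨-(S.τ k w), neg_mem (map_gam (S.τ k) a.toIdeal hw), ?_⟩
      rw [← hwz, map_neg, neg_eq_iff_add_eq_zero]
      exact S.τ_succ k w

theorem Horseshoe.δ_deg (i : ℕ) :
    GrLC.IsGrHomDeg (EC.Hgr a i) (EA.Hgr a (i + 1)) (S.δ a i) (-d) := by
  rintro j _ ⟨z, hz, rfl⟩
  exact ⟨S.mapZ a i z, S.τ_deg i j _ hz, rfl⟩

theorem Horseshoe.exact_B (i : ℕ) :
    LinearMap.ker ((S.liftG hg hex hsurj).mapH a i) =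
      LinearMap.range ((S.liftF hg hex hsurj).mapH a i) := by
  refine le_antisymm (fun x hx => ?_) ?_
  · obtain ⟨z, rfl⟩ := Submodule.mkQ_surjective _ x
    have hc : psnd (EA.X i) (EC.X i) d z.1 ∈ EC.cobdy a i :=
      (Submodule.Quotient.mk_eq_zero ((EC.cobdy a i).comap (EC.cocyc a i).subtype)).1
        (LinearMap.mem_ker.1 hx)
    cases i with
    | zero =>
      have h0 : psnd (EA.X 0) (EC.X 0) d z.1 = 0 := hc
      refine ⟨EA.toH a 0 ⟨pfst (EA.X 0) (EC.X 0) d z.1,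
        map_gam (pfst (EA.X 0) (EC.X 0) d) a.toIdeal z.2.1, ?_⟩, ?_⟩
      · show EA.d 0 _ = 0
        have := congrArg (pfst (EA.X 1) (EC.X 1) d)
          (show S.dd 0 z.1 = 0 from LinearMap.mem_ker.1 z.2.2)
        rwa [S.pfst_dd, h0, map_zero, map_zero, add_zero] at this
      · refine congrArg ((S.res hg hex hsurj).toH a 0) (Subtype.ext ?_)
        exact prod_ext (EA.X 0) (EC.X 0) d (pfst_pinl _ _ d _) ((psnd_pinl _ _ d _).trans h0.symm)
    | succ k =>
      obtain ⟨w, hw, hwz⟩ := hc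
      have hgam : pfst (EA.X (k + 1)) (EC.X (k + 1)) d z.1 - S.τ k w ∈
          GrLC.gam a.toIdeal (EA.X (k + 1)).carrier :=
        sub_mem (map_gam (pfst (EA.X (k + 1)) (EC.X (k + 1)) d) a.toIdeal z.2.1)
          (map_gam (S.τ k) a.toIdeal hw)
      have hker : EA.d (k + 1) (pfst (EA.X (k + 1)) (EC.X (k + 1)) d z.1 - S.τ k w) = 0 := by
        have := congrArg (pfst (EA.X (k + 2)) (EC.X (k + 2)) d)
          (show S.dd (k + 1) z.1 = 0 from LinearMap.mem_ker.1 z.2.2)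
        rw [S.pfst_dd, map_zero, ← hwz] at this
        rw [map_sub, sub_eq_zero]
        exact add_right_cancel (this.trans (S.τ_succ k w).symm)
      refine ⟨EA.toH a (k + 1) ⟨_, hgam, hker⟩, ?_⟩
      refine (Submodule.Quotient.eq _).2 ⟨-(pinr (EA.X k) (EC.X k) d w),
        neg_mem (map_gam (pinr (EA.X k) (EC.X k) d) a.toIdeal hw), ?_⟩
      let vz : (prodG (EA.X (k + 1)) (EC.X (k + 1)) d).carrier := z.1
      show S.dd k (-(pinr (EA.X k) (EC.X k) d w)) =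
        pinl (EA.X (k + 1)) (EC.X (k + 1)) d
          (pfst (EA.X (k + 1)) (EC.X (k + 1)) d z.1 - S.τ k w) - vz
      refine prod_ext _ _ _ ?_ ?_
      · rw [S.pfst_dd]; simp [vz]
      · rw [S.psnd_dd]; simp [vz, hwz]
  · rintro _ ⟨x, rfl⟩
    obtain ⟨z, rfl⟩ := Submodule.mkQ_surjective _ x
    refine LinearMap.mem_ker.2 ((Submodule.Quotient.mk_eq_zero _).2 ?_)
    show psnd (EA.X i) (EC.X i) d (pinl (EA.X i) (EC.X i) d z.1) ∈ EC.cobdy a i
    rw [psnd_pinl]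
    exact zero_mem _

theorem Horseshoe.exact_C (i : ℕ) :
    LinearMap.ker (S.δ a i) = LinearMap.range ((S.liftG hg hex hsurj).mapH a i) := by
  refine le_antisymm (fun x hx => ?_) ?_
  · obtain ⟨z, rfl⟩ := Submodule.mkQ_surjective _ x
    obtain ⟨y, hy, hyz⟩ := (Submodule.Quotient.mk_eq_zero
      ((EA.cobdy a (i + 1)).comap (EA.cocyc a (i + 1)).subtype)).1 (LinearMap.mem_ker.1 hx)
    let v : (prodG (EA.X i) (EC.X i) d).carrier :=
      pinl (EA.X i) (EC.X i) d (-y) + pinr (EA.X i) (EC.X i) d z.1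
    have hv : S.dd i v = 0 := by
      refine prod_ext _ _ _ ?_ ?_
      · rw [S.pfst_dd, map_zero]
        simp only [v, map_add, map_neg, pfst_pinl, pfst_pinr, psnd_pinl, psnd_pinr, map_zero,
          add_zero, neg_zero, zero_add]
        rw [neg_add_eq_zero]
        exact hyz
      · rw [S.psnd_dd, map_zero]
        simp only [v, map_add, map_neg, psnd_pinl, psnd_pinr, map_zero, neg_zero, zero_add]
        exact LinearMap.mem_ker.1 z.2.2
    refine ⟨(S.res hg hex hsurj).toH a i ⟨v, (mem_gam_prodG _ _ _ _ _).2 ⟨?_, ?_⟩, hv⟩, ?_⟩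
    · simp only [v, map_add, pfst_pinl, pfst_pinr, add_zero]
      exact neg_mem hy
    · simp only [v, map_add, psnd_pinl, psnd_pinr, zero_add]
      exact z.2.1
    · refine congrArg (EC.toH a i) (Subtype.ext ?_)
      show psnd (EA.X i) (EC.X i) d v = z.1
      simp [v]
  · rintro _ ⟨x, rfl⟩
    obtain ⟨z, rfl⟩ := Submodule.mkQ_surjective _ x
    refine LinearMap.mem_ker.2 ((Submodule.Quotient.mk_eq_zero _).2
      ⟨-(pfst (EA.X i) (EC.X i) d z.1),
        neg_mem (map_gam (pfst (EA.X i) (EC.X i) d) a.toIdeal z.2.1), ?_⟩)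
    show EA.d i (-(pfst (EA.X i) (EC.X i) d z.1)) = S.τ i (psnd (EA.X i) (EC.X i) d z.1)
    have := congrArg (pfst (EA.X (i + 1)) (EC.X (i + 1)) d)
      (show S.dd i z.1 = 0 from LinearMap.mem_ker.1 z.2.2)
    rw [S.pfst_dd, map_zero] at this
    rw [map_neg, neg_eq_iff_add_eq_zero, this]

theorem Horseshoe.exact_A (i : ℕ) :
    LinearMap.ker ((S.liftF hg hex hsurj).mapH a (i + 1)) = LinearMap.range (S.δ a i) := by
  refine le_antisymm (fun x hx => ?_) ?_
  · obtain ⟨z, rfl⟩ := Submodule.mkQ_surjective _ x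
    obtain ⟨v, hv, hvz⟩ := (Submodule.Quotient.mk_eq_zero
      (((S.res hg hex hsurj).cobdy a (i + 1)).comap ((S.res hg hex hsurj).cocyc a (i + 1)).subtype)).1
        (LinearMap.mem_ker.1 hx)
    have hv' : S.dd i v = pinl (EA.X (i + 1)) (EC.X (i + 1)) d z.1 := hvz
    have h2 : EC.d i (psnd (EA.X i) (EC.X i) d v) = 0 := by
      rw [← S.psnd_dd, hv', psnd_pinl]
    have h1 := congrArg (pfst (EA.X (i + 1)) (EC.X (i + 1)) d) hv'
    rw [S.pfst_dd, pfst_pinl] at h1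
    refine ⟨EC.toH a i ⟨_, map_gam (psnd (EA.X i) (EC.X i) d) a.toIdeal hv, h2⟩,
      (Submodule.Quotient.eq _).2 ⟨-(pfst (EA.X i) (EC.X i) d v),
        neg_mem (map_gam (pfst (EA.X i) (EC.X i) d) a.toIdeal hv), ?_⟩⟩
    show EA.d i (-(pfst (EA.X i) (EC.X i) d v)) = S.τ i (psnd (EA.X i) (EC.X i) d v) - z.1
    rw [← h1, map_neg]
    abel
  · rintro _ ⟨x, rfl⟩
    obtain ⟨z, rfl⟩ := Submodule.mkQ_surjective _ x
    refine LinearMap.mem_ker.2 ((Submodule.Quotient.mk_eq_zero _).2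
      ⟨pinr (EA.X i) (EC.X i) d z.1, map_gam (pinr (EA.X i) (EC.X i) d) a.toIdeal z.2.1, ?_⟩)
    show S.dd i (pinr (EA.X i) (EC.X i) d z.1) =
      pinl (EA.X (i + 1)) (EC.X (i + 1)) d (S.τ i z.1)
    refine prod_ext _ _ _ ?_ ?_
    · rw [S.pfst_dd]; simp
    · rw [S.psnd_dd]; simpa using LinearMap.mem_ker.1 z.2.2

theorem Horseshoe.liftF_zero_injective :
    Function.Injective ((S.liftF hg hex hsurj).mapH a 0) := by
  rw [injective_iff_map_eq_zero]
  intro x hx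
  obtain ⟨z, rfl⟩ := Submodule.mkQ_surjective _ x
  have h0 : pinl (EA.X 0) (EC.X 0) d z.1 = 0 := (Submodule.Quotient.mk_eq_zero
    (((S.res hg hex hsurj).cobdy a 0).comap ((S.res hg hex hsurj).cocyc a 0).subtype)).1 hx
  refine (Submodule.Quotient.mk_eq_zero _).2 ?_
  show z.1 = 0
  simpa using congrArg (pfst (EA.X 0) (EC.X 0) d) h0

end Horseshoe

section Main

variable {A : Type u} [AddCommGroup A] [Module R A] {𝒢 : ι → AddSubgroup A}
  [Decomposition 𝒢] [SetLike.GradedSMul 𝒜 𝒢]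
  {B : Type u} [AddCommGroup B] [Module R B] {ℬ : ι → AddSubgroup B}
  [Decomposition ℬ] [SetLike.GradedSMul 𝒜 ℬ]
  {C : Type u} [AddCommGroup C] [Module R C] {𝒞 : ι → AddSubgroup C}
  [Decomposition 𝒞] [SetLike.GradedSMul 𝒜 𝒞]
  {EA : GrLC.StarInjRes 𝒜 𝒢} {EB : GrLC.StarInjRes 𝒜 ℬ} {EC : GrLC.StarInjRes 𝒜 𝒞}
  {f : A →ₗ[R] B} {g : B →ₗ[R] C} {d : ι}

/-- The long exact sequence, for arbitrary resolutions and lifts. -/
theorem exists_long_exact (Lf : Lift EA EB f d) (Lg : Lift EB EC g 0) (a : HomogeneousIdeal 𝒜)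
    (hf : GrLC.IsGrHomDeg 𝒢 ℬ f d) (hg : GrLC.IsGrHom ℬ 𝒞 g)
    (hinj : Function.Injective f) (hex : ∀ b, g b = 0 ↔ ∃ x, f x = b)
    (hsurj : Function.Surjective g) :
    Function.Injective (Lf.mapH a 0) ∧
    ∃ δ : ∀ i, EC.H a i →ₗ[R] EA.H a (i + 1),
      (∀ i, GrLC.IsGrHomDeg (EC.Hgr a i) (EA.Hgr a (i + 1)) (δ i) (-d)) ∧
      (∀ i, LinearMap.ker (Lg.mapH a i) = LinearMap.range (Lf.mapH a i)) ∧
      (∀ i, LinearMap.ker (δ i) = LinearMap.range (Lg.mapH a i)) ∧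
      (∀ i, LinearMap.ker (Lf.mapH a (i + 1)) = LinearMap.range (δ i)) := by
  obtain ⟨S⟩ := exists_horseshoe EA EC hf hg hinj hex hsurj
  have hid : GrLC.IsGrHomDeg ℬ ℬ (LinearMap.id : B →ₗ[R] B) 0 := fun j m hm => by rwa [add_zero]
  obtain ⟨P⟩ := exists_lift (S.res hg hex hsurj) EB hid
  obtain ⟨Q⟩ := exists_lift EB (S.res hg hex hsurj) hid
  have hQP : ∀ i x, Q.mapH a i (P.mapH a i x) = x := fun i x => by
    rw [← Lift.mapH_comp a Q P (add_zero 0)]
    exact (LinearMap.congr_fun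
      (Lift.mapH_eq a (Q.comp P (add_zero 0)) (Lift.refl (S.res hg hex hsurj)) i) x).trans
      (Lift.mapH_refl a i x)
  have hPQ : ∀ i x, P.mapH a i (Q.mapH a i x) = x := fun i x => by
    rw [← Lift.mapH_comp a P Q (add_zero 0)]
    exact (LinearMap.congr_fun
      (Lift.mapH_eq a (P.comp Q (add_zero 0)) (Lift.refl EB) i) x).trans
      (Lift.mapH_refl a i x)
  have hF : ∀ i x, Lf.mapH a i x = P.mapH a i ((S.liftF hg hex hsurj).mapH a i x) := fun i x => by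
    rw [← Lift.mapH_comp a P (S.liftF hg hex hsurj) (add_zero d)]
    exact LinearMap.congr_fun (Lift.mapH_eq (φ := f) a Lf (P.comp (S.liftF hg hex hsurj) (add_zero d)) i) x
  have hG : ∀ i x, Lg.mapH a i x = (S.liftG hg hex hsurj).mapH a i (Q.mapH a i x) := fun i x => by
    rw [← Lift.mapH_comp a (S.liftG hg hex hsurj) Q (add_zero 0)]
    exact LinearMap.congr_fun (Lift.mapH_eq (φ := g) a Lg ((S.liftG hg hex hsurj).comp Q (add_zero 0)) i) x
  have hPinj : ∀ i, Function.Injective (P.mapH a i) := fun i =>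
    Function.LeftInverse.injective (hQP i)
  refine ⟨fun x y hxy => S.liftF_zero_injective a hg hex hsurj (hPinj 0 (by rw [← hF, ← hF, hxy])),
    fun i => S.δ a i, fun i => S.δ_deg a i, fun i => ?_, fun i => ?_, fun i => ?_⟩
  · ext x
    rw [LinearMap.mem_ker, hG, ← LinearMap.mem_ker, S.exact_B, LinearMap.mem_range,
      LinearMap.mem_range]
    exact ⟨fun ⟨y, hy⟩ => ⟨y, by rw [hF, hy, hPQ]⟩, fun ⟨y, hy⟩ => ⟨y, by rw [← hy, hF, hQP]⟩⟩
  · rw [S.exact_C a hg hex hsurj]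
    ext x
    rw [LinearMap.mem_range, LinearMap.mem_range]
    exact ⟨fun ⟨y, hy⟩ => ⟨P.mapH a i y, by rw [hG, hQP, hy]⟩,
      fun ⟨y, hy⟩ => ⟨Q.mapH a i y, by rw [← hy, hG]⟩⟩
  · rw [← S.exact_A a hg hex hsurj i]
    ext x
    rw [LinearMap.mem_ker, LinearMap.mem_ker, hF, map_eq_zero_iff _ (hPinj (i + 1))]

end Main

end GrInjLib
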