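import Mathlib
import Groth.Agent.GrInjLib.Ext
import Groth.Agent.GrInjLib.Long

/-! Finiteness and vanishing of the pieces of graded local cohomology. -/

set_option autoImplicit false
set_option linter.style.haveILetI false
set_option linter.unusedSectionVars false
universe u

open DirectSum

namespace GrInjLib

variable {ι : Type} [AddCommGroup ι] [DecidableEq ι] {R : Type u} [CommRing R]
  {σ : Type u} [SetLike σ R] [AddSubgroupClass σ R] (𝒜 : ι → σ) [GradedRing 𝒜]
  {M : Type u} [AddCommGroup M] [Module R M] (ℳ : ι → AddSubgroup M)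
  [Decomposition ℳ] [SetLike.GradedSMul 𝒜 ℳ]
  {N : Type u} [AddCommGroup N] [Module R N] (𝒩 : ι → AddSubgroup N)
  [Decomposition 𝒩] [SetLike.GradedSMul 𝒜 𝒩]

omit [SetLike.GradedSMul 𝒜 ℳ] [SetLike.GradedSMul 𝒜 𝒩] in
/-- A homogeneous element in the image has a homogeneous preimage. -/
theorem exists_preimage_piece {f : M →ₗ[R] N} {d : ι} (hf : GrLC.IsGrHomDeg ℳ 𝒩 f d) {g : ι}
    {y : N} (hy : y ∈ 𝒩 (g + d)) (h : y ∈ LinearMap.range f) : ∃ x ∈ ℳ g, f x = y := by
  obtain ⟨x, rfl⟩ := h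
  exact ⟨proj ℳ g x, proj_mem ℳ g x, by rw [← proj_map ℳ 𝒩 hf, proj_of_mem 𝒩 hy]⟩

section Noetherian

variable [IsNoetherianRing R] [Module.Finite R M]

/-- The pieces of a finitely generated graded module are Noetherian over the degree zero part. -/
theorem isNoetherian_comp (g : ι) : IsNoetherian (GrLC.deg0 𝒜) (GrLC.comp 𝒜 ℳ g) := by
  haveI : IsNoetherian R M := isNoetherian_of_isNoetherianRing_of_finite R M
  let F : Submodule (GrLC.deg0 𝒜) (GrLC.comp 𝒜 ℳ g) → Submodule R M := fun P =>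
    Submodule.span R ((Subtype.val : GrLC.comp 𝒜 ℳ g → M) '' (P : Set (GrLC.comp 𝒜 ℳ g)))
  have hF : ∀ P Q, F P ≤ F Q → P ≤ Q := by
    intro P Q h x hx
    have hx' : (x : M) ∈ F Q := h (Submodule.subset_span ⟨x, hx, rfl⟩)
    suffices key : ∀ z ∈ F Q, ∃ q ∈ Q, proj ℳ g z = (q : M) by
      obtain ⟨q, hq, hqe⟩ := key _ hx'
      rw [proj_of_mem ℳ (g := g) x.2] at hqe
      rwa [Subtype.ext hqe]
    intro z hz
    suffices key' : ∀ r : R, ∃ q ∈ Q, proj ℳ g (r • z) = (q : M) by
      simpa using key' 1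
    induction hz using Submodule.span_induction with
    | mem y hy =>
      obtain ⟨q, hq, rfl⟩ := hy
      intro r
      refine ⟨(⟨(decompose 𝒜 r 0 : R), SetLike.coe_mem _⟩ : GrLC.deg0 𝒜) • q, Q.smul_mem _ hq, ?_⟩
      have := proj_smul_hom 𝒜 ℳ (g := g) q.2 r 0
      rw [zero_add] at this
      exact this
    | zero => exact fun r => ⟨0, Q.zero_mem, by simp⟩
    | add a b _ _ ha hb =>
      intro r
      obtain ⟨p, hp, hpe⟩ := ha r
      obtain ⟨q, hq, hqe⟩ := hb r
      exact ⟨p + q, Q.add_mem hp hq, by rw [smul_add, map_add, hpe, hqe]; rfl⟩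
    | smul c a _ ha =>
      intro r
      obtain ⟨p, hp, hpe⟩ := ha (r * c)
      exact ⟨p, hp, by rw [← mul_smul, hpe]⟩
  have hmono : StrictMono F := fun P Q h => by
    refine lt_of_le_of_ne (Submodule.span_mono (Set.image_mono h.le)) fun e => h.ne ?_
    exact le_antisymm h.le (hF Q P e.ge)
  exact isNoetherian_iff'.2 hmono.wellFoundedGT

theorem isNoetherianRing_deg0 : IsNoetherianRing (GrLC.deg0 𝒜) := by
  haveI := isNoetherian_comp 𝒜 (ringPieces 𝒜) (0 : ι)
  let j : (GrLC.deg0 𝒜) →ₗ[GrLC.deg0 𝒜] GrLC.comp 𝒜 (ringPieces 𝒜) (0 : ι) :=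
    { toFun := fun x => ⟨(x : R), x.2⟩
      map_add' := fun _ _ => rfl
      map_smul' := fun _ _ => rfl }
  exact isNoetherian_of_injective j fun x y h =>
    Subtype.ext (congrArg (fun z : GrLC.comp 𝒜 (ringPieces 𝒜) (0 : ι) => (z : R)) h)

end Noetherian

section Maps

variable {𝒜} {M' : Type u} [AddCommGroup M'] [Module R M'] {ℳ' : ι → AddSubgroup M'}
  [Decomposition ℳ'] [SetLike.GradedSMul 𝒜 ℳ'] {ℳ}
  {E : GrLC.StarInjRes 𝒜 ℳ} {E' : GrLC.StarInjRes 𝒜 ℳ'} (a : HomogeneousIdeal 𝒜)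

/-- Homogeneous maps of cohomology act on the pieces. -/
noncomputable def pieceMap {i j : ℕ} (f : E.H a i →ₗ[R] E'.H a j) {d : ι}
    (hf : GrLC.IsGrHomDeg (E.Hgr a i) (E'.Hgr a j) f d) {g g' : ι} (h : g + d = g') :
    E.Hcomp a i g →ₗ[GrLC.deg0 𝒜] E'.Hcomp a j g' :=
  (f.restrictScalars (GrLC.deg0 𝒜)).restrict fun x hx => h ▸ hf g x hx

theorem pieceMap_apply {i j : ℕ} (f : E.H a i →ₗ[R] E'.H a j) {d : ι}
    (hf : GrLC.IsGrHomDeg (E.Hgr a i) (E'.Hgr a j) f d) {g g' : ι} (h : g + d = g')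
    (x : E.Hcomp a i g) : (pieceMap a f hf h x : E'.H a j) = f x := rfl

/-- A piece of the image lifts to a piece. -/
theorem exists_H_preimage {i j : ℕ} (f : E.H a i →ₗ[R] E'.H a j) {d : ι}
    (hf : GrLC.IsGrHomDeg (E.Hgr a i) (E'.Hgr a j) f d) {g : ι} {y : E'.H a j}
    (hy : y ∈ E'.Hcomp a j (g + d)) (h : y ∈ LinearMap.range f) :
    ∃ x ∈ E.Hcomp a i g, f x = y := by
  letI := (H_isInternal E a i).chooseDecomposition
  letI := (H_isInternal E' a j).chooseDecomposition
  exact exists_preimage_piece (E.Hgr a i) (E'.Hgr a j) hf hy h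

variable (E)

/-- The augmentation identifies the torsion in each degree with the zeroth cohomology. -/
theorem exists_gam_piece_surjective (g : ι) :
    ∃ φ : ↥((GrLC.gam a.toIdeal M).restrictScalars (GrLC.deg0 𝒜) ⊓ GrLC.comp 𝒜 ℳ g) →ₗ[GrLC.deg0 𝒜]
      E.Hcomp a 0 g, Function.Surjective φ := by
  have hε : ∀ y ∈ GrLC.gam a.toIdeal M, E.ε y ∈ E.cocyc a 0 := fun y hy =>
    ⟨map_gam E.ε a.toIdeal hy, (SetLike.ext_iff.1 E.exact_zero _).2 ⟨y, rfl⟩⟩
  refine ⟨{ toFun := fun y => ⟨E.toH a 0 ⟨E.ε y, hε y y.2.1⟩, ⟨E.ε y, hε y y.2.1⟩,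
              E.ε_grHom g y y.2.2, rfl⟩
            map_add' := fun y z => Subtype.ext (congrArg (E.toH a 0) (Subtype.ext (map_add E.ε _ _)))
            map_smul' := fun r y => Subtype.ext (congrArg (E.toH a 0)
              (Subtype.ext (map_smul E.ε (r : R) _))) }, ?_⟩
  rintro ⟨_, z, hz, rfl⟩
  have hker : E.d 0 (z : (E.X 0).carrier) = 0 := z.2.2
  have hmem : (z : (E.X 0).carrier) ∈ LinearMap.range E.ε :=
    (SetLike.ext_iff.1 E.exact_zero _).1 hker
  obtain ⟨y, hy, hyz⟩ := exists_preimage_piece ℳ (E.X 0).gr (d := 0) (g := g)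
    ((isGrHom_iff _ _).1 E.ε_grHom) (by rw [add_zero]; exact hz) hmem
  refine ⟨⟨y, ?_, hy⟩, Subtype.ext (congrArg (E.toH a 0) (Subtype.ext hyz))⟩
  obtain ⟨k, hk⟩ := z.2.1
  exact ⟨k, fun r hr => E.ε_injective (by rw [map_smul, hyz, hk r hr, map_zero])⟩

end Maps

section Int

variable {S : Type u} [SetLike S R] [AddSubgroupClass S R] (ℬ : ℤ → S) [GradedRing ℬ]

/-- Homogeneous prime avoidance. -/
theorem exists_homogeneous_avoid (a : HomogeneousIdeal ℬ)
    (ha : a.toIdeal ≤ Ideal.span (⋃ n ∈ Set.Ioi (0 : ℤ), (ℬ n : Set R))) (P : Finset (Ideal R))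
    (hP : ∀ p ∈ P, p.IsPrime ∧ ¬ a.toIdeal ≤ p) :
    ∃ (z : R) (n : ℕ), 0 < n ∧ z ∈ ℬ (n : ℤ) ∧ ∀ p ∈ P, z ∉ p := by
  classical
  let core : Ideal R → Ideal R := fun p => (p.homogeneousCore ℬ).toIdeal
  have hcore : ∀ (p : Ideal R) (x : R) (i : ℤ), x ∈ ℬ i → x ∈ p → x ∈ core p := fun p x i hx hp =>
    Ideal.mem_homogeneousCore_of_homogeneous_of_mem ⟨i, hx⟩ hp
  have hle : ∀ p, core p ≤ p := fun p => Ideal.toIdeal_homogeneousCore_le ℬ p
  have hpp : ∀ p ∈ P, ∃ w k, 0 < k ∧ w ∈ ℬ ((k : ℕ) : ℤ) ∧ w ∉ p := by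
    intro p hp
    by_contra! h
    refine (hP p hp).2 (ha.trans (Ideal.span_le.2 fun x hx => ?_))
    obtain ⟨n, hn, hxn⟩ := Set.mem_iUnion₂.1 hx
    have hn' : (0 : ℤ) < n := hn
    exact h x n.toNat (by omega) (by rwa [Int.toNat_of_nonneg hn'.le])
  induction P using Finset.strongInduction with
  | _ P ih =>
    by_cases hanti : ∃ p ∈ P, ∃ q ∈ P, p ≠ q ∧ core p ≤ core q
    · obtain ⟨p, hp, q, hq, hne, hpq⟩ := hanti
      obtain ⟨z, n, hn, hz, hzP⟩ := ih (P.erase p) (Finset.erase_ssubset hp)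
        (fun r hr => hP r (Finset.mem_of_mem_erase hr))
        (fun r hr => hpp r (Finset.mem_of_mem_erase hr))
      refine ⟨z, n, hn, hz, fun r hr => ?_⟩
      by_cases hrp : r = p
      · subst hrp
        exact fun hzr => hzP q (Finset.mem_erase.mpr ⟨Ne.symm hne, hq⟩)
          (hle q (hpq (hcore r z n hz hzr)))
      · exact hzP r (Finset.mem_erase.mpr ⟨hrp, hr⟩)
    · push Not at hanti
      have hw : ∀ p ∈ P, ∃ w k, 0 < k ∧ w ∈ ℬ ((k : ℕ) : ℤ) ∧ w ∉ p ∧ ∀ q ∈ P, q ≠ p → w ∈ q := by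
        intro p hp
        obtain ⟨b, j, hj, hb, hbp⟩ := hpp p hp
        have hc : ∀ q ∈ P.erase p, ∃ c l, c ∈ ℬ l ∧ c ∈ q ∧ c ∉ p := by
          intro q hq
          obtain ⟨hne, hqP⟩ := Finset.mem_erase.mp hq
          by_contra! h
          refine hanti q hqP p hp hne fun x hx => ?_
          rw [← DirectSum.sum_support_decompose ℬ x]
          refine sum_mem fun l _ => hcore p _ l (SetLike.coe_mem _) ?_
          exact h _ l (SetLike.coe_mem _) (hle q ((q.homogeneousCore ℬ).isHomogeneous l hx))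
        choose! c l hc1 hc2 hc3 using hc
        have hprime := (hP p hp).1
        let w := b * ∏ q ∈ P.erase p, c q
        have hwdeg : w ∈ ℬ ((j : ℤ) + ∑ q ∈ P.erase p, l q) :=
          SetLike.mul_mem_graded hb (SetLike.prod_mem_graded _ _ _ hc1)
        have hwp : w ∉ p := fun h => by
          rcases hprime.mem_or_mem h with h | h
          · exact hbp h
          · obtain ⟨q, hq, hqp⟩ := hprime.prod_mem_iff.mp h
            exact hc3 q hq hqp
        have hwq : ∀ q ∈ P, q ≠ p → w ∈ q := fun q hq hne => Ideal.mul_mem_left _ _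
          (Ideal.prod_mem q (Finset.mem_erase.mpr ⟨hne, hq⟩) (hc2 q (Finset.mem_erase.mpr ⟨hne, hq⟩)))
        -- multiply by a power of `b` to make the degree positive
        let e := ((j : ℤ) + ∑ q ∈ P.erase p, l q)
        refine ⟨b ^ ((-e).toNat + 1) * w, (((((-e).toNat + 1) * j : ℕ) : ℤ) + e).toNat, ?_, ?_, ?_, ?_⟩
        · have h1 : (-e).toNat + 1 ≤ ((-e).toNat + 1) * j := Nat.le_mul_of_pos_right _ hj
          omega
        · have h1 : (-e).toNat + 1 ≤ ((-e).toNat + 1) * j := Nat.le_mul_of_pos_right _ hj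
          rw [Int.toNat_of_nonneg (by omega)]
          have h2 := SetLike.pow_mem_graded ((-e).toNat + 1) hb
          rw [nsmul_eq_mul] at h2
          push_cast
          exact SetLike.mul_mem_graded (by exact_mod_cast h2) hwdeg
        · intro h
          rcases hprime.mem_or_mem h with h | h
          · exact hbp (hprime.mem_of_pow_mem _ h)
          · exact hwp h
        · exact fun q hq hne => Ideal.mul_mem_left _ _ (hwq q hq hne)
      choose! w k hk hwk hwp hwq using hw
      let N := ∏ p ∈ P, k p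
      have hN : 0 < N := Finset.prod_pos hk
      have hdvd : ∀ p ∈ P, N / k p * k p = N := fun p hp =>
        Nat.div_mul_cancel (Finset.dvd_prod_of_mem k hp)
      have he : ∀ p ∈ P, 0 < N / k p := fun p hp =>
        Nat.div_pos (Nat.le_of_dvd hN (Finset.dvd_prod_of_mem k hp)) (hk p hp)
      refine ⟨∑ p ∈ P, w p ^ (N / k p), N, hN, sum_mem fun p hp => ?_, fun p hp h => ?_⟩
      · have h1 := SetLike.pow_mem_graded (N / k p) (hwk p hp)
        rw [nsmul_eq_mul, ← Nat.cast_mul, hdvd p hp] at h1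
        exact h1
      · rw [← Finset.add_sum_erase P _ hp] at h
        have hrest : ∑ q ∈ P.erase p, w q ^ (N / k q) ∈ p := sum_mem fun q hq => by
          obtain ⟨hne, hqP⟩ := Finset.mem_erase.mp hq
          exact Ideal.pow_mem_of_mem _ (hwq q hqP p hp (Ne.symm hne)) _ (he q hqP)
        exact hwp p hp ((hP p hp).1.mem_of_pow_mem _ ((p.add_mem_iff_left hrest).mp h))

variable [IsNoetherianRing R] (hpos : ∀ n : ℤ, n < 0 → ∀ x ∈ ℬ n, x = 0) (a : HomogeneousIdeal ℬ)
  (ha : a.toIdeal = Ideal.span (⋃ n ∈ Set.Ioi (0 : ℤ), (ℬ n : Set R)))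

/-- A module without torsion has a regular homogeneous element of positive degree. -/
theorem exists_regular [Module.Finite R M] (hM : GrLC.gam a.toIdeal M = ⊥)
    (ha : a.toIdeal = Ideal.span (⋃ n ∈ Set.Ioi (0 : ℤ), (ℬ n : Set R))) :
    ∃ (x : R) (n : ℕ), 0 < n ∧ x ∈ ℬ (n : ℤ) ∧ IsSMulRegular M x := by
  classical
  obtain ⟨z, n, hn, hz, hzP⟩ := exists_homogeneous_avoid ℬ a ha.le
    (associatedPrimes.finite R M).toFinset (fun p hp => by
      rw [Set.Finite.mem_toFinset] at hp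
      obtain ⟨hprime, x, hx⟩ := Submodule.isAssociatedPrime_iff.1 hp
      refine ⟨hprime, fun hle => hprime.ne_top ?_⟩
      have hx0 : x ∈ GrLC.gam a.toIdeal M := ⟨1, fun r hr => by
        rw [pow_one] at hr
        have := hle hr
        rw [hx, Submodule.mem_colon_singleton] at this
        exact (Submodule.mem_bot R).1 this⟩
      rw [hM, Submodule.mem_bot] at hx0
      rw [hx, Ideal.eq_top_iff_one, Submodule.mem_colon_singleton, hx0, smul_zero]
      exact zero_mem _)
  refine ⟨z, n, hn, hz, (isSMulRegular_iff_right_eq_zero_of_smul).2 fun x hx => ?_⟩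
  by_contra hx0
  obtain ⟨p, hp, hzp⟩ : ∃ p ∈ associatedPrimes R M, z ∈ p := by
    have : z ∈ ⋃ p ∈ associatedPrimes R M, (p : Set R) := by
      rw [biUnion_associatedPrimes_eq_zero_divisors]
      exact ⟨x, hx0, hx⟩
    simpa using this
  exact hzP p ((associatedPrimes.finite R M).mem_toFinset.2 hp) hzp

omit [IsNoetherianRing R] in
include hpos ha in
/-- Large degrees lie in powers of the irrelevant ideal. -/
theorem exists_mem_pow (hfg : a.toIdeal.FG) :
    ∃ D : ℕ, ∀ (j : ℕ) (n : ℤ), (D : ℤ) * j < n → ∀ x ∈ ℬ n, x ∈ a.toIdeal ^ j := by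
  classical
  obtain ⟨s, hs⟩ := hfg
  let T : Finset ℤ := s.biUnion fun f => DFinsupp.support (decompose ℬ f)
  obtain ⟨D, hD⟩ : ∃ D : ℕ, ∀ g ∈ T, g ≤ (D : ℤ) := ⟨T.sup Int.toNat, fun g hg =>
    (Int.self_le_toNat g).trans (Int.ofNat_le.2 (Finset.le_sup hg))⟩
  refine ⟨D, fun j => ?_⟩
  induction j with
  | zero => intro n _ x _; rw [pow_zero, Ideal.one_eq_top]; trivial
  | succ j ih =>
    intro n hn x hx
    have hn0 : (0 : ℤ) < n := lt_of_le_of_lt (by positivity) hn
    have hxa : x ∈ a.toIdeal := by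
      rw [ha]
      exact Ideal.subset_span (Set.mem_biUnion hn0 hx)
    suffices key : ∀ y ∈ a.toIdeal, (decompose ℬ y n : R) ∈ a.toIdeal ^ (j + 1) by
      have := key x hxa
      rwa [decompose_of_mem_same ℬ hx] at this
    intro y hy
    suffices key' : ∀ c : R, (decompose ℬ (c * y) n : R) ∈ a.toIdeal ^ (j + 1) by
      simpa using key' 1
    rw [← hs] at hy
    induction hy using Submodule.span_induction with
    | mem f hf =>
      intro c
      rw [← DirectSum.sum_support_decompose ℬ f, Finset.mul_sum, decompose_sum,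
        DFinsupp.finsetSum_apply, AddSubmonoidClass.coe_finsetSum]
      refine sum_mem fun g hg => ?_
      have hgD : g ≤ (D : ℤ) := hD g (Finset.mem_biUnion.2 ⟨f, hf, hg⟩)
      have hc := coe_decompose_mul_add_of_right_mem ℬ (a := c) (i := n - g)
        (SetLike.coe_mem (decompose ℬ f g))
      rw [sub_add_cancel] at hc
      rw [hc, pow_succ]
      refine Ideal.mul_mem_mul (ih (n - g) ?_ _ (SetLike.coe_mem _)) ?_
      · push_cast at hn; linarith
      · exact a.isHomogeneous g (hs.le (Submodule.subset_span hf))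
    | zero => intro c; simp
    | add u v _ _ hu hv =>
      intro c
      rw [mul_add, decompose_add, DirectSum.add_apply]
      exact add_mem (hu c) (hv c)
    | smul b u _ hu =>
      intro c
      rw [smul_eq_mul, ← mul_assoc]
      exact hu _

include hpos ha in
/-- A finitely generated torsion module vanishes in large degrees. -/
theorem torsion_piece_eventually_zero {X : Type u} [AddCommGroup X] [Module R X]
    (𝒳 : ℤ → AddSubgroup X) [Decomposition 𝒳] [SetLike.GradedSMul ℬ 𝒳] [Module.Finite R X]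
    (htor : GrLC.gam a.toIdeal X = ⊤) :
    ∃ r : ℤ, ∀ n, r ≤ n → ∀ x ∈ 𝒳 n, x = 0 := by
  classical
  obtain ⟨s, hs⟩ := Module.Finite.fg_top (R := R) (M := X)
  have hk : ∀ x : X, ∃ k, ∀ r ∈ a.toIdeal ^ k, r • x = 0 := fun x => by
    have : x ∈ GrLC.gam a.toIdeal X := by rw [htor]; trivial
    exact this
  choose k hk using hk
  let T : Finset (Σ _ : X, ℤ) := s.sigma fun x => DFinsupp.support (decompose 𝒳 x)
  let K := T.sup fun t => k (proj 𝒳 t.2 t.1)
  obtain ⟨D, hD⟩ := exists_mem_pow ℬ hpos a ha (IsNoetherian.noetherian _)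
  obtain ⟨G, hG⟩ : ∃ G : ℤ, ∀ t ∈ T, t.2 ≤ G := ⟨(T.sup fun t => t.2.toNat : ℕ), fun t ht =>
    (Int.self_le_toNat t.2).trans (Int.ofNat_le.2 (Finset.le_sup (f := fun t => t.2.toNat) ht))⟩
  refine ⟨(D : ℤ) * K + G + 1, fun n hn => ?_⟩
  suffices key : ∀ (x : X), proj 𝒳 n x = 0 by
    intro x hx
    rw [← proj_of_mem 𝒳 hx, key]
  intro x
  suffices key' : ∀ c : R, proj 𝒳 n (c • x) = 0 by simpa using key' 1
  have hx : x ∈ Submodule.span R (s : Set X) := by rw [hs]; trivial
  induction hx using Submodule.span_induction with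
  | mem y hy =>
    intro c
    rw [← DirectSum.sum_support_decompose 𝒳 y, Finset.smul_sum, map_sum]
    refine Finset.sum_eq_zero fun g hg => ?_
    have ht : (⟨y, g⟩ : Σ _ : X, ℤ) ∈ T := Finset.mem_sigma.2 ⟨hy, hg⟩
    have h1 := proj_smul_hom ℬ 𝒳 (SetLike.coe_mem (decompose 𝒳 y g)) c (n - g)
    rw [sub_add_cancel] at h1
    rw [h1]
    refine hk (proj 𝒳 g y) _ (Ideal.pow_le_pow_right (Finset.le_sup (f := fun t => k (proj 𝒳 t.2 t.1)) ht)
      (hD K (n - g) ?_ _ (SetLike.coe_mem _)))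
    have hgG : g ≤ G := hG _ ht
    linarith
  | zero => intro c; simp
  | add u v _ _ hu hv => intro c; rw [smul_add, map_add, hu c, hv c, add_zero]
  | smul b u _ hu => intro c; rw [← mul_smul]; exact hu _

end Int

section Main

variable {S : Type u} [SetLike S R] [AddSubgroupClass S R] {ℬ : ℤ → S} [GradedRing ℬ]
  [IsNoetherianRing R] (hpos : ∀ n : ℤ, n < 0 → ∀ x ∈ ℬ n, x = 0) (a : HomogeneousIdeal ℬ)
  (ha : a.toIdeal = Ideal.span (⋃ n ∈ Set.Ioi (0 : ℤ), (ℬ n : Set R)))

include hpos ha in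
/-- Finiteness and vanishing in large degrees of the pieces of graded local cohomology. -/
theorem pieces_finite_vanish (i : ℕ) :
    ∀ (X : GrLC.GMod.{u} ℬ) [Module.Finite R X.carrier] (E : GrLC.StarInjRes ℬ X.gr),
      (∀ n, IsNoetherian (GrLC.deg0 ℬ) (E.Hcomp a i n)) ∧
        ∃ r : ℤ, ∀ n, r ≤ n → E.Hcomp a i n = ⊥ := by
  induction i with
  | zero =>
    intro X _ E
    have hT : (GrLC.gam a.toIdeal X.carrier).IsHomogeneous X.gr := gam_homogeneous X.gr a
    let T := subG ℬ X.gr hT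
    haveI : Module.Finite R T.carrier := by
      haveI : IsNoetherian R X.carrier := isNoetherian_of_isNoetherianRing_of_finite R X.carrier
      exact Module.Finite.of_injective (subIncl ℬ X.gr hT) (subIncl_injective ℬ X.gr hT)
    have htor : GrLC.gam a.toIdeal T.carrier = ⊤ := by
      rw [eq_top_iff]
      intro x _
      obtain ⟨k, hk⟩ := subIncl_mem ℬ X.gr hT x
      exact ⟨k, fun r hr => subIncl_injective ℬ X.gr hT (by rw [map_smul, map_zero, hk r hr])⟩
    obtain ⟨r, hr⟩ := torsion_piece_eventually_zero ℬ hpos a ha T.gr htor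
    refine ⟨fun n => ?_, r, fun n hn => ?_⟩
    · obtain ⟨φ, hφ⟩ := exists_gam_piece_surjective E a n
      haveI := isNoetherian_comp ℬ X.gr n
      haveI : IsNoetherian (GrLC.deg0 ℬ)
          ↥((GrLC.gam a.toIdeal X.carrier).restrictScalars (GrLC.deg0 ℬ) ⊓ GrLC.comp ℬ X.gr n) :=
        isNoetherian_of_le inf_le_right
      exact isNoetherian_of_surjective φ (LinearMap.range_eq_top.2 hφ)
    · obtain ⟨φ, hφ⟩ := exists_gam_piece_surjective E a n
      refine (Submodule.eq_bot_iff _).2 fun z hz => ?_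
      obtain ⟨⟨y, hy1, hy2⟩, hy⟩ := hφ ⟨z, hz⟩
      have h0 : y = 0 := congrArg (subIncl ℬ X.gr hT)
        (hr n hn (⟨y, hy1⟩ : ↥(GrLC.gam a.toIdeal X.carrier)) hy2)
      have := congrArg Subtype.val hy
      rw [show (⟨y, hy1, hy2⟩ :
        ↥((GrLC.gam a.toIdeal X.carrier).restrictScalars (GrLC.deg0 ℬ) ⊓ GrLC.comp ℬ X.gr n)) = 0
        from Subtype.ext h0, map_zero] at this
      exact this.symm
  | succ i ih =>
    intro X _ E
    haveI : IsNoetherian R X.carrier := isNoetherian_of_isNoetherianRing_of_finite R X.carrier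
    -- divide out the torsion
    have hT : (GrLC.gam a.toIdeal X.carrier).IsHomogeneous X.gr := gam_homogeneous X.gr a
    let T := subG ℬ X.gr hT
    let Y := quotG ℬ X.gr hT
    let π := quotMk ℬ X.gr hT
    haveI : Module.Finite R Y.carrier := Module.Finite.of_surjective π (quotMk_surjective ℬ X.gr hT)
    have hYtor : GrLC.gam a.toIdeal Y.carrier = ⊥ := by
      refine (Submodule.eq_bot_iff _).2 fun y ⟨k, hk⟩ => ?_
      obtain ⟨x, rfl⟩ := quotMk_surjective ℬ X.gr hT y
      obtain ⟨s, hs⟩ : (a.toIdeal ^ k).FG := IsNoetherian.noetherian _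
      have hgen : ∀ r ∈ s, ∃ l, ∀ t ∈ a.toIdeal ^ l, t • r • x = 0 := fun r hr => by
        have h0 : π (r • x) = 0 := by
          rw [map_smul]
          exact hk r (hs.le (Submodule.subset_span hr))
        exact (ker_quotMk ℬ X.gr hT).le (LinearMap.mem_ker.2 h0)
      choose! l hl using hgen
      refine LinearMap.mem_ker.1 ((ker_quotMk ℬ X.gr hT).ge ⟨s.sup l + k, fun r hr => ?_⟩)
      rw [pow_add] at hr
      refine Submodule.mul_induction_on hr (fun t ht u hu => ?_)
        (fun u v hu hv => by rw [add_smul, hu, hv, add_zero])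
      rw [← hs] at hu
      suffices key : ∀ t ∈ a.toIdeal ^ s.sup l, (t * u) • x = 0 from key t ht
      induction hu using Submodule.span_induction with
      | mem w hw =>
        intro t ht
        rw [mul_smul]
        exact hl w hw t (Ideal.pow_le_pow_right (Finset.le_sup hw) ht)
      | zero => intro t _; simp
      | add v w _ _ hv hw => intro t ht; rw [mul_add, add_smul, hv t ht, hw t ht, add_zero]
      | smul c v _ hv =>
        intro t ht
        rw [smul_eq_mul, mul_left_comm, mul_smul, hv t ht, smul_zero]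
    obtain ⟨ET⟩ := exists_starInjRes ℬ T.gr
    obtain ⟨EY⟩ := exists_starInjRes ℬ Y.gr
    have hTvan : ∀ j, Subsingleton (ET.H a (j + 1)) := fun j => by
      obtain ⟨e⟩ := exists_H_equiv_locCoh ET a (j + 1)
      haveI := Groth.Agent.LocCohLib.subsingleton_of_torsion (I := a.toIdeal)
        (ModuleCat.of R T.carrier) (fun x => by
          obtain ⟨k, hk⟩ := subIncl_mem ℬ X.gr hT x
          exact ⟨k, fun r hr => subIncl_injective ℬ X.gr hT (by rw [map_smul, map_zero, hk r hr])⟩) j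
      exact e.subsingleton
    have hπdeg : GrLC.IsGrHomDeg X.gr Y.gr π 0 := (isGrHom_iff _ _).1 (quotMk_grHom ℬ X.gr hT)
    have hidg : GrLC.IsGrHomDeg T.gr X.gr (subIncl ℬ X.gr hT) 0 :=
      (isGrHom_iff _ _).1 (subIncl_grHom ℬ X.gr hT)
    obtain ⟨Li⟩ := exists_lift ET E hidg
    obtain ⟨Lπ⟩ := exists_lift E EY hπdeg
    obtain ⟨-, δ, -, hB, hC, -⟩ := exists_long_exact Li Lπ a hidg (quotMk_grHom ℬ X.gr hT)
      (subIncl_injective ℬ X.gr hT) (fun b => by
        rw [← LinearMap.mem_ker, ker_quotMk, ← LinearMap.mem_range, range_subIncl])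
      (quotMk_surjective ℬ X.gr hT)
    have hπinj : Function.Injective (Lπ.mapH a (i + 1)) := by
      haveI := hTvan i
      rw [← LinearMap.ker_eq_bot, hB (i + 1), LinearMap.range_eq_bot]
      exact LinearMap.ext fun x => by rw [Subsingleton.elim x 0, map_zero, map_zero]
    -- a regular element
    obtain ⟨x, D, hD, hx, hreg⟩ := exists_regular ℬ a hYtor ha
    let f : Y.carrier →ₗ[R] Y.carrier := x • LinearMap.id
    have hf : GrLC.IsGrHomDeg Y.gr Y.gr f (D : ℤ) := fun g y hy => by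
      show x • y ∈ Y.gr (g + (D : ℤ))
      rw [add_comm]
      exact smul_mem ℬ Y.gr hx hy
    have hfr : (LinearMap.range f).IsHomogeneous Y.gr := range_homogeneous Y.gr Y.gr hf
    let Q := quotG ℬ Y.gr hfr
    haveI : Module.Finite R Q.carrier :=
      Module.Finite.of_surjective (quotMk ℬ Y.gr hfr) (quotMk_surjective ℬ Y.gr hfr)
    obtain ⟨EQ⟩ := exists_starInjRes ℬ Q.gr
    let Lf : Lift EY EY f (D : ℤ) :=
      { ψ := fun n => x • LinearMap.id
        deg := fun n g y hy => by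
          show x • y ∈ (EY.X n).gr (g + (D : ℤ))
          rw [add_comm]
          exact smul_mem ℬ (EY.X n).gr hx hy
        comm0 := LinearMap.ext fun y => (map_smul EY.ε x y).symm
        comm := fun n => LinearMap.ext fun y => (map_smul (EY.d n) x y).symm }
    have hLf : ∀ y, Lf.mapH a (i + 1) y = x • y := fun y => by
      obtain ⟨z, rfl⟩ := Submodule.mkQ_surjective _ y
      rfl
    obtain ⟨Lq⟩ := exists_lift EY EQ ((isGrHom_iff _ _).1 (quotMk_grHom ℬ Y.gr hfr))
    obtain ⟨-, δ', hδ', -, -, hA⟩ := exists_long_exact Lf Lq a hf (quotMk_grHom ℬ Y.gr hfr)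
      hreg (fun b => by rw [← LinearMap.mem_ker, ker_quotMk]; exact LinearMap.mem_range)
      (quotMk_surjective ℬ Y.gr hfr)
    obtain ⟨hQfin, r, hr⟩ := ih Q EQ
    have hxinj : ∀ n, r - D ≤ n → ∀ y ∈ EY.Hcomp a (i + 1) n, x • y = 0 → y = 0 := by
      intro n hn y hy hxy
      obtain ⟨w, hw, rfl⟩ := exists_H_preimage a (δ' i) (hδ' i) (g := n + D)
        (by rwa [add_neg_cancel_right]) ((hA i).le (LinearMap.mem_ker.2 (by rwa [hLf])))
      rw [hr (n + D) (by omega), Submodule.mem_bot] at hw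
      rw [hw, map_zero]
    have hvanY : ∀ n, r - D ≤ n → EY.Hcomp a (i + 1) n = ⊥ := by
      intro n hn
      refine (Submodule.eq_bot_iff _).2 fun y hy => ?_
      obtain ⟨z, hz, rfl⟩ := hy
      obtain ⟨k, hk⟩ := z.2.1
      have hxk : x ^ k • EY.toH a (i + 1) z = 0 := by
        rw [← map_smul, show x ^ k • z = 0 from Subtype.ext (hk _ (Ideal.pow_mem_pow
          (by rw [ha]; exact Ideal.subset_span (Set.mem_biUnion (Set.mem_Ioi.2 (by exact_mod_cast hD)) hx)) k)),
          map_zero]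
      have hmem : EY.toH a (i + 1) z ∈ EY.Hcomp a (i + 1) n := ⟨z, hz, rfl⟩
      clear hz hk
      revert hxk hmem
      generalize EY.toH a (i + 1) z = y
      intro hxk hmem
      induction k generalizing y n with
      | zero => simpa using hxk
      | succ k ihk =>
        refine hxinj n hn y hmem (ihk (n + D) (by omega) (x • y) (by rwa [← mul_smul, ← pow_succ]) ?_)
        have := Lf.mapH_grHomDeg a (i + 1) n y hmem
        rwa [hLf] at this
    have hmap : ∀ n, IsNoetherian (GrLC.deg0 ℬ) (EY.Hcomp a (i + 1) n) := by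
      intro n
      induction h : ((r - D) - n).toNat using Nat.strong_induction_on generalizing n with
      | _ k ihk =>
        by_cases hn : r - D ≤ n
        · rw [hvanY n hn]; infer_instance
        haveI := ihk _ (by omega) (n + D) rfl
        haveI := hQfin (n + D)
        refine isNoetherian_of_range_eq_ker
          (pieceMap a (δ' i) (hδ' i) (g := n + D) (g' := n) (by abel))
          (pieceMap a (Lf.mapH a (i + 1)) (Lf.mapH_grHomDeg a (i + 1)) (g := n) (g' := n + D) rfl) ?_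
        refine le_antisymm ?_ ?_
        · rintro _ ⟨w, rfl⟩
          exact LinearMap.mem_ker.2 (Subtype.ext ((hA i).ge ⟨(w : EQ.H a i), rfl⟩))
        · rintro ⟨y, hy⟩ hy0
          have hy0' : Lf.mapH a (i + 1) y = 0 := congrArg Subtype.val (LinearMap.mem_ker.1 hy0)
          obtain ⟨w, hw, hwy⟩ := exists_H_preimage a (δ' i) (hδ' i) (g := n + D)
            (by rwa [add_neg_cancel_right]) ((hA i).le (LinearMap.mem_ker.2 hy0'))
          exact ⟨⟨w, hw⟩, Subtype.ext hwy⟩
    refine ⟨fun n => ?_, r - D, fun n hn => ?_⟩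
    · haveI := hmap n
      exact isNoetherian_of_injective
        (pieceMap a (Lπ.mapH a (i + 1)) (Lπ.mapH_grHomDeg a (i + 1)) (g := n) (add_zero n))
        fun y z h => Subtype.ext (hπinj (congrArg Subtype.val h))
    · refine (Submodule.eq_bot_iff _).2 fun y hy => hπinj ?_
      have := Lπ.mapH_grHomDeg a (i + 1) n y hy
      rw [add_zero] at this
      have h2 : Lπ.mapH a (i + 1) y ∈ EY.Hcomp a (i + 1) n := this
      rw [hvanY n hn, Submodule.mem_bot] at h2
      rw [h2, map_zero]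

end Main

end GrInjLib
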