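import Mathlib
import Groth.Agent.GrInjLib.Pieces

/-! Vanishing of graded pieces of local cohomology along short exact sequences. -/

set_option autoImplicit false
set_option linter.style.haveILetI false
set_option linter.unusedSectionVars false
universe u

open DirectSum

namespace GrInjLib

variable {ι : Type} [AddCommGroup ι] [DecidableEq ι] {R : Type u} [CommRing R]
  {σ : Type u} [SetLike σ R] [AddSubgroupClass σ R] {𝒜 : ι → σ} [GradedRing 𝒜]
  (a : HomogeneousIdeal 𝒜)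

/-- The degree `g` piece of the `i`-th local cohomology of `X` vanishes. -/
def Van (X : GrLC.GMod.{u} 𝒜) (i : ℕ) (g : ι) : Prop :=
  ∀ E : GrLC.StarInjRes 𝒜 X.gr, E.Hcomp a i g = ⊥

variable {a}

theorem Van.of_res {X : GrLC.GMod.{u} 𝒜} {i : ℕ} {g : ι} (E : GrLC.StarInjRes 𝒜 X.gr)
    (h : E.Hcomp a i g = ⊥) : Van a X i g := fun E' => by
  obtain ⟨e, he, he'⟩ := exists_H_equiv E a E' i
  refine (Submodule.eq_bot_iff _).2 fun y hy => ?_
  have h1 : e.symm y ∈ E.Hcomp a i g := he' g y hy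
  rw [h, Submodule.mem_bot] at h1
  rw [← e.apply_symm_apply y, h1, map_zero]

theorem van_of_subsingleton {X : GrLC.GMod.{u} 𝒜} (h : ∀ x : X.carrier, x = 0) (i : ℕ) (g : ι) :
    Van a X i g := fun E => by
  have h0 : GrLC.IsGrHomDeg X.gr X.gr (0 : X.carrier →ₗ[R] X.carrier) 0 := fun j x _ => zero_mem _
  let L0 : Lift E E (0 : X.carrier →ₗ[R] X.carrier) 0 :=
    { ψ := fun n => 0
      deg := fun n j x _ => zero_mem _
      comm0 := by simp
      comm := fun n => by simp }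
  let L1 : Lift E E (0 : X.carrier →ₗ[R] X.carrier) 0 :=
    { ψ := fun n => LinearMap.id
      deg := fun n j x hx => by rwa [add_zero]
      comm0 := LinearMap.ext fun x => by rw [h x]; simp
      comm := fun n => rfl }
  refine (Submodule.eq_bot_iff _).2 fun y _ => ?_
  have := LinearMap.congr_fun (Lift.mapH_eq a L0 L1 i) y
  obtain ⟨z, rfl⟩ := Submodule.mkQ_surjective _ y
  exact this.symm.trans ((congrArg (E.toH a i) (Subtype.ext rfl : L0.mapZ a i z = 0)).trans (map_zero _))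

section Seq

variable {A B C : GrLC.GMod.{u} 𝒜} {f : A.carrier →ₗ[R] B.carrier} {g : B.carrier →ₗ[R] C.carrier}
  {d : ι} (hf : GrLC.IsGrHomDeg A.gr B.gr f d) (hg : GrLC.IsGrHom B.gr C.gr g)
  (hinj : Function.Injective f) (hex : ∀ b, g b = 0 ↔ ∃ x, f x = b) (hsurj : Function.Surjective g)

include hf hg hinj hex hsurj

theorem van_middle {i : ℕ} {e e' : ι} (he : e + d = e') (hA : Van a A i e) (hC : Van a C i e') :
    Van a B i e' := fun EB => by
  obtain ⟨EA⟩ := exists_starInjRes 𝒜 A.gr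
  obtain ⟨EC⟩ := exists_starInjRes 𝒜 C.gr
  obtain ⟨Lf⟩ := exists_lift EA EB hf
  obtain ⟨Lg⟩ := exists_lift EB EC ((isGrHom_iff B.gr C.gr).1 hg)
  obtain ⟨-, δ, -, hB, -, -⟩ := exists_long_exact Lf Lg a hf hg hinj hex hsurj
  refine (Submodule.eq_bot_iff _).2 fun y hy => ?_
  have h1 := Lg.mapH_grHomDeg a i e' y hy
  rw [add_zero] at h1
  have h2 : Lg.mapH a i y = 0 := by
    have : Lg.mapH a i y ∈ EC.Hcomp a i e' := h1
    rwa [hC EC, Submodule.mem_bot] at this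
  obtain ⟨x, hx, rfl⟩ := exists_H_preimage a (Lf.mapH a i) (Lf.mapH_grHomDeg a i) (g := e)
    (by rw [he]; exact hy) ((hB i).le (LinearMap.mem_ker.2 h2))
  rw [hA EA, Submodule.mem_bot] at hx
  rw [hx, map_zero]

theorem van_right {i : ℕ} {e e' : ι} (he : e + d = e') (hB' : Van a B i e')
    (hA : Van a A (i + 1) e) : Van a C i e' := fun EC => by
  obtain ⟨EA⟩ := exists_starInjRes 𝒜 A.gr
  obtain ⟨EB⟩ := exists_starInjRes 𝒜 B.gr
  obtain ⟨Lf⟩ := exists_lift EA EB hf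
  obtain ⟨Lg⟩ := exists_lift EB EC ((isGrHom_iff B.gr C.gr).1 hg)
  obtain ⟨-, δ, hδ, -, hC, -⟩ := exists_long_exact Lf Lg a hf hg hinj hex hsurj
  refine (Submodule.eq_bot_iff _).2 fun y hy => ?_
  have h1 : δ i y ∈ EA.Hcomp a (i + 1) e := by
    have := hδ i e' y hy
    rwa [← he, add_neg_cancel_right] at this
  rw [hA EA, Submodule.mem_bot] at h1
  obtain ⟨x, hx, rfl⟩ := exists_H_preimage a (Lg.mapH a i) (Lg.mapH_grHomDeg a i) (g := e')
    (by rw [add_zero]; exact hy) ((hC i).le (LinearMap.mem_ker.2 h1))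
  rw [hB' EB, Submodule.mem_bot] at hx
  rw [hx, map_zero]

theorem van_left {i : ℕ} {e e' : ι} (he : e + d = e') (hC' : Van a C i e')
    (hB : Van a B (i + 1) e') : Van a A (i + 1) e := fun EA => by
  obtain ⟨EB⟩ := exists_starInjRes 𝒜 B.gr
  obtain ⟨EC⟩ := exists_starInjRes 𝒜 C.gr
  obtain ⟨Lf⟩ := exists_lift EA EB hf
  obtain ⟨Lg⟩ := exists_lift EB EC ((isGrHom_iff B.gr C.gr).1 hg)
  obtain ⟨-, δ, hδ, -, -, hA⟩ := exists_long_exact Lf Lg a hf hg hinj hex hsurj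
  refine (Submodule.eq_bot_iff _).2 fun y hy => ?_
  have h1 : Lf.mapH a (i + 1) y = 0 := by
    have := Lf.mapH_grHomDeg a (i + 1) e y hy
    rw [he] at this
    have h2 : Lf.mapH a (i + 1) y ∈ EB.Hcomp a (i + 1) e' := this
    rwa [hB EB, Submodule.mem_bot] at h2
  obtain ⟨x, hx, rfl⟩ := exists_H_preimage a (δ i) (hδ i) (g := e')
    (by rw [← he, add_neg_cancel_right]; exact hy) ((hA i).le (LinearMap.mem_ker.2 h1))
  rw [hC' EC, Submodule.mem_bot] at hx
  rw [hx, map_zero]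

end Seq

theorem van_prod {X Y : GrLC.GMod.{u} 𝒜} {d : ι} {i : ℕ} {e e' : ι} (he : e + d = e')
    (hX : Van a X i e) (hY : Van a Y i e') : Van a (prodG X Y d) i e' :=
  van_middle (pinl_deg X Y d) (psnd_grHom X Y d)
    (Function.LeftInverse.injective (g := pfst X Y d) (pfst_pinl X Y d))
    (fun b => ⟨fun hb => ⟨pfst X Y d b, prod_ext X Y d (pfst_pinl _ _ _ _)
      ((psnd_pinl _ _ _ _).trans hb.symm)⟩, fun ⟨x, hx⟩ => by rw [← hx, psnd_pinl]⟩)
    (Function.RightInverse.surjective (g := pinr X Y d) (psnd_pinr X Y d)) he hX hY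

section Torsion

variable [IsNoetherianRing R]

theorem subsingleton_H_of_torsion {X : GrLC.GMod.{u} 𝒜} (h : GrLC.gam a.toIdeal X.carrier = ⊤)
    (E : GrLC.StarInjRes 𝒜 X.gr) (i : ℕ) : Subsingleton (E.H a (i + 1)) := by
  obtain ⟨e⟩ := exists_H_equiv_locCoh E a (i + 1)
  haveI := Groth.Agent.LocCohLib.subsingleton_of_torsion (I := a.toIdeal)
    (ModuleCat.of R X.carrier) (fun x => (h.ge (Submodule.mem_top (x := x)) : x ∈ GrLC.gam _ _)) i
  exact e.subsingleton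

theorem van_of_torsion {X : GrLC.GMod.{u} 𝒜} (h : GrLC.gam a.toIdeal X.carrier = ⊤) (i : ℕ)
    (g : ι) : Van a X (i + 1) g := fun E => by
  haveI := subsingleton_H_of_torsion h E i
  exact (Submodule.eq_bot_iff _).2 fun y _ => Subsingleton.elim y 0

end Torsion

/-- A piece of a torsion module is a piece of its zeroth cohomology. -/
theorem eq_zero_of_van_zero {X : GrLC.GMod.{u} 𝒜} {g : ι} (h : Van a X 0 g) {x : X.carrier}
    (hx : x ∈ X.gr g) (htor : x ∈ GrLC.gam a.toIdeal X.carrier) : x = 0 := by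
  obtain ⟨E⟩ := exists_starInjRes 𝒜 X.gr
  have hz : E.ε x ∈ E.cocyc a 0 :=
    ⟨map_gam E.ε a.toIdeal htor, (SetLike.ext_iff.1 E.exact_zero _).2 ⟨x, rfl⟩⟩
  have h1 : E.toH a 0 ⟨E.ε x, hz⟩ ∈ E.Hcomp a 0 g := ⟨⟨E.ε x, hz⟩, E.ε_grHom g x hx, rfl⟩
  rw [h E, Submodule.mem_bot] at h1
  exact E.ε_injective (((Submodule.Quotient.mk_eq_zero
    ((E.cobdy a 0).comap (E.cocyc a 0).subtype)).1 h1 : E.ε x = 0).trans (map_zero E.ε).symm)

end GrInjLib
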