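import Mathlib
import Groth.Agent.GrInjLib.Van

/-! Mumford's regularity lemma by means of a Koszul complex. -/

set_option autoImplicit false
set_option linter.style.haveILetI false
set_option linter.unusedSectionVars false
universe u

open DirectSum

namespace GrInjLib

variable {R : Type u} [CommRing R]
  {σ : Type u} [SetLike σ R] [AddSubgroupClass σ R] {𝒜 : ℤ → σ} [GradedRing 𝒜]
  (a : HomogeneousIdeal 𝒜)

/-- A linear complex over `M` whose homology is killed by powers of the elements of `S`. -/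
structure LinCx (M : GrLC.GMod.{u} 𝒜) (S : Finset R) where
  /-- the terms -/
  G : ℕ → GrLC.GMod.{u} 𝒜
  /-- the differentials -/
  d : ∀ j, (G (j + 1)).carrier →ₗ[R] (G j).carrier
  d_grHom : ∀ j, GrLC.IsGrHom (G (j + 1)).gr (G j).gr (d j)
  d_d : ∀ j v, d j (d (j + 1) v) = 0
  head : G 0 = M
  bound : ∃ t : ℕ, ∀ j, t < j → ∀ v : (G j).carrier, v = 0
  van : ∀ (i j : ℕ) (g : ℤ), Van a M i (g - j) → Van a (G j) i g
  d0_le : ∀ v, d 0 v ∈ Ideal.span (S : Set R) • (⊤ : Submodule R (G 0).carrier)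
  killed : ∀ y ∈ S, ∃ N : ℕ, (∀ v : (G 0).carrier, y ^ N • v ∈ LinearMap.range (d 0)) ∧
    ∀ j v, d j v = 0 → y ^ N • v ∈ LinearMap.range (d (j + 1))

section Cone

variable (G : ℕ → GrLC.GMod.{u} 𝒜) (d : ∀ j, (G (j + 1)).carrier →ₗ[R] (G j).carrier) (x : R)

/-- The terms of the cone of multiplication by `x`. -/
noncomputable def coneX : ℕ → GrLC.GMod.{u} 𝒜
  | 0 => G 0
  | j + 1 => prodG (G j) (G (j + 1)) 1

/-- The differentials of the cone. -/
noncomputable def coneD : ∀ j, (coneX G (j + 1)).carrier →ₗ[R] (coneX G j).carrier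
  | 0 => d 0 ∘ₗ psnd (G 0) (G 1) 1 + x • pfst (G 0) (G 1) 1
  | j + 1 => ppair (G j) (G (j + 1)) 1 (-(d j ∘ₗ pfst (G (j + 1)) (G (j + 2)) 1))
      (d (j + 1) ∘ₗ psnd (G (j + 1)) (G (j + 2)) 1 + x • pfst (G (j + 1)) (G (j + 2)) 1)

theorem coneD_zero (v : (prodG (G 0) (G 1) 1).carrier) :
    coneD G d x 0 v = d 0 (psnd (G 0) (G 1) 1 v) + x • pfst (G 0) (G 1) 1 v := rfl

theorem pfst_coneD (j : ℕ) (v : (prodG (G (j + 1)) (G (j + 2)) 1).carrier) :
    pfst (G j) (G (j + 1)) 1 (coneD G d x (j + 1) v) =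
      -(d j (pfst (G (j + 1)) (G (j + 2)) 1 v)) := rfl

theorem psnd_coneD (j : ℕ) (v : (prodG (G (j + 1)) (G (j + 2)) 1).carrier) :
    psnd (G j) (G (j + 1)) 1 (coneD G d x (j + 1) v) =
      d (j + 1) (psnd (G (j + 1)) (G (j + 2)) 1 v) + x • pfst (G (j + 1)) (G (j + 2)) 1 v := rfl

theorem coneD_succ_eq_zero {j : ℕ} {v : (prodG (G (j + 1)) (G (j + 2)) 1).carrier}
    (hv : coneD G d x (j + 1) v = 0) :
    d j (pfst (G (j + 1)) (G (j + 2)) 1 v) = 0 ∧
      d (j + 1) (psnd (G (j + 1)) (G (j + 2)) 1 v) + x • pfst (G (j + 1)) (G (j + 2)) 1 v = 0 := by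
  refine ⟨neg_eq_zero.1 ?_, ?_⟩
  · exact ((pfst_coneD G d x j v).symm.trans (congrArg (pfst (G j) (G (j + 1)) 1) hv)).trans
      (map_zero (pfst (G j) (G (j + 1)) 1))
  · exact ((psnd_coneD G d x j v).symm.trans (congrArg (psnd (G j) (G (j + 1)) 1) hv)).trans
      (map_zero (psnd (G j) (G (j + 1)) 1))

theorem coneD_coneD (hdd : ∀ j v, d j (d (j + 1) v) = 0) :
    ∀ j v, coneD G d x j (coneD G d x (j + 1) v) = 0
  | 0, v => by
    refine (coneD_zero G d x _).trans ?_
    rw [pfst_coneD, psnd_coneD, map_add, hdd, map_smul, smul_neg, zero_add]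
    exact add_neg_cancel _
  | j + 1, v => by
    have h1 : -(d j (pfst (G (j + 1)) (G (j + 2)) 1 (coneD G d x (j + 1 + 1) v))) = 0 := by
      rw [pfst_coneD, map_neg, hdd, neg_zero, neg_zero]
    have h2 : d (j + 1) (psnd (G (j + 1)) (G (j + 2)) 1 (coneD G d x (j + 1 + 1) v)) +
        x • pfst (G (j + 1)) (G (j + 2)) 1 (coneD G d x (j + 1 + 1) v) = 0 := by
      rw [psnd_coneD, pfst_coneD, map_add, hdd, map_smul, smul_neg, zero_add]
      exact add_neg_cancel _
    exact prod_ext (G j) (G (j + 1)) 1 (h1.trans (map_zero (pfst (G j) (G (j + 1)) 1)).symm)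
      (h2.trans (map_zero (psnd (G j) (G (j + 1)) 1)).symm)

theorem coneD_kill (j : ℕ) (v : (prodG (G j) (G (j + 1)) 1).carrier)
    (hv : d j (psnd (G j) (G (j + 1)) 1 v) + x • pfst (G j) (G (j + 1)) 1 v = 0) :
    coneD G d x (j + 1) (pinl (G (j + 1)) (G (j + 2)) 1 (psnd (G j) (G (j + 1)) 1 v)) = x • v := by
  refine prod_ext (G j) (G (j + 1)) 1 ?_ ?_
  · refine (pfst_coneD G d x j _).trans ?_
    rw [pfst_pinl, map_smul, neg_eq_iff_add_eq_zero]
    exact hv
  · refine (psnd_coneD G d x j _).trans ?_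
    rw [psnd_pinl, pfst_pinl, map_zero, zero_add, map_smul]

theorem coneD_kill_old (j : ℕ) (v : (prodG (G j) (G (j + 1)) 1).carrier) (r : R)
    (b' : (G (j + 1)).carrier) (hb' : d j b' = r • pfst (G j) (G (j + 1)) 1 v)
    (c : (G (j + 2)).carrier)
    (hc : d (j + 1) c = r • (r • psnd (G j) (G (j + 1)) 1 v + x • b')) :
    coneD G d x (j + 1) (-(pinl (G (j + 1)) (G (j + 2)) 1 (r • b')) +
      pinr (G (j + 1)) (G (j + 2)) 1 c) = (r * r) • v := by
  refine prod_ext (G j) (G (j + 1)) 1 ?_ ?_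
  · refine (pfst_coneD G d x j _).trans ?_
    simp only [map_add, map_neg, map_smul, pfst_pinl, pfst_pinr, hb', map_zero, add_zero, neg_neg,
      mul_smul]
  · refine (psnd_coneD G d x j _).trans ?_
    simp only [map_add, map_neg, map_smul, psnd_pinl, psnd_pinr, pfst_pinl, pfst_pinr, hc,
      map_zero, add_zero, neg_zero, zero_add, smul_neg, smul_add, mul_smul, smul_zero]
    rw [smul_comm x r b']
    abel

end Cone

variable {a}

/-- A module in degree zero of a complex. -/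
def headX (M Z : GrLC.GMod.{u} 𝒜) : ℕ → GrLC.GMod.{u} 𝒜
  | 0 => M
  | _ + 1 => Z

/-- The empty complex. -/
theorem exists_linCx_empty (M : GrLC.GMod.{u} 𝒜) : Nonempty (LinCx a M ∅) := by
  let Z : GrLC.GMod.{u} 𝒜 := subG 𝒜 M.gr (bot_homogeneous M.gr)
  have hZ : ∀ v : Z.carrier, v = 0 := fun v => subIncl_injective 𝒜 M.gr (bot_homogeneous M.gr)
    (((Submodule.mem_bot R).1 (subIncl_mem 𝒜 M.gr (bot_homogeneous M.gr) v)).trans (map_zero _).symm)
  let G : ℕ → GrLC.GMod.{u} 𝒜 := headX M Z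
  have hG : ∀ j, 0 < j → ∀ v : (G j).carrier, v = 0 := fun j hj => by
    cases j with
    | zero => omega
    | succ j => exact hZ
  exact ⟨{
    G := G
    d := fun j => 0
    d_grHom := fun j g v _ => zero_mem _
    d_d := fun j v => rfl
    head := rfl
    bound := ⟨0, hG⟩
    van := fun i j g h => by
      cases j with
      | zero =>
        show Van a M i g
        simpa using h
      | succ j => exact van_of_subsingleton hZ i g
    d0_le := fun v => zero_mem _
    killed := fun y hy => absurd hy (Finset.notMem_empty y) }⟩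

/-- Adjoining a linear element. -/
theorem exists_linCx_insert [DecidableEq R] {M : GrLC.GMod.{u} 𝒜} {S : Finset R} (K : LinCx a M S)
    {x : R} (hx : x ∈ 𝒜 (1 : ℤ)) : Nonempty (LinCx a M (insert x S)) := by
  obtain ⟨G, d, hdg, hdd, head, ⟨t, ht⟩, hvan, hd0, hkill⟩ := K
  refine ⟨{
    G := coneX G
    d := coneD G d x
    d_grHom := ?_
    d_d := ?_
    head := head
    bound := ⟨t + 1, ?_⟩
    van := ?_
    d0_le := fun v => ?_
    killed := ?_ }⟩
  · rintro (_ | j) g v hv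
    · show d 0 _ + x • _ ∈ (G 0).gr g
      refine add_mem (hdg 0 g _ hv.2) ?_
      have := smul_mem 𝒜 (G 0).gr hx hv.1
      rwa [add_sub_cancel] at this
    · refine ⟨?_, ?_⟩
      · show -(d j (pfst (G (j + 1)) (G (j + 2)) 1 v)) ∈ (G j).gr (g - 1)
        exact neg_mem (hdg j _ _ hv.1)
      · show d (j + 1) _ + x • _ ∈ (G (j + 1)).gr g
        refine add_mem (hdg (j + 1) g _ hv.2) ?_
        have := smul_mem 𝒜 (G (j + 1)).gr hx hv.1
        rwa [add_sub_cancel] at this
  · exact coneD_coneD G d x hdd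
  · rintro (_ | j) hj v
    · omega
    · exact prod_ext (G j) (G (j + 1)) 1 ((ht j (by omega) _).trans (map_zero _).symm)
        ((ht (j + 1) (by omega) _).trans (map_zero _).symm)
  · rintro i (_ | j) g h
    · exact hvan i 0 g h
    · refine van_prod (sub_add_cancel g 1) (hvan i j (g - 1) ?_) (hvan i (j + 1) g h)
      convert h using 1
      push_cast
      ring
  · revert v
    intro (v : (prodG (G 0) (G 1) 1).carrier)
    show d 0 (psnd (G 0) (G 1) 1 v) + x • pfst (G 0) (G 1) 1 v ∈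
      Ideal.span ((insert x S : Finset R) : Set R) • (⊤ : Submodule R (G 0).carrier)
    refine add_mem ?_ (Submodule.smul_mem_smul
      (Ideal.subset_span (Finset.mem_coe.2 (Finset.mem_insert_self x S))) Submodule.mem_top)
    exact Submodule.smul_mono (Ideal.span_mono (Finset.coe_subset.2 (Finset.subset_insert x S)))
      le_rfl (hd0 _)
  · intro y hy
    have hcyc : ∀ j (v : (prodG (G j) (G (j + 1)) 1).carrier), coneD G d x j v = 0 →
        d j (psnd (G j) (G (j + 1)) 1 v) + x • pfst (G j) (G (j + 1)) 1 v = 0 := by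
      rintro (_ | j) v hv
      · exact hv
      · exact (coneD_succ_eq_zero G d x hv).2
    rcases Finset.mem_insert.1 hy with rfl | hy
    · refine ⟨1, ?_, ?_⟩
      · intro (v : (G 0).carrier)
        refine ⟨pinl (G 0) (G 1) 1 v, (coneD_zero G d y _).trans ?_⟩
        rw [psnd_pinl, pfst_pinl, map_zero, zero_add, pow_one]
        rfl
      · intro j (v : (prodG (G j) (G (j + 1)) 1).carrier) hv
        refine ⟨pinl (G (j + 1)) (G (j + 2)) 1 (psnd (G j) (G (j + 1)) 1 v), ?_⟩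
        rw [pow_one]
        exact coneD_kill G d y j v (hcyc j v hv)
    · obtain ⟨N, hN0, hN⟩ := hkill y hy
      refine ⟨N + N, ?_, ?_⟩
      · intro (v : (G 0).carrier)
        rw [pow_add, mul_smul]
        obtain ⟨b, hb⟩ := hN0 (y ^ N • v)
        refine ⟨pinr (G 0) (G 1) 1 b, (coneD_zero G d x _).trans ?_⟩
        rw [psnd_pinr, pfst_pinr, smul_zero, add_zero, hb]
        rfl
      · intro j (v : (prodG (G j) (G (j + 1)) 1).carrier) hv
        obtain ⟨b', hb'⟩ : y ^ N • pfst (G j) (G (j + 1)) 1 v ∈ LinearMap.range (d j) := by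
          cases j with
          | zero => exact hN0 _
          | succ j => exact hN j _ (coneD_succ_eq_zero G d x hv).1
        have hd : d j (y ^ N • psnd (G j) (G (j + 1)) 1 v + x • b') = 0 := by
          rw [map_add, map_smul, map_smul, hb', smul_comm x, ← smul_add, hcyc j v hv, smul_zero]
        obtain ⟨c, hc⟩ := hN j _ hd
        exact ⟨_, (coneD_kill_old G d x j v (y ^ N) b' hb' c hc).trans (by rw [← pow_add]; rfl)⟩

/-- Linear complexes exist for every finite set of linear forms. -/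
theorem exists_linCx (M : GrLC.GMod.{u} 𝒜) (S : Finset R) (hS : ∀ x ∈ S, x ∈ 𝒜 (1 : ℤ)) :
    Nonempty (LinCx a M S) := by
  classical
  induction S using Finset.induction_on with
  | empty => exact exists_linCx_empty M
  | insert x S _ ih =>
    obtain ⟨K⟩ := ih fun y hy => hS y (Finset.mem_insert_of_mem hy)
    exact exists_linCx_insert K (hS x (Finset.mem_insert_self x S))

section Chain

variable [IsNoetherianRing R]

/-- A power of the ideal kills what powers of the generators kill. -/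
theorem exists_pow_kill {S : Finset R} (hspan : a.toIdeal ≤ Ideal.span (S : Set R))
    {X : Type u} [AddCommGroup X] [Module R X] {P : Submodule R X} {v : X}
    (h : ∀ y ∈ S, ∃ N : ℕ, y ^ N • v ∈ P) : ∃ k, ∀ r ∈ a.toIdeal ^ k, r • v ∈ P := by
  have hrad : a.toIdeal ≤
      Ideal.radical (Submodule.comap (LinearMap.toSpanSingleton R X v) P) := by
    refine hspan.trans (Ideal.span_le.2 fun y hy => ?_)
    obtain ⟨N, hN⟩ := h y hy
    exact ⟨N, hN⟩
  obtain ⟨k, hk⟩ := Ideal.exists_pow_le_of_le_radical_of_fg hrad (IsNoetherian.noetherian a.toIdeal)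
  exact ⟨k, fun r hr => hk hr⟩

/-- The quotient of `M` by `aM`, with the vanishing it inherits. -/
theorem van_chain {M : GrLC.GMod.{u} 𝒜} {S : Finset R} (K : LinCx a M S)
    (hspan : a.toIdeal ≤ Ideal.span (S : Set R)) (i : ℕ) (n : ℤ)
    (h : ∀ j : ℕ, Van a M (i + j) (n - j)) :
    ∃ (B : GrLC.GMod.{u} 𝒜) (f : B.carrier →ₗ[R] M.carrier),
      GrLC.IsGrHom B.gr M.gr f ∧ Function.Injective f ∧ Van a B i (n + 1) ∧
      (∀ v : M.carrier, ∃ k, ∀ r ∈ a.toIdeal ^ k, r • v ∈ LinearMap.range f) ∧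
      LinearMap.range f ≤ Ideal.span (S : Set R) • (⊤ : Submodule R M.carrier) := by
  obtain ⟨G, d, hdg, hdd, rfl, ⟨t, ht⟩, hvan, hd0, hkill⟩ := K
  have hZ : ∀ j, (LinearMap.ker (d j)).IsHomogeneous (G (j + 1)).gr := fun j =>
    ker_homogeneous _ _ ((isGrHom_iff _ _).1 (hdg j))
  have hB : ∀ j, (LinearMap.range (d j)).IsHomogeneous (G j).gr := fun j =>
    range_homogeneous _ _ ((isGrHom_iff _ _).1 (hdg j))
  let B : ℕ → GrLC.GMod.{u} 𝒜 := fun j => subG 𝒜 (G j).gr (hB j)
  suffices key : ∀ m j, t ≤ j + m → Van a (B j) (i + j) (n + 1) by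
    refine ⟨B 0, subIncl 𝒜 (G 0).gr (hB 0), subIncl_grHom _ _ _, subIncl_injective _ _ _,
      key t 0 (by omega), fun v => ?_, by rw [range_subIncl]; rintro _ ⟨w, rfl⟩; exact hd0 w⟩
    rw [range_subIncl]
    exact exists_pow_kill hspan fun y hy => ⟨_, (hkill y hy).choose_spec.1 v⟩
  intro m
  induction m with
  | zero =>
    intro j hj
    refine van_of_subsingleton (fun x => ?_) _ _
    obtain ⟨w, hw⟩ := subIncl_mem 𝒜 (G j).gr (hB j) x
    refine subIncl_injective 𝒜 (G j).gr (hB j) ?_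
    rw [← hw, ht (j + 1) (by omega) w, map_zero, map_zero]
  | succ m ih =>
    intro j hj
    let Z := subG 𝒜 (G (j + 1)).gr (hZ j)
    let incZ := subIncl 𝒜 (G (j + 1)).gr (hZ j)
    let incB := subIncl 𝒜 (G (j + 1)).gr (hB (j + 1))
    have hle : ∀ x, incB x ∈ LinearMap.ker (d j) := fun x => by
      obtain ⟨w, hw⟩ := subIncl_mem 𝒜 (G (j + 1)).gr (hB (j + 1)) x
      rw [LinearMap.mem_ker, show incB x = d (j + 1) w from hw.symm, hdd]
    let f : (B (j + 1)).carrier →ₗ[R] Z.carrier := toSubG 𝒜 (G (j + 1)).gr (hZ j) incB hle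
    have hfg : GrLC.IsGrHom (B (j + 1)).gr Z.gr f :=
      toSubG_grHom 𝒜 _ (hZ j) _ (subIncl_grHom _ _ _) hle
    have hif : ∀ x, incZ (f x) = incB x := subIncl_toSubG 𝒜 _ (hZ j) incB hle
    have hfinj : Function.Injective f := fun x y hxy => subIncl_injective _ _ (hB (j + 1))
      (by rw [← hif, ← hif, hxy])
    have hR : (LinearMap.range f).IsHomogeneous Z.gr :=
      range_homogeneous _ _ ((isGrHom_iff _ _).1 hfg)
    let H := quotG 𝒜 Z.gr hR
    have hHtor : GrLC.gam a.toIdeal H.carrier = ⊤ := by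
      rw [eq_top_iff]
      intro y _
      obtain ⟨v, rfl⟩ := quotMk_surjective 𝒜 Z.gr hR y
      obtain ⟨k, hk⟩ := exists_pow_kill (a := a) (P := LinearMap.range f) (v := v) hspan fun y hy => by
        obtain ⟨N, -, hN⟩ := hkill y hy
        obtain ⟨w, hw⟩ := hN j (incZ v) (LinearMap.mem_ker.1 (subIncl_mem _ _ (hZ j) v))
        refine ⟨N, toSubG 𝒜 (G (j + 1)).gr (hB (j + 1)) (d (j + 1)) (fun w => ⟨w, rfl⟩) w, ?_⟩
        refine subIncl_injective _ _ (hZ j) ?_
        show incZ (f _) = incZ _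
        rw [hif, map_smul, ← hw]
        rfl
      exact ⟨k, fun r hr => by
        rw [← map_smul]
        exact LinearMap.mem_ker.1 ((ker_quotMk 𝒜 Z.gr hR).ge (hk r hr))⟩
    have hZvan : Van a Z (i + j + 1) (n + 1) :=
      van_middle ((isGrHom_iff _ _).1 hfg) (quotMk_grHom 𝒜 Z.gr hR) hfinj
        (fun b => by rw [← LinearMap.mem_ker, ker_quotMk]; exact LinearMap.mem_range)
        (quotMk_surjective 𝒜 Z.gr hR) (add_zero (n + 1))
        (by rw [add_assoc]; exact ih (j + 1) (by omega))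
        (van_of_torsion hHtor (i + j) (n + 1))
    have hGvan : Van a (G (j + 1)) (i + j) (n + 1) := by
      refine hvan (i + j) (j + 1) (n + 1) ?_
      convert h j using 1
      push_cast
      ring
    refine van_right ((isGrHom_iff _ _).1 (subIncl_grHom 𝒜 (G (j + 1)).gr (hZ j)))
      (g := toSubG 𝒜 (G j).gr (hB j) (d j) (fun x => ⟨x, rfl⟩))
      (toSubG_grHom 𝒜 _ (hB j) _ (hdg j) (fun x => ⟨x, rfl⟩))
      (subIncl_injective _ _ _) (fun b => ?_) (fun y => ?_) (add_zero (n + 1)) hGvan hZvan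
    · rw [← LinearMap.mem_range, range_subIncl, LinearMap.mem_ker]
      refine ⟨fun hb => ?_, fun hb => subIncl_injective _ _ (hB j) ?_⟩
      · have := congrArg (subIncl 𝒜 (G j).gr (hB j)) hb
        rwa [subIncl_toSubG, map_zero] at this
      · rw [subIncl_toSubG, map_zero, hb]
    · obtain ⟨w, hw⟩ := subIncl_mem 𝒜 (G j).gr (hB j) y
      exact ⟨w, subIncl_injective _ _ (hB j) (by rw [subIncl_toSubG, hw])⟩

/-- One step of Mumford's lemma. -/
theorem van_step {M : GrLC.GMod.{u} 𝒜} (S : Finset R) (hS : ∀ x ∈ S, x ∈ 𝒜 (1 : ℤ))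
    (hspan : a.toIdeal ≤ Ideal.span (S : Set R)) (i : ℕ) (n : ℤ)
    (h : ∀ j : ℕ, Van a M (i + 1 + j) (n - j)) : Van a M (i + 1) (n + 1) := by
  obtain ⟨K⟩ := exists_linCx (a := a) M S hS
  obtain ⟨B, f, hf, hinj, hB, htor, -⟩ := van_chain K hspan (i + 1) n h
  have hR : (LinearMap.range f).IsHomogeneous M.gr :=
    range_homogeneous _ _ ((isGrHom_iff _ _).1 hf)
  refine van_middle ((isGrHom_iff _ _).1 hf) (quotMk_grHom 𝒜 M.gr hR) hinj
    (fun b => by rw [← LinearMap.mem_ker, ker_quotMk]; exact LinearMap.mem_range)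
    (quotMk_surjective 𝒜 M.gr hR) (add_zero (n + 1)) hB (van_of_torsion ?_ i (n + 1))
  rw [eq_top_iff]
  intro y _
  obtain ⟨v, rfl⟩ := quotMk_surjective 𝒜 M.gr hR y
  obtain ⟨k, hk⟩ := htor v
  exact ⟨k, fun r hr => by
    rw [← map_smul]
    exact LinearMap.mem_ker.1 ((ker_quotMk 𝒜 M.gr hR).ge (hk r hr))⟩

/-- Mumford's lemma. -/
theorem regular_up {M : GrLC.GMod.{u} 𝒜} (S : Finset R) (hS : ∀ x ∈ S, x ∈ 𝒜 (1 : ℤ))
    (hspan : a.toIdeal ≤ Ideal.span (S : Set R)) (r : ℤ) (l : ℕ) (hl : 1 ≤ l)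
    (h : ∀ i : ℕ, l ≤ i → Van a M i (r + 1 - i)) :
    ∀ s, r < s → ∀ i : ℕ, l ≤ i → Van a M i (s - i) := by
  intro s hs
  induction s, (hs : r + 1 ≤ s) using Int.leInduction with
  | base => exact h
  | succ s hs ih =>
    intro i hi
    obtain ⟨i', rfl⟩ := Nat.exists_eq_add_of_le' (hl.trans hi)
    have := van_step S hS hspan i' (s - (i' + 1 : ℕ)) fun j => by
      convert ih (i' + 1 + j) (by omega) using 1
      push_cast
      ring
    convert this using 1
    ring

/-- Above the regularity a module is contained in `aM`. -/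
theorem piece_le_smul {M : GrLC.GMod.{u} 𝒜} (S : Finset R) (hS : ∀ x ∈ S, x ∈ 𝒜 (1 : ℤ))
    (hspan : a.toIdeal = Ideal.span (S : Set R)) (n : ℤ) (h0 : Van a M 0 n)
    (h : ∀ j : ℕ, Van a M (1 + j) (n - 1 - j)) :
    ∀ v ∈ M.gr n, v ∈ a.toIdeal • (⊤ : Submodule R M.carrier) := by
  obtain ⟨K⟩ := exists_linCx (a := a) M S hS
  obtain ⟨B, f, hf, hinj, hB, htor, hle⟩ := van_chain K hspan.le 1 (n - 1) h
  rw [sub_add_cancel] at hB
  -- pass through `M ⧸ range f`
  have hR : (LinearMap.range f).IsHomogeneous M.gr :=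
    range_homogeneous _ _ ((isGrHom_iff _ _).1 hf)
  let C := quotG 𝒜 M.gr hR
  have hCvan : Van a C 0 n :=
    van_right ((isGrHom_iff _ _).1 hf) (quotMk_grHom 𝒜 M.gr hR) hinj
      (fun b => by rw [← LinearMap.mem_ker, ker_quotMk]; exact LinearMap.mem_range)
      (quotMk_surjective 𝒜 M.gr hR) (add_zero n) h0 hB
  intro v hv
  have h1 : quotMk 𝒜 M.gr hR v = 0 := by
    refine eq_zero_of_van_zero hCvan (quotMk_grHom 𝒜 M.gr hR n v hv) ?_
    obtain ⟨k, hk⟩ := htor v
    exact ⟨k, fun r hr => by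
      rw [← map_smul]
      exact LinearMap.mem_ker.1 ((ker_quotMk 𝒜 M.gr hR).ge (hk r hr))⟩
  rw [hspan]
  exact hle ((ker_quotMk 𝒜 M.gr hR).le (LinearMap.mem_ker.2 h1))

end Chain

end GrInjLib
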