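import Mathlib
import Groth.Agent.GrInjLib.Mumford

/-! Consequences of Mumford's lemma for standard graded rings. -/

set_option autoImplicit false
set_option linter.style.haveILetI false
set_option linter.unusedSectionVars false
universe u

open DirectSum

namespace GrInjLib

variable {R : Type u} [CommRing R]
  {σ : Type u} [SetLike σ R] [AddSubgroupClass σ R] {𝒜 : ℤ → σ} [GradedRing 𝒜]
  {a : HomogeneousIdeal 𝒜}

theorem exists_linear_generators [IsNoetherianRing R]
    (hhom : a.toIdeal = Ideal.span (𝒜 1 : Set R)) :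
    ∃ S : Finset R, (∀ x ∈ S, x ∈ 𝒜 (1 : ℤ)) ∧ a.toIdeal = Ideal.span (S : Set R) := by
  obtain ⟨S, hS, hspan⟩ := (Submodule.fg_span_iff_fg_span_finset_subset (R := R) (𝒜 1 : Set R)).1
    (IsNoetherian.noetherian _)
  exact ⟨S, fun x hx => hS hx, hhom.trans hspan⟩

/-- A finitely generated graded module over a positively graded ring is bounded below. -/
theorem exists_lower_bound (hpos : ∀ n : ℤ, n < 0 → ∀ x ∈ 𝒜 n, x = 0) {X : Type u}
    [AddCommGroup X] [Module R X] (𝒳 : ℤ → AddSubgroup X) [Decomposition 𝒳]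
    [SetLike.GradedSMul 𝒜 𝒳] [Module.Finite R X] :
    ∃ L : ℤ, ∀ n, n < L → ∀ x ∈ 𝒳 n, x = 0 := by
  classical
  obtain ⟨s, hs⟩ := Module.Finite.fg_top (R := R) (M := X)
  let T : Finset (Σ _ : X, ℤ) := s.sigma fun x => DFinsupp.support (decompose 𝒳 x)
  obtain ⟨G, hG⟩ : ∃ G : ℕ, ∀ t ∈ T, -t.2 ≤ (G : ℤ) := ⟨T.sup fun t => (-t.2).toNat, fun t ht =>
    (Int.self_le_toNat _).trans (Int.ofNat_le.2 (Finset.le_sup (f := fun t => (-t.2).toNat) ht))⟩
  refine ⟨-(G : ℤ), fun n hn => ?_⟩
  suffices key : ∀ (x : X) (c : R), proj 𝒳 n (c • x) = 0 by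
    intro x hx
    have := key x 1
    rwa [one_smul, proj_of_mem 𝒳 hx] at this
  intro x
  have hx : x ∈ Submodule.span R (s : Set X) := by rw [hs]; trivial
  induction hx using Submodule.span_induction with
  | mem y hy =>
    intro c
    rw [← DirectSum.sum_support_decompose 𝒳 y, Finset.smul_sum, map_sum]
    refine Finset.sum_eq_zero fun g hg => ?_
    have ht : (⟨y, g⟩ : Σ _ : X, ℤ) ∈ T := Finset.mem_sigma.2 ⟨hy, hg⟩
    have hgG : -g ≤ (G : ℤ) := hG _ ht
    have h1 := proj_smul_hom 𝒜 𝒳 (SetLike.coe_mem (decompose 𝒳 y g)) c (n - g)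
    rw [sub_add_cancel] at h1
    rw [h1, hpos (n - g) (by omega) _ (SetLike.coe_mem _), zero_smul]
  | zero => intro c; simp
  | add u v _ _ hu hv => intro c; rw [smul_add, map_add, hu c, hv c, add_zero]
  | smul b u _ hu => intro c; rw [← mul_smul]; exact hu _

/-- A module vanishing in large degrees is torsion. -/
theorem gam_eq_top_of_eventually_zero (hhom : a.toIdeal = Ideal.span (𝒜 1 : Set R))
    {X : Type u} [AddCommGroup X] [Module R X] (𝒳 : ℤ → AddSubgroup X) [Decomposition 𝒳]
    [SetLike.GradedSMul 𝒜 𝒳] (h : ∃ n₀ : ℤ, ∀ n, n₀ ≤ n → ∀ x ∈ 𝒳 n, x = 0) :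
    GrLC.gam a.toIdeal X = ⊤ := by
  obtain ⟨n₀, hn₀⟩ := h
  have key : ∀ (k : ℕ) (g : ℤ), n₀ ≤ g + k → ∀ x ∈ 𝒳 g, ∀ r ∈ a.toIdeal ^ k, r • x = 0 := by
    intro k
    induction k with
    | zero =>
      intro g hg x hx r _
      rw [hn₀ g (by simpa using hg) x hx, smul_zero]
    | succ k ih =>
      intro g hg x hx r hr
      rw [pow_succ] at hr
      refine Submodule.mul_induction_on hr (fun s hs t ht => ?_)
        (fun u v hu hv => by rw [add_smul, hu, hv, add_zero])
      rw [hhom] at ht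
      revert s
      induction ht using Submodule.span_induction with
      | mem y hy =>
        intro s hs
        rw [mul_smul]
        exact ih (1 + g) (by push_cast at hg; omega) _ (smul_mem 𝒜 𝒳 hy hx) s hs
      | zero => intro s _; simp
      | add u v _ _ hu hv => intro s hs; rw [mul_add, add_smul, hu s hs, hv s hs, add_zero]
      | smul c u _ hu =>
        intro s hs
        rw [smul_eq_mul, mul_left_comm, mul_smul, hu s hs, smul_zero]
  rw [eq_top_iff]
  intro x hx
  clear hx
  induction x using DirectSum.Decomposition.inductionOn 𝒳 with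
  | zero => exact zero_mem _
  | @homogeneous g y => exact ⟨(n₀ - g).toNat, key _ g (by omega) _ y.2⟩
  | add u v hu hv => exact add_mem hu hv

/-- Dividing out the torsion leaves no torsion. -/
theorem gam_quot_gam [IsNoetherianRing R] (I : Ideal R) {X : Type u} [AddCommGroup X] [Module R X]
    {Y : Type u} [AddCommGroup Y] [Module R Y] (π : X →ₗ[R] Y) (hπ : Function.Surjective π)
    (hker : LinearMap.ker π = GrLC.gam I X) : GrLC.gam I Y = ⊥ := by
  refine (Submodule.eq_bot_iff _).2 fun y ⟨k, hk⟩ => ?_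
  obtain ⟨x, rfl⟩ := hπ y
  obtain ⟨s, hs⟩ : (I ^ k).FG := IsNoetherian.noetherian _
  have hgen : ∀ r ∈ s, ∃ l, ∀ t ∈ I ^ l, t • r • x = 0 := fun r hr => by
    have h0 : π (r • x) = 0 := by
      rw [map_smul]
      exact hk r (hs.le (Submodule.subset_span hr))
    exact hker.le (LinearMap.mem_ker.2 h0)
  choose! l hl using hgen
  refine LinearMap.mem_ker.1 (hker.ge ⟨s.sup l + k, fun r hr => ?_⟩)
  rw [pow_add] at hr
  refine Submodule.mul_induction_on hr (fun t ht u hu => ?_)
    (fun u v hu hv => by rw [add_smul, hu, hv, add_zero])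
  rw [← hs] at hu
  revert t
  induction hu using Submodule.span_induction with
  | mem w hw =>
    intro t ht
    rw [mul_smul]
    exact hl w hw t (Ideal.pow_le_pow_right (Finset.le_sup hw) ht)
  | zero => intro t _; simp
  | add v w _ _ hv hw => intro t ht; rw [mul_add, add_smul, hv t ht, hw t ht, add_zero]
  | smul c v _ hv => intro t ht; rw [smul_eq_mul, mul_left_comm, mul_smul, hv t ht, smul_zero]

section Main

variable [IsNoetherianRing R]

/-- A module is generated in the degrees in which Mumford's criterion fails. -/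
theorem mem_of_generated (hpos : ∀ n : ℤ, n < 0 → ∀ x ∈ 𝒜 n, x = 0)
    (hhom : a.toIdeal = Ideal.span (𝒜 1 : Set R)) (M : GrLC.GMod.{u} 𝒜)
    [Module.Finite R M.carrier] (W : Submodule R M.carrier)
    (hW : ∀ n : ℤ, (∀ v ∈ M.gr n, v ∈ W) ∨
      (Van a M 0 n ∧ ∀ j : ℕ, Van a M (1 + j) (n - 1 - j))) : W = ⊤ := by
  obtain ⟨S, hS, hspan⟩ := exists_linear_generators hhom
  obtain ⟨L, hL⟩ := exists_lower_bound hpos M.gr
  suffices key : ∀ n : ℤ, L ≤ n + 1 → ∀ v ∈ M.gr n, v ∈ W by
    rw [eq_top_iff]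
    intro v hv
    clear hv
    induction v using DirectSum.Decomposition.inductionOn M.gr with
    | zero => exact zero_mem _
    | @homogeneous g y =>
      by_cases hg : L ≤ g + 1
      · exact key g hg _ y.2
      · rw [hL g (by omega) _ y.2]; exact zero_mem _
    | add u w hu hw => exact add_mem hu hw
  intro n hn
  induction n, (show L - 1 ≤ n by omega) using Int.leInduction with
  | base =>
    intro v hv
    rw [hL _ (by omega) v hv]
    exact zero_mem _
  | succ n hn' ih =>
    intro v hv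
    rcases hW (n + 1) with h | ⟨h0, h1⟩
    · exact h v hv
    suffices key : ∀ w ∈ a.toIdeal • (⊤ : Submodule R M.carrier), proj M.gr (n + 1) w ∈ W by
      have := key v (piece_le_smul S hS hspan (n + 1) h0 h1 v hv)
      rwa [proj_of_mem M.gr hv] at this
    intro w hw
    refine Submodule.smul_induction_on hw (fun r hr z _ => ?_)
      (fun u z hu hz => by rw [map_add]; exact add_mem hu hz)
    rw [hhom] at hr
    revert z
    induction hr using Submodule.span_induction with
    | mem y hy =>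
      intro z _
      rw [add_comm n 1, proj_smul 𝒜 M.gr hy]
      exact W.smul_mem y (ih (by omega) _ (proj_mem M.gr n z))
    | zero => intro z _; simp
    | add u u' _ _ hu hu' =>
      intro z hz
      rw [add_smul, map_add]
      exact add_mem (hu z hz) (hu' z hz)
    | smul c u _ hu =>
      intro z _
      rw [smul_eq_mul, mul_comm, mul_smul]
      exact hu (c • z) Submodule.mem_top

/-- Vanishing of all higher local cohomology means vanishing in large degrees. -/
theorem eventually_zero_of_vanishing (hpos : ∀ n : ℤ, n < 0 → ∀ x ∈ 𝒜 n, x = 0)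
    (ha : a.toIdeal = Ideal.span (⋃ n ∈ Set.Ioi (0 : ℤ), (𝒜 n : Set R)))
    (hhom : a.toIdeal = Ideal.span (𝒜 1 : Set R)) (M : GrLC.GMod.{u} 𝒜)
    [Module.Finite R M.carrier] (h : ∀ i g, Van a M (i + 1) g) :
    ∃ n₀ : ℤ, ∀ n, n₀ ≤ n → ∀ x ∈ M.gr n, x = 0 := by
  haveI : IsNoetherian R M.carrier := isNoetherian_of_isNoetherianRing_of_finite R M.carrier
  have hT : (GrLC.gam a.toIdeal M.carrier).IsHomogeneous M.gr := gam_homogeneous M.gr a
  let T := subG 𝒜 M.gr hT
  let Y := quotG 𝒜 M.gr hT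
  haveI : Module.Finite R Y.carrier :=
    Module.Finite.of_surjective (quotMk 𝒜 M.gr hT) (quotMk_surjective 𝒜 M.gr hT)
  have hTtor : GrLC.gam a.toIdeal T.carrier = ⊤ := by
    rw [eq_top_iff]
    intro x _
    obtain ⟨k, hk⟩ := subIncl_mem 𝒜 M.gr hT x
    exact ⟨k, fun r hr => subIncl_injective 𝒜 M.gr hT (by rw [map_smul, map_zero, hk r hr])⟩
  have hYtor : GrLC.gam a.toIdeal Y.carrier = ⊥ :=
    gam_quot_gam a.toIdeal (quotMk 𝒜 M.gr hT) (quotMk_surjective 𝒜 M.gr hT) (ker_quotMk 𝒜 M.gr hT)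
  have hY0 : ∀ g, Van a Y 0 g := fun g E => by
    obtain ⟨φ, hφ⟩ := exists_gam_piece_surjective E a g
    refine (Submodule.eq_bot_iff _).2 fun z hz => ?_
    obtain ⟨⟨y, hy1, hy2⟩, hy⟩ := hφ ⟨z, hz⟩
    have h0 : y = 0 := (Submodule.mem_bot R).1 (hYtor.le hy1)
    have := congrArg Subtype.val hy
    rw [show (⟨y, hy1, hy2⟩ :
      ↥((GrLC.gam a.toIdeal Y.carrier).restrictScalars (GrLC.deg0 𝒜) ⊓ GrLC.comp 𝒜 Y.gr g)) = 0
      from Subtype.ext h0, map_zero] at this
    exact this.symm
  have hY1 : ∀ i g, Van a Y (i + 1) g := fun i g =>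
    van_right ((isGrHom_iff _ _).1 (subIncl_grHom 𝒜 M.gr hT)) (quotMk_grHom 𝒜 M.gr hT)
      (subIncl_injective 𝒜 M.gr hT)
      (fun b => by rw [← LinearMap.mem_ker, ker_quotMk, ← LinearMap.mem_range, range_subIncl])
      (quotMk_surjective 𝒜 M.gr hT) (add_zero g) (h i g) (van_of_torsion hTtor (i + 1) g)
  have hbot := mem_of_generated hpos hhom Y ⊥ fun n => Or.inr ⟨hY0 n, fun j => by
    rw [add_comm 1 j]; exact hY1 j _⟩
  have htor : GrLC.gam a.toIdeal M.carrier = ⊤ := by
    rw [eq_top_iff]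
    intro x _
    exact (ker_quotMk 𝒜 M.gr hT).le (LinearMap.mem_ker.2
      ((Submodule.mem_bot R).1 (hbot.ge (Submodule.mem_top (x := quotMk 𝒜 M.gr hT x)))))
  exact torsion_piece_eventually_zero 𝒜 hpos a ha M.gr htor

end Main

end GrInjLib
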