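import Mathlib
import Groth.Agent.GrInjLib.Reg

/-! Regularity along a quasi-regular linear form. -/

set_option autoImplicit false
set_option linter.style.haveILetI false
set_option linter.unusedSectionVars false
universe u

open DirectSum

namespace GrInjLib

section Adapt

variable {ι : Type} [AddCommGroup ι] [DecidableEq ι] {R : Type u} [CommRing R]
  {σ : Type u} [SetLike σ R] [AddSubgroupClass σ R] {𝒜 : ι → σ} [GradedRing 𝒜]
  {M : Type u} [AddCommGroup M] [Module R M] {τ : Type u} [SetLike τ M] [AddSubgroupClass τ M]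
  (ℳ : ι → τ) [Decomposition ℳ] [SetLike.GradedSMul 𝒜 ℳ]

/-- The pieces as additive subgroups. -/
def addPieces : ι → AddSubgroup M := fun g => AddSubgroup.ofClass (ℳ g)

theorem addPieces_isInternal : DirectSum.IsInternal (addPieces ℳ) := by
  classical
  refine isInternal_of_proj _ (fun g =>
    { toFun := fun x => (decompose ℳ x g : M)
      map_zero' := by simp
      map_add' := fun x y => by simp }) (fun g x hx => decompose_of_mem_same ℳ hx)
    (fun g h hne x hx => decompose_of_mem_ne ℳ hx hne) (fun x => ?_)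
  rw [← DirectSum.sum_support_decompose ℳ x]
  exact sum_mem fun g _ => AddSubgroup.mem_iSup_of_mem g (SetLike.coe_mem (decompose ℳ x g))

instance addPiecesGradedSMul : SetLike.GradedSMul 𝒜 (addPieces ℳ) :=
  ⟨fun {a b r m} hr hm => SetLike.GradedSMul.smul_mem (A := 𝒜) (B := ℳ) hr hm⟩

variable (𝒜) in
/-- A graded module as an object. -/
noncomputable def addG : GrLC.GMod.{u} 𝒜 :=
  { carrier := M, gr := addPieces ℳ, dec := (addPieces_isInternal ℳ).chooseDecomposition }

/-- A resolution, with the pieces as additive subgroups. -/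
noncomputable def addRes (E : GrLC.StarInjRes 𝒜 ℳ) : GrLC.StarInjRes 𝒜 (addG 𝒜 ℳ).gr :=
  { X := E.X, d := E.d, ε := E.ε, d_grHom := E.d_grHom, ε_grHom := E.ε_grHom
    ε_injective := E.ε_injective, exact_zero := E.exact_zero, exact_succ := E.exact_succ
    starInj := E.starInj }

variable {ℳ}

theorem van_iff (E : GrLC.StarInjRes 𝒜 ℳ) (a : HomogeneousIdeal 𝒜) (i : ℕ) (g : ι) :
    Van a (addG 𝒜 ℳ) i g ↔ E.Hcomp a i g = ⊥ :=
  ⟨fun h => h (addRes ℳ E), fun h => Van.of_res (addRes ℳ E) h⟩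

end Adapt

variable {R : Type u} [CommRing R]
  {σ : Type u} [SetLike σ R] [AddSubgroupClass σ R] {𝒜 : ℤ → σ} [GradedRing 𝒜]
  {a : HomogeneousIdeal 𝒜}

theorem van_endDeg {M : GrLC.GMod.{u} 𝒜} (E : GrLC.StarInjRes 𝒜 M.gr) (i : ℕ) (d : ℤ) :
    GrLC.endDeg (E.Hgr a i) ≤ ((d : WithTop ℤ) : WithBot (WithTop ℤ)) ↔
      ∀ n, d < n → Van a M i n := by
  constructor
  · intro h n hn
    refine Van.of_res E ?_
    by_contra hne
    have h1 : E.Hgr a i n ≠ ⊥ := fun hbot => hne ((Submodule.eq_bot_iff _).2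
      ((AddSubgroup.eq_bot_iff_forall _).1 hbot))
    have h2 : ((n : WithTop ℤ) : WithBot (WithTop ℤ)) ≤ ((d : WithTop ℤ) : WithBot (WithTop ℤ)) :=
      le_trans (le_iSup₂ (f := fun (g : ℤ) (_ : E.Hgr a i g ≠ ⊥) =>
        ((g : WithTop ℤ) : WithBot (WithTop ℤ))) n h1) h
    rw [WithBot.coe_le_coe, WithTop.coe_le_coe] at h2
    omega
  · intro h
    refine iSup₂_le fun n hn => ?_
    rw [WithBot.coe_le_coe, WithTop.coe_le_coe]
    by_contra hlt
    exact hn ((AddSubgroup.eq_bot_iff_forall _).2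
      ((Submodule.eq_bot_iff _).1 (h n (by omega) E)))

/-- A module of finite length vanishes in large degrees. -/
theorem eventually_zero_of_artinian (hpos : ∀ n : ℤ, n < 0 → ∀ x ∈ 𝒜 n, x = 0)
    {X : Type u} [AddCommGroup X] [Module R X] (𝒳 : ℤ → AddSubgroup X) [Decomposition 𝒳]
    [SetLike.GradedSMul 𝒜 𝒳] [IsArtinian R X] :
    ∃ n₀ : ℤ, ∀ n, n₀ ≤ n → ∀ x ∈ 𝒳 n, x = 0 := by
  classical
  let P : ℕ → Submodule R X := fun k => Submodule.span R (⋃ g ∈ Set.Ici (k : ℤ), (𝒳 g : Set X))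
  have hmono : ∀ i j, i ≤ j → P j ≤ P i := fun i j h =>
    Submodule.span_mono (Set.biUnion_subset_biUnion_left fun g hg =>
      le_trans (by exact_mod_cast h) (Set.mem_Ici.1 hg))
  obtain ⟨n, hn⟩ := IsArtinian.monotone_stabilizes (R := R) (M := X)
    ⟨fun k => OrderDual.toDual (P k), fun i j h => hmono i j h⟩
  refine ⟨n, fun g hg x hx => ?_⟩
  have h2 : P n = P ((g + 1).toNat) := hn (g + 1).toNat (by omega)
  have hxP : x ∈ P ((g + 1).toNat) := h2.le (Submodule.subset_span (Set.mem_biUnion hg hx))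
  suffices key : ∀ y ∈ P ((g + 1).toNat), ∀ c : R, proj 𝒳 g (c • y) = 0 by
    have := key x hxP 1
    rwa [one_smul, proj_of_mem 𝒳 hx] at this
  intro y hy
  induction hy using Submodule.span_induction with
  | mem z hz =>
    intro c
    obtain ⟨b, hb, hzb⟩ := Set.mem_iUnion₂.1 hz
    have hb' : ((g + 1).toNat : ℤ) ≤ b := hb
    have h1 := proj_smul_hom 𝒜 𝒳 hzb c (g - b)
    rw [sub_add_cancel] at h1
    rw [h1, hpos (g - b) (by omega) _ (SetLike.coe_mem _), zero_smul]
  | zero => intro c; simp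
  | add u v _ _ hu hv => intro c; rw [smul_add, map_add, hu c, hv c, add_zero]
  | smul b u _ hu => intro c; rw [← mul_smul]; exact hu _

section Main

variable [IsNoetherianRing R] (hpos : ∀ n : ℤ, n < 0 → ∀ x ∈ 𝒜 n, x = 0)
  (hhom : a.toIdeal = Ideal.span (𝒜 1 : Set R)) {M N : GrLC.GMod.{u} 𝒜} {x : R}
  (hx : x ∈ 𝒜 (1 : ℤ)) (hq : IsFiniteLength R ↥(Submodule.torsionBy R M.carrier x))
  {π : M.carrier →ₗ[R] N.carrier} (hπ : Function.Surjective π) (hπg : GrLC.IsGrHom M.gr N.gr π)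
  (hker : LinearMap.ker π = LinearMap.range (x • (LinearMap.id : M.carrier →ₗ[R] M.carrier)))

include hpos hhom hx hq hπ hπg hker in
/-- The two short exact sequences of a quasi-regular linear form, as consequences for vanishing. -/
theorem van_quasiRegular :
    ∃ Q : GrLC.GMod.{u} 𝒜,
      (∀ i g, Van a M i g → Van a Q i g) ∧
      (∀ i g, Van a Q (i + 1) g → Van a M (i + 1) g) ∧
      (∀ i g, Van a M i g → Van a Q (i + 1) (g - 1) → Van a N i g) ∧
      (∀ i g, Van a N i (g + 1) → Van a M (i + 1) (g + 1) → Van a Q (i + 1) g) := by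
  let f : M.carrier →ₗ[R] M.carrier := x • LinearMap.id
  have hf : GrLC.IsGrHomDeg M.gr M.gr f 1 := fun g z hz => by
    show x • z ∈ M.gr (g + 1)
    rw [add_comm]
    exact smul_mem 𝒜 M.gr hx hz
  have hK : (LinearMap.ker f).IsHomogeneous M.gr := ker_homogeneous M.gr M.gr hf
  let K := subG 𝒜 M.gr hK
  let Q := quotG 𝒜 M.gr hK
  haveI : IsArtinian R ↥(Submodule.torsionBy R M.carrier x) :=
    (isFiniteLength_iff_isNoetherian_isArtinian.1 hq).2
  have hKT : Submodule.torsionBy R M.carrier x = LinearMap.ker f := rfl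
  haveI : IsArtinian R K.carrier :=
    inferInstanceAs (IsArtinian R ↥(Submodule.torsionBy R M.carrier x))
  have hKtor : GrLC.gam a.toIdeal K.carrier = ⊤ :=
    gam_eq_top_of_eventually_zero hhom K.gr (eventually_zero_of_artinian hpos K.gr)
  have haI := (isGrHom_iff K.gr M.gr).1 (subIncl_grHom 𝒜 M.gr hK)
  have hexa : ∀ b, quotMk 𝒜 M.gr hK b = 0 ↔ ∃ y, subIncl 𝒜 M.gr hK y = b := fun b => by
    rw [← LinearMap.mem_ker, ker_quotMk, ← LinearMap.mem_range, range_subIncl]
  let fb : Q.carrier →ₗ[R] M.carrier := (LinearMap.ker f).liftQ f le_rfl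
  have hfb : ∀ z, fb (quotMk 𝒜 M.gr hK z) = x • z := fun z => rfl
  have hfbg : GrLC.IsGrHomDeg Q.gr M.gr fb 1 := by
    rintro g _ ⟨z, hz, rfl⟩
    exact hf g z hz
  have hfbinj : Function.Injective fb :=
    LinearMap.ker_eq_bot.1 (Submodule.ker_liftQ_eq_bot _ _ _ le_rfl)
  have hexb : ∀ b, π b = 0 ↔ ∃ y, fb y = b := fun b => by
    refine (SetLike.ext_iff.1 hker b).trans ⟨?_, ?_⟩
    · rintro ⟨z, hz⟩
      exact ⟨quotMk 𝒜 M.gr hK z, hz⟩
    · rintro ⟨y, hy⟩
      obtain ⟨z, rfl⟩ := quotMk_surjective 𝒜 M.gr hK y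
      exact ⟨z, hy⟩
  refine ⟨Q, fun i g h => ?_, fun i g h => ?_, fun i g h1 h2 => ?_, fun i g h1 h2 => ?_⟩
  · exact van_right haI (quotMk_grHom 𝒜 M.gr hK) (subIncl_injective _ _ _) hexa
      (quotMk_surjective _ _ _) (add_zero g) h (van_of_torsion hKtor i g)
  · exact van_middle haI (quotMk_grHom 𝒜 M.gr hK) (subIncl_injective _ _ _) hexa
      (quotMk_surjective _ _ _) (add_zero g) (van_of_torsion hKtor i g) h
  · exact van_right hfbg hπg hfbinj hexb hπ (sub_add_cancel g 1) h1 h2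
  · exact van_left hfbg hπg hfbinj hexb hπ rfl h1 h2

include hpos hhom hx hq hπ hπg hker in
theorem weaklyRegular_quotient (d : ℤ) (hM : ∀ i : ℕ, 0 < i → Van a M i (d - i + 1)) (i : ℕ)
    (hi : 0 < i) : Van a N i (d - i + 1) := by
  obtain ⟨Q, h1, -, h3, -⟩ := van_quasiRegular hpos hhom hx hq hπ hπg hker
  refine h3 i _ (hM i hi) (h1 (i + 1) _ ?_)
  convert hM (i + 1) (by omega) using 1
  push_cast
  ring

include hpos hhom hx hq hπ hπg hker in
theorem regular_iff (ha : a.toIdeal = Ideal.span (⋃ n ∈ Set.Ioi (0 : ℤ), (𝒜 n : Set R)))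
    [Module.Finite R M.carrier] (d : ℤ) :
    ((∀ n, d < n → Van a M 0 n) ∧ ∀ i : ℕ, 0 < i → Van a M i (d - i + 1)) ↔
      (((∀ n, d < n → Van a N 0 n) ∧ ∀ i : ℕ, 0 < i → Van a N i (d - i + 1)) ∧
        ∀ n, d < n → Van a M 0 n) := by
  obtain ⟨Q, h1, h2, h3, h4⟩ := van_quasiRegular hpos hhom hx hq hπ hπg hker
  obtain ⟨S, hS, hspan⟩ := exists_linear_generators hhom
  constructor
  · rintro ⟨hM0, hM⟩
    have hup := regular_up (M := M) S hS hspan.le d 1 le_rfl fun i hi => by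
      convert hM i hi using 1
      ring
    refine ⟨⟨fun n hn => h3 0 n (hM0 n hn) (h1 1 (n - 1) ?_),
      weaklyRegular_quotient hpos hhom hx hq hπ hπg hker d hM⟩, hM0⟩
    simpa using hup n hn 1 le_rfl
  · rintro ⟨⟨hN0, hN⟩, hM0⟩
    refine ⟨hM0, ?_⟩
    have hNup := regular_up (M := N) S hS hspan.le d 1 le_rfl fun i hi => by
      convert hN i hi using 1
      ring
    have hNall : ∀ (i : ℕ) (g : ℤ), d < g + i → Van a N i g := by
      rintro (_ | i) g hg
      · exact hN0 g (by simpa using hg)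
      · have := hNup (g + (i + 1 : ℕ)) hg (i + 1) (by omega)
        simpa using this
    intro i hi
    obtain ⟨i, rfl⟩ := Nat.exists_eq_add_of_le' hi
    obtain ⟨E⟩ := exists_starInjRes 𝒜 M.gr
    obtain ⟨r, hr⟩ := (pieces_finite_vanish hpos a ha (i + 1) M E).2
    suffices key : ∀ (k : ℕ) (g : ℤ), r ≤ g + k → d ≤ g + i → Van a M (i + 1) g from
      key (r - (d - (i + 1 : ℕ) + 1)).toNat _ (by omega) (by push_cast; omega)
    intro k
    induction k with
    | zero => exact fun g hg _ => Van.of_res E (hr g (by simpa using hg))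
    | succ k ih =>
      intro g hg hd
      refine h2 i g (h4 i g (hNall i (g + 1) ?_) (ih (g + 1) ?_ ?_))
      · omega
      · push_cast at hg; omega
      · omega

end Main

end GrInjLib
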